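import Mathlib.GroupTheory.Index
import Mathlib.GroupTheory.GroupAction.Quotient
import Mathlib.Algebra.Group.ConjFinite
import Mathlib.GroupTheory.Subgroup.Centralizer
import Mathlib.Tactic.Group
import Mathlib.Tactic.Ring

set_option autoImplicit false

namespace Cfsg.Agent.Lib.Helper17

open MulAction

/-- `g H` is fixed by `x` iff `g⁻¹ x g ∈ H`. -/
theorem mk_mem_fixedBy_iff {G : Type*} [Group G] (H : Subgroup G) (x g : G) :
    ((g : G) : G ⧸ H) ∈ fixedBy (G ⧸ H) x ↔ g⁻¹ * x * g ∈ H := by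
  rw [mem_fixedBy, MulAction.Quotient.smul_coe, QuotientGroup.eq, smul_eq_mul]
  rw [← inv_mem_iff (x := g⁻¹ * x * g)]
  have : (g⁻¹ * x * g)⁻¹ = (x * g)⁻¹ * g := by group
  rw [this]

/-- The set of `g` with `g⁻¹ x g ∈ H` has `|Fix(x)| * |H|` elements. -/
theorem card_conj_mem_eq_fixedBy {G : Type*} [Group G] [Finite G] (H : Subgroup G) (x : G) :
    Nat.card {g : G // g⁻¹ * x * g ∈ H} = Nat.card (fixedBy (G ⧸ H) x) * Nat.card H := by
  have e := QuotientGroup.preimageMkEquivSubgroupProdSet H (fixedBy (G ⧸ H) x)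
  have h1 : Nat.card {g : G // g⁻¹ * x * g ∈ H} =
      Nat.card (QuotientGroup.mk ⁻¹' (fixedBy (G ⧸ H) x) : Set G) := by
    apply Nat.card_congr
    apply Equiv.subtypeEquivRight
    intro g
    rw [Set.mem_preimage, mk_mem_fixedBy_iff]
  rw [h1, Nat.card_congr e, Nat.card_prod, mul_comm]

/-- The set of `g` with `g⁻¹ x g ∈ H` has `|x^G ∩ H| * |C_G(x)|` elements. -/
theorem card_conj_mem_eq_centralizer {G : Type*} [Group G] [Finite G] (H : Subgroup G) (x : G) :
    Nat.card {g : G // g⁻¹ * x * g ∈ H} =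
      Nat.card {y : G // IsConj x y ∧ y ∈ H} * Nat.card (Subgroup.centralizer ({x} : Set G)) := by
  classical
  rw [← Nat.card_prod]
  symm
  -- choose a conjugating element for each conjugate
  have hk : ∀ y : {y : G // IsConj x y ∧ y ∈ H}, ∃ k : G, k * x * k⁻¹ = y.1 :=
    fun y => isConj_iff.1 y.2.1
  choose k hk using hk
  let f : {y : G // IsConj x y ∧ y ∈ H} × Subgroup.centralizer ({x} : Set G) →
      {g : G // g⁻¹ * x * g ∈ H} := fun yc =>
    ⟨yc.2.1 * (k yc.1)⁻¹, by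
      have hc : yc.2.1 * x = x * yc.2.1 := Subgroup.mem_centralizer_singleton_iff.1 yc.2.2
      have : (yc.2.1 * (k yc.1)⁻¹)⁻¹ * x * (yc.2.1 * (k yc.1)⁻¹) = yc.1.1 := by
        rw [← hk yc.1]
        have : (yc.2.1 * (k yc.1)⁻¹)⁻¹ * x * (yc.2.1 * (k yc.1)⁻¹) =
            k yc.1 * (yc.2.1⁻¹ * (x * yc.2.1)) * (k yc.1)⁻¹ := by group
        rw [this, ← hc]
        group
      rw [this]
      exact yc.1.2.2⟩
  have hfval : ∀ yc, (f yc).1⁻¹ * x * (f yc).1 = yc.1.1 := by
    intro yc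
    have hc : yc.2.1 * x = x * yc.2.1 := Subgroup.mem_centralizer_singleton_iff.1 yc.2.2
    show (yc.2.1 * (k yc.1)⁻¹)⁻¹ * x * (yc.2.1 * (k yc.1)⁻¹) = yc.1.1
    rw [← hk yc.1]
    have : (yc.2.1 * (k yc.1)⁻¹)⁻¹ * x * (yc.2.1 * (k yc.1)⁻¹) =
        k yc.1 * (yc.2.1⁻¹ * (x * yc.2.1)) * (k yc.1)⁻¹ := by group
    rw [this, ← hc]
    group
  apply Nat.card_eq_of_bijective f
  constructor
  · intro a b hab
    have h1 : a.1 = b.1 := by
      apply Subtype.ext
      rw [← hfval a, ← hfval b, hab]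
    have h2 : (f a).1 = (f b).1 := by rw [hab]
    have h3 : a.2.1 * (k a.1)⁻¹ = b.2.1 * (k b.1)⁻¹ := h2
    rw [h1] at h3
    have h4 : a.2 = b.2 := Subtype.ext (mul_right_cancel h3)
    exact Prod.ext h1 h4
  · intro g
    have hy : IsConj x (g.1⁻¹ * x * g.1) ∧ g.1⁻¹ * x * g.1 ∈ H := by
      refine ⟨isConj_iff.2 ⟨g.1⁻¹, by simp⟩, g.2⟩
    let y : {y : G // IsConj x y ∧ y ∈ H} := ⟨g.1⁻¹ * x * g.1, hy⟩
    have hc : g.1 * k y ∈ Subgroup.centralizer ({x} : Set G) := by
      rw [Subgroup.mem_centralizer_singleton_iff]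
      have h1 : k y * x * (k y)⁻¹ = g.1⁻¹ * x * g.1 := hk y
      have h2 : k y * x = g.1⁻¹ * x * g.1 * k y := by
        rw [← h1]; group
      calc g.1 * k y * x = g.1 * (k y * x) := by group
        _ = g.1 * (g.1⁻¹ * x * g.1 * k y) := by rw [h2]
        _ = x * (g.1 * k y) := by group
    refine ⟨(y, ⟨g.1 * k y, hc⟩), ?_⟩
    apply Subtype.ext
    show g.1 * k y * (k y)⁻¹ = g.1
    group

/-- `|x^G| * |C_G(x)| = |G|`. -/
theorem card_conj_mul_card_centralizer {G : Type*} [Group G] [Finite G] (x : G) :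
    Nat.card {y : G // IsConj x y} * Nat.card (Subgroup.centralizer ({x} : Set G)) = Nat.card G := by
  have h := card_conj_mem_eq_centralizer (⊤ : Subgroup G) x
  have h1 : Nat.card {g : G // g⁻¹ * x * g ∈ (⊤ : Subgroup G)} = Nat.card G := by
    apply Nat.card_congr
    exact Equiv.subtypeUnivEquiv (fun g => Subgroup.mem_top _)
  have h2 : Nat.card {y : G // IsConj x y ∧ y ∈ (⊤ : Subgroup G)} = Nat.card {y : G // IsConj x y} := by
    apply Nat.card_congr
    apply Equiv.subtypeEquivRight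
    intro g
    simp
  rw [h1, h2] at h
  exact h.symm

/-- Fixed points of `x` on `G/H` times the class size equals index times `|x^G ∩ H|`. -/
theorem card_fixedBy_mul_card_conj {G : Type*} [Group G] [Finite G] (H : Subgroup G) (x : G) :
    Nat.card (fixedBy (G ⧸ H) x) * Nat.card {g : G // IsConj x g} =
      H.index * Nat.card {g : G // IsConj x g ∧ g ∈ H} := by
  have hA := card_conj_mem_eq_centralizer H x
  have hB := card_conj_mem_eq_fixedBy H x
  have hC := card_conj_mul_card_centralizer x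
  have hI := H.index_mul_card
  have hHpos : 0 < Nat.card H := Nat.card_pos
  have hCpos : 0 < Nat.card (Subgroup.centralizer ({x} : Set G)) := Nat.card_pos
  apply Nat.eq_of_mul_eq_mul_right (Nat.mul_pos hHpos hCpos)
  calc Nat.card (fixedBy (G ⧸ H) x) * Nat.card {g : G // IsConj x g} *
        (Nat.card H * Nat.card (Subgroup.centralizer ({x} : Set G)))
      = (Nat.card (fixedBy (G ⧸ H) x) * Nat.card H) *
        (Nat.card {g : G // IsConj x g} * Nat.card (Subgroup.centralizer ({x} : Set G))) := by ring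
    _ = Nat.card {g : G // g⁻¹ * x * g ∈ H} * Nat.card G := by rw [← hB, hC]
    _ = (H.index * Nat.card H) * (Nat.card {y : G // IsConj x y ∧ y ∈ H} *
          Nat.card (Subgroup.centralizer ({x} : Set G))) := by rw [hI, ← hA]; ring
    _ = _ := by ring

end Cfsg.Agent.Lib.Helper17
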