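import Mathlib.GroupTheory.Sylow
import Mathlib.GroupTheory.Index
import Mathlib.GroupTheory.Perm.Cycle.Type
import Mathlib.Algebra.Group.ConjFinite

set_option autoImplicit false

namespace Cfsg.Agent.Lib.Helper17

/-- Conjugation preserves the order of an element. -/
theorem orderOf_conj_eq {G : Type*} [Group G] (c a : G) : orderOf (c * a * c⁻¹) = orderOf a := by
  have := (MulAut.conj c).orderOf_eq a
  rwa [MulAut.conj_apply] at this

/-- Conjugate elements have the same order. -/
theorem orderOf_eq_of_isConj {G : Type*} [Group G] {a b : G} (h : IsConj a b) :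
    orderOf b = orderOf a := by
  obtain ⟨c, hc⟩ := isConj_iff.1 h
  rw [← hc, orderOf_conj_eq]

/-- Cauchy's theorem inside a subgroup. -/
theorem exists_mem_orderOf_eq_of_dvd_card {G : Type*} [Group G] [Finite G] (K : Subgroup G)
    (p : ℕ) [Fact p.Prime] (hdvd : p ∣ Nat.card K) : ∃ x ∈ K, orderOf x = p := by
  obtain ⟨x, hx⟩ := exists_prime_orderOf_dvd_card' p hdvd
  exact ⟨x.1, x.2, by rw [← hx, Subgroup.orderOf_coe]⟩

/-- The cyclic group generated by an element of order `p` is a `p`-group. -/
theorem isPGroup_zpowers_of_orderOf_eq {G : Type*} [Group G] {p : ℕ} (x : G)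
    (hx : orderOf x = p) : IsPGroup p (Subgroup.zpowers x) := by
  apply IsPGroup.of_card (n := 1)
  rw [Nat.card_zpowers, hx, pow_one]

/-- An element of order `p` lies in some Sylow `p`-subgroup. -/
theorem exists_sylow_mem_of_orderOf_eq {G : Type*} [Group G] {p : ℕ} [Fact p.Prime] (x : G)
    (hx : orderOf x = p) : ∃ P : Sylow p G, x ∈ (P : Subgroup G) := by
  obtain ⟨P, hP⟩ := (isPGroup_zpowers_of_orderOf_eq x hx).exists_le_sylow
  exact ⟨P, hP (Subgroup.mem_zpowers x)⟩

/-- A `p`-element normalizing a Sylow `p`-subgroup lies in it. -/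
theorem mem_sylow_of_mem_normalizer {G : Type*} [Group G] {p : ℕ} [Fact p.Prime]
    (P : Sylow p G) (x : G) (hx : IsPGroup p (Subgroup.zpowers x))
    (hxN : x ∈ Subgroup.normalizer ((P : Subgroup G) : Set G)) : x ∈ (P : Subgroup G) := by
  have h2 : Subgroup.zpowers x ⊓ Subgroup.normalizer ((P : Subgroup G) : Set G) =
      Subgroup.zpowers x ⊓ (P : Subgroup G) := hx.inf_normalizer_sylow P
  have : x ∈ Subgroup.zpowers x ⊓ Subgroup.normalizer ((P : Subgroup G) : Set G) :=
    ⟨Subgroup.mem_zpowers x, hxN⟩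
  rw [h2] at this
  exact this.2

end Cfsg.Agent.Lib.Helper17
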