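import Mathlib.GroupTheory.Sylow
import Mathlib.GroupTheory.Index
import Mathlib.GroupTheory.Subgroup.Simple

set_option autoImplicit false

namespace Cfsg.Agent.Lib.Helper17

/-- The order of a Sylow `p`-subgroup when `|G| = p^k * m` with `p ∤ m`. -/
theorem sylow_card_of_card_eq {G : Type*} [Group G] [Finite G] {p : ℕ} [hp : Fact p.Prime]
    (P : Sylow p G) {k m : ℕ} (h : Nat.card G = p ^ k * m) (hm : ¬ p ∣ m) :
    Nat.card (P : Subgroup G) = p ^ k := by
  have h1 : p ^ k ∣ Nat.card (P : Subgroup G) :=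
    P.pow_dvd_card_of_pow_dvd_card (h ▸ Dvd.intro _ rfl)
  obtain ⟨n, hn⟩ := IsPGroup.iff_card.mp P.isPGroup'
  have h2 : Nat.card (P : Subgroup G) ∣ p ^ k * m := h ▸ (P : Subgroup G).card_subgroup_dvd_card
  have h3 : Nat.card (P : Subgroup G) ∣ p ^ k := by
    rw [hn] at h2 ⊢
    exact (Nat.Coprime.pow_left n ((Nat.Prime.coprime_iff_not_dvd hp.out).2 hm)).dvd_of_dvd_mul_right h2
  exact Nat.dvd_antisymm h3 h1

/-- The index of a Sylow `p`-subgroup when `|G| = p^k * m` with `p ∤ m`. -/
theorem sylow_index_of_card_eq {G : Type*} [Group G] [Finite G] {p : ℕ} [hp : Fact p.Prime]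
    (P : Sylow p G) {k m : ℕ} (h : Nat.card G = p ^ k * m) (hm : ¬ p ∣ m) :
    (P : Subgroup G).index = m := by
  have h1 := sylow_card_of_card_eq P h hm
  have h2 := (P : Subgroup G).index_mul_card
  rw [h1, h, mul_comm] at h2
  exact Nat.eq_of_mul_eq_mul_left (pow_pos hp.out.pos k) h2

/-- The number of Sylow `p`-subgroups divides `m` when `|G| = p^k * m` with `p ∤ m`. -/
theorem card_sylow_dvd_of_card_eq {G : Type*} [Group G] [Finite G] {p : ℕ} [hp : Fact p.Prime]
    {k m : ℕ} (h : Nat.card G = p ^ k * m) (hm : ¬ p ∣ m) :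
    Nat.card (Sylow p G) ∣ m := by
  obtain ⟨P⟩ := (Sylow.nonempty : Nonempty (Sylow p G))
  rw [← sylow_index_of_card_eq P h hm]
  exact P.card_dvd_index

/-- `n_p * |N_G(P)| = |G|`. -/
theorem card_sylow_mul_card_normalizer {G : Type*} [Group G] [Finite G] {p : ℕ} [Fact p.Prime]
    (P : Sylow p G) :
    Nat.card (Sylow p G) * Nat.card (Subgroup.normalizer ((P : Subgroup G) : Set G)) = Nat.card G := by
  have h : Nat.card (Sylow p G) = (Subgroup.normalizer ((P : Subgroup G) : Set G)).index :=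
    P.card_eq_index_normalizer
  rw [h]
  exact Subgroup.index_mul_card _

/-- If there is only one Sylow `p`-subgroup it is normal. -/
theorem sylow_normal_of_card_eq_one {G : Type*} [Group G] [Finite G] {p : ℕ} [Fact p.Prime]
    (h : Nat.card (Sylow p G) = 1) (P : Sylow p G) : (P : Subgroup G).Normal := by
  have : Subsingleton (Sylow p G) := (Nat.card_eq_one_iff_unique.1 h).1
  exact P.normal_of_subsingleton

/-- In a simple group whose order is divisible by `p` but is not a power of `p`, the number of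
Sylow `p`-subgroups is not one. -/
theorem card_sylow_ne_one_of_simple {G : Type*} [Group G] [Finite G] [IsSimpleGroup G] {p : ℕ}
    [hp : Fact p.Prime] {k m : ℕ} (h : Nat.card G = p ^ k * m) (hm : ¬ p ∣ m) (hk : 0 < k)
    (hm1 : m ≠ 1) : Nat.card (Sylow p G) ≠ 1 := by
  intro h1
  obtain ⟨P⟩ := (Sylow.nonempty : Nonempty (Sylow p G))
  have hn := sylow_normal_of_card_eq_one h1 P
  have hc := sylow_card_of_card_eq P h hm
  rcases hn.eq_bot_or_eq_top with hb | ht
  · rw [hb, Subgroup.card_bot] at hc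
    have : 1 < p ^ k := Nat.one_lt_pow hk.ne' hp.out.one_lt
    omega
  · rw [ht, Subgroup.card_top, h] at hc
    have hpos : 0 < p ^ k := pow_pos hp.out.pos k
    have : m = 1 := by
      have h2 : p ^ k * m = p ^ k * 1 := by rw [hc, mul_one]
      exact Nat.eq_of_mul_eq_mul_left hpos h2
    exact hm1 this

end Cfsg.Agent.Lib.Helper17
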