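import Mathlib.GroupTheory.Sylow
import Mathlib.GroupTheory.Transfer
import Mathlib.GroupTheory.Subgroup.Simple
import Mathlib.GroupTheory.SpecificGroups.Cyclic
import Mathlib.GroupTheory.PGroup
import Mathlib.Data.Finite.Perm

set_option autoImplicit false

namespace Cfsg.Agent.Lib.Helper17

open Subgroup

/-- A commutative simple group has prime order. -/
theorem prime_card_of_simple_of_comm {G : Type*} [Group G] [Finite G] [IsSimpleGroup G]
    (h : IsMulCommutative G) : (Nat.card G).Prime := by
  let inst : CommGroup G := { ‹Group G› with mul_comm := h.is_comm.comm }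
  exact @IsSimpleGroup.prime_card G inst ‹IsSimpleGroup G›

/-- A simple group whose order is not prime is non-commutative. -/
theorem not_comm_of_simple_of_not_prime {G : Type*} [Group G] [Finite G] [IsSimpleGroup G]
    (h : ¬ (Nat.card G).Prime) : ¬ IsMulCommutative G :=
  fun hc => h (prime_card_of_simple_of_comm hc)

/-- A non-commutative simple group is not a `p`-group. -/
theorem not_isPGroup_of_simple {G : Type*} [Group G] [Finite G] [IsSimpleGroup G]
    (hG : ¬ IsMulCommutative G) (p : ℕ) [Fact p.Prime] : ¬ IsPGroup p G := by
  intro hp
  have : Nontrivial G := IsSimpleGroup.toNontrivial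
  have hc : Nontrivial (Subgroup.center G) := hp.center_nontrivial
  have hn : (Subgroup.center G).Normal := inferInstance
  rcases hn.eq_bot_or_eq_top with hb | ht
  · rw [hb] at hc
    exact not_nontrivial _ hc
  · apply hG
    refine ⟨⟨fun a b => ?_⟩⟩
    have ha : a ∈ Subgroup.center G := by rw [ht]; trivial
    exact ((Subgroup.mem_center_iff.1 ha) b).symm

/-- **Burnside's transfer theorem for simple groups**: in a non-commutative simple group whose order
is divisible by `p`, the normalizer of a Sylow `p`-subgroup is not contained in its centralizer. -/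
theorem not_normalizer_le_centralizer_of_simple {G : Type*} [Group G] [Finite G] [IsSimpleGroup G]
    (hG : ¬ IsMulCommutative G) {p : ℕ} [Fact p.Prime] (P : Sylow p G) (hdvd : p ∣ Nat.card G) :
    ¬ (normalizer ((P : Subgroup G) : Set G) ≤ centralizer ((P : Subgroup G) : Set G)) := by
  intro hP
  have hcomp := MonoidHom.ker_transferSylow_isComplement' P hP
  have hcard := hcomp.card_mul_card
  have hn : (MonoidHom.transferSylow P hP).ker.Normal := MonoidHom.normal_ker _
  rcases hn.eq_bot_or_eq_top with hb | ht
  · rw [hb, Subgroup.card_bot, one_mul] at hcard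
    apply not_isPGroup_of_simple hG p
    obtain ⟨n, hn⟩ := IsPGroup.iff_card.mp P.isPGroup'
    exact IsPGroup.of_card (n := n) (by rw [← hcard, hn])
  · rw [ht, Subgroup.card_top] at hcard
    have h1 : Nat.card (P : Subgroup G) = 1 := by
      have hpos : 0 < Nat.card G := Nat.card_pos
      have : Nat.card G * Nat.card (P : Subgroup G) = Nat.card G * 1 := by rw [hcard, mul_one]
      exact Nat.eq_of_mul_eq_mul_left hpos this
    have h2 := P.dvd_card_of_dvd_card hdvd
    rw [h1] at h2
    exact (Fact.out : p.Prime).one_lt.ne' (Nat.dvd_one.1 h2)

/-- The index of the centralizer in the normalizer divides the order of the automorphism group. -/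
theorem relIndex_centralizer_normalizer_dvd_card_mulAut {G : Type*} [Group G] (H : Subgroup G)
    [Finite H] :
    (centralizer (H : Set G)).relIndex (normalizer (H : Set G)) ∣ Nat.card (MulAut H) := by
  have key := Subgroup.card_dvd_of_injective _
    (QuotientGroup.kerLift_injective H.normalizerMonoidHom)
  rwa [normalizerMonoidHom_ker, ← index, ← relIndex] at key

/-- The index of the centralizer in the normalizer divides `|H|!`. -/
theorem relIndex_centralizer_normalizer_dvd_factorial {G : Type*} [Group G] (H : Subgroup G)
    [Finite H] :
    (centralizer (H : Set G)).relIndex (normalizer (H : Set G)) ∣ (Nat.card H).factorial := by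
  refine (relIndex_centralizer_normalizer_dvd_card_mulAut H).trans ?_
  rw [← Nat.card_perm]
  exact Subgroup.card_dvd_of_injective (MulAut.toPerm H) (fun a b hab => by
    apply MulEquiv.ext
    intro x
    have := congrArg (fun σ : Equiv.Perm H => σ x) hab
    exact this)

end Cfsg.Agent.Lib.Helper17
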