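import Cfsg.Agent.S0991
import Mathlib.GroupTheory.Sylow
import Mathlib.Data.Finite.Perm

set_option autoImplicit false

namespace Cfsg.Agent.Lib.Helper17

/-- If a non-commutative simple group has a proper subgroup of index `n`, then `2 * |G|` divides
`n!` (the group embeds in the alternating group of degree `n`). -/
theorem two_mul_card_dvd_factorial_index_of_simple {G : Type*} [Group G] [Finite G]
    [IsSimpleGroup G] (hG : ¬ IsMulCommutative G) (H : Subgroup G) (hH : H ≠ ⊤) :
    2 * Nat.card G ∣ (H.index).factorial := by
  obtain ⟨f, hf⟩ := Cfsg.Agent.S0991.result hG H hH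
  have h1 : Nat.card G ∣ Nat.card (alternatingGroup (Fin H.index)) :=
    Subgroup.card_dvd_of_injective f hf
  have h2 : 2 ≤ H.index := by
    have h0 : H.index ≠ 0 := Subgroup.index_ne_zero_of_finite
    have h1 : H.index ≠ 1 := fun h => hH (Subgroup.index_eq_one.1 h)
    omega
  have : Nontrivial (Fin H.index) := Fin.nontrivial_iff_two_le.2 h2
  have h3 : 2 * Nat.card (alternatingGroup (Fin H.index)) = (H.index).factorial := by
    rw [two_mul_nat_card_alternatingGroup, Nat.card_perm, Nat.card_fin]
  rw [← h3]
  exact Nat.mul_dvd_mul_left 2 h1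

/-- If a non-commutative simple group has more than one Sylow `p`-subgroup, then `2 * |G|`
divides `(n_p)!`. -/
theorem two_mul_card_dvd_factorial_card_sylow_of_simple {G : Type*} [Group G] [Finite G]
    [IsSimpleGroup G] (hG : ¬ IsMulCommutative G) {p : ℕ} [Fact p.Prime]
    (hn : Nat.card (Sylow p G) ≠ 1) :
    2 * Nat.card G ∣ (Nat.card (Sylow p G)).factorial := by
  obtain ⟨P⟩ := (Sylow.nonempty : Nonempty (Sylow p G))
  have h : Nat.card (Sylow p G) = (Subgroup.normalizer ((P : Subgroup G) : Set G)).index :=
    P.card_eq_index_normalizer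
  rw [h]
  apply two_mul_card_dvd_factorial_index_of_simple hG
  intro htop
  apply hn
  rw [h, htop, Subgroup.index_top]

end Cfsg.Agent.Lib.Helper17
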