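import Cfsg.Agent.S0989
import Cfsg.Agent.S0991
import Cfsg.Agent.Lib.Helper17.SimpleIndex
import Cfsg.Agent.Lib.Helper17.SylowCard
import Cfsg.Agent.Lib.Helper17.Burnside
import Mathlib.GroupTheory.SpecificGroups.Alternating.Simple
import Mathlib.GroupTheory.Transfer

set_option autoImplicit false

namespace Cfsg.Agent.Lib.Helper17

open Subgroup

/-- If a finite group `G` of order divisible by `p` acts faithfully on `p` or `p + 1` points,
then the normalizer of a Sylow `p`-subgroup has order dividing `p * (p - 1)`. -/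
theorem card_normalizer_dvd_of_injective_perm {G α : Type*} [Group G] [Finite G] [Fintype α]
    [DecidableEq α] (p : ℕ) [hp : Fact p.Prime]
    (hα : Fintype.card α = p ∨ Fintype.card α = p + 1) (φ : G →* Equiv.Perm α)
    (hφ : Function.Injective φ) (P : Sylow p G) (hP : p ∣ Nat.card G) :
    Nat.card (normalizer ((P : Subgroup G) : Set G)) ∣ p * (p - 1) := by
  have hpg : IsPGroup p ((P : Subgroup G).map φ) := P.isPGroup'.map φ
  obtain ⟨Q, hQ⟩ := hpg.exists_le_sylow
  have hNQ := Cfsg.Agent.S0989.result p hα Q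
  -- |Q| = p
  have hQdvd : Nat.card (Q : Subgroup (Equiv.Perm α)) ∣ p * (p - 1) := by
    rw [← hNQ]
    exact Subgroup.card_dvd_of_le le_normalizer
  obtain ⟨k, hk⟩ := IsPGroup.iff_card.mp Q.isPGroup'
  have hcardP : Nat.card ((P : Subgroup G).map φ) = Nat.card (P : Subgroup G) :=
    Subgroup.card_map_of_injective hφ
  have hPdvd : p ∣ Nat.card (P : Subgroup G) := P.dvd_card_of_dvd_card hP
  have hPQ : Nat.card (P : Subgroup G) ∣ Nat.card (Q : Subgroup (Equiv.Perm α)) := by
    rw [← hcardP]
    exact Subgroup.card_dvd_of_le hQ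
  have hk1 : k ≤ 1 := by
    by_contra hlt
    replace hlt : 2 ≤ k := by omega
    have h2 : p ^ 2 ∣ p * (p - 1) := by
      refine dvd_trans (pow_dvd_pow p hlt) ?_
      rw [← hk]
      exact hQdvd
    rw [pow_two] at h2
    have h3 : p ∣ p - 1 := Nat.dvd_of_mul_dvd_mul_left hp.out.pos h2
    have h4 : p ≤ p - 1 := Nat.le_of_dvd (by have := hp.out.two_le; omega) h3
    have := hp.out.two_le
    omega
  have hQp : Nat.card (Q : Subgroup (Equiv.Perm α)) = p := by
    have hk0 : k ≠ 0 := by
      rintro rfl
      rw [pow_zero] at hk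
      rw [hk] at hPQ
      have := Nat.dvd_one.1 (dvd_trans hPdvd hPQ)
      exact hp.out.one_lt.ne' this
    have : k = 1 := by omega
    rw [hk, this, pow_one]
  have hPp : Nat.card (P : Subgroup G) = p := by
    rw [hQp] at hPQ
    rcases (Nat.dvd_prime hp.out).1 hPQ with h | h
    · rw [h] at hPdvd
      exact absurd (Nat.dvd_one.1 hPdvd) hp.out.one_lt.ne'
    · exact h
  have hmapeq : (P : Subgroup G).map φ = (Q : Subgroup (Equiv.Perm α)) := by
    apply Subgroup.eq_of_le_of_card_ge hQ
    rw [hcardP, hPp, hQp]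
  have hle : (normalizer ((P : Subgroup G) : Set G)).map φ ≤
      normalizer ((Q : Subgroup (Equiv.Perm α)) : Set (Equiv.Perm α)) := by
    rw [← hmapeq]
    exact Subgroup.le_normalizer_map φ
  have h1 : Nat.card ((normalizer ((P : Subgroup G) : Set G)).map φ) =
      Nat.card (normalizer ((P : Subgroup G) : Set G)) := Subgroup.card_map_of_injective hφ
  rw [← h1, ← hNQ]
  exact Subgroup.card_dvd_of_le hle

/-- In a non-commutative simple group with a proper subgroup of index `p` or `p + 1`, where `p`
divides `|G|`, the normalizer of a Sylow `p`-subgroup has order dividing `p * (p - 1)`. -/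
theorem card_normalizer_dvd_of_index_of_simple {G : Type*} [Group G] [Finite G] [IsSimpleGroup G]
    (hG : ¬ IsMulCommutative G) (p : ℕ) [hp : Fact p.Prime] (H : Subgroup G) (hH : H ≠ ⊤)
    (hidx : H.index = p ∨ H.index = p + 1) (P : Sylow p G) (hP : p ∣ Nat.card G) :
    Nat.card (normalizer ((P : Subgroup G) : Set G)) ∣ p * (p - 1) := by
  classical
  obtain ⟨f, hf⟩ := Cfsg.Agent.S0991.result hG H hH
  let φ : G →* Equiv.Perm (Fin H.index) := (alternatingGroup (Fin H.index)).subtype.comp f
  have hφ : Function.Injective φ := fun a b hab => hf (Subtype.ext hab)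
  exact card_normalizer_dvd_of_injective_perm p (by simpa using hidx) φ hφ P hP

/-- In a non-commutative simple group with more than one Sylow `q`-subgroup, where the number of
Sylow `q`-subgroups is `p` or `p + 1` and `p` divides `|G|`, the normalizer of a Sylow
`p`-subgroup has order dividing `p * (p - 1)`. -/
theorem card_normalizer_dvd_of_card_sylow_of_simple {G : Type*} [Group G] [Finite G]
    [IsSimpleGroup G] (hG : ¬ IsMulCommutative G) (p q : ℕ) [hp : Fact p.Prime] [Fact q.Prime]
    (hn : Nat.card (Sylow q G) = p ∨ Nat.card (Sylow q G) = p + 1) (P : Sylow p G)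
    (hP : p ∣ Nat.card G) :
    Nat.card (normalizer ((P : Subgroup G) : Set G)) ∣ p * (p - 1) := by
  obtain ⟨Q⟩ := (Sylow.nonempty : Nonempty (Sylow q G))
  have h : Nat.card (Sylow q G) = (normalizer ((Q : Subgroup G) : Set G)).index :=
    Q.card_eq_index_normalizer
  refine card_normalizer_dvd_of_index_of_simple hG p (normalizer ((Q : Subgroup G) : Set G)) ?_
    (by rwa [← h]) P hP
  intro htop
  rw [htop, index_top] at h
  have := hp.out.two_le
  omega

/-- If a non-commutative simple group `G` has a proper subgroup of index `n ≥ 5`, then either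
`G` has order `n!/2` or `2 * |G| * n ≤ n!`. -/
theorem index_bound_of_simple {G : Type*} [Group G] [Finite G] [IsSimpleGroup G]
    (hG : ¬ IsMulCommutative G) (H : Subgroup G) (hH : H ≠ ⊤) (h5 : 5 ≤ H.index) :
    2 * Nat.card G = (H.index).factorial ∨ 2 * Nat.card G * H.index ≤ (H.index).factorial := by
  classical
  obtain ⟨f, hf⟩ := Cfsg.Agent.S0991.result hG H hH
  have hsimple : IsSimpleGroup (alternatingGroup (Fin H.index)) :=
    alternatingGroup.isSimpleGroup (by simpa using h5)
  have : Nontrivial (Fin H.index) := Fin.nontrivial_iff_two_le.2 (by omega)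
  have hA : 2 * Nat.card (alternatingGroup (Fin H.index)) = (H.index).factorial := by
    rw [two_mul_nat_card_alternatingGroup, Nat.card_perm, Nat.card_fin]
  have hAnc : ¬ IsMulCommutative (alternatingGroup (Fin H.index)) := by
    apply not_comm_of_simple_of_not_prime
    intro hprime
    have h120 : Nat.factorial 5 ∣ (H.index).factorial := Nat.factorial_dvd_factorial h5
    rw [← hA] at h120
    have h60 : 60 ∣ Nat.card (alternatingGroup (Fin H.index)) := by
      have : Nat.factorial 5 = 2 * 60 := by decide
      rw [this] at h120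
      exact Nat.dvd_of_mul_dvd_mul_left (by norm_num) h120
    have h2 : 2 ∣ Nat.card (alternatingGroup (Fin H.index)) := dvd_trans (by norm_num) h60
    have h3 : 3 ∣ Nat.card (alternatingGroup (Fin H.index)) := dvd_trans (by norm_num) h60
    have e2 := (Nat.prime_dvd_prime_iff_eq Nat.prime_two hprime).1 h2
    have e3 := (Nat.prime_dvd_prime_iff_eq Nat.prime_three hprime).1 h3
    omega
  have hK : Nat.card f.range = Nat.card G :=
    (Nat.card_congr (MonoidHom.ofInjective hf).toEquiv).symm
  by_cases htop : f.range = ⊤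
  · left
    rw [← hA, ← hK, htop, card_top]
  · right
    have h1 := two_mul_card_dvd_factorial_index_of_simple hAnc f.range htop
    rw [hA] at h1
    have h2 : H.index ≤ f.range.index := by
      by_contra hlt
      replace hlt : f.range.index < H.index := by omega
      have h0 : f.range.index ≠ 0 := Subgroup.index_ne_zero_of_finite
      have := (Nat.factorial_lt (by omega)).2 hlt
      have := Nat.le_of_dvd (Nat.factorial_pos _) h1
      omega
    have h3 := f.range.index_mul_card
    rw [hK] at h3
    calc 2 * Nat.card G * H.index ≤ 2 * Nat.card G * f.range.index := Nat.mul_le_mul_left _ h2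
      _ = 2 * (f.range.index * Nat.card G) := by ring
      _ = (H.index).factorial := by rw [h3, hA]

open scoped IsMulCommutative in
/-- **Transfer into an abelian Sylow subgroup**: in a non-commutative simple group, an element of
a commutative Sylow subgroup `P` commuting with all of `N_G(P)` is trivial. -/
theorem eq_one_of_mem_sylow_of_commute_normalizer {G : Type*} [Group G] [Finite G]
    [IsSimpleGroup G] (hG : ¬ IsMulCommutative G) {p : ℕ} [hp : Fact p.Prime] (P : Sylow p G)
    [IsMulCommutative (P : Subgroup G)] (a : G) (ha : a ∈ (P : Subgroup G))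
    (hcomm : ∀ n ∈ normalizer ((P : Subgroup G) : Set G), n * a = a * n) : a = 1 := by
  have key : ∀ (k : ℕ) (g₀ : G), g₀⁻¹ * a ^ k * g₀ ∈ (P : Subgroup G) →
      g₀⁻¹ * a ^ k * g₀ = a ^ k := by
    intro k g₀ hmem
    obtain ⟨n, hn, hn2⟩ := P.conj_eq_normalizer_conj_of_mem (a ^ k) g₀
      (Subgroup.pow_mem _ ha k) hmem
    rw [hn2]
    have hc : Commute n a := hcomm n hn
    have hc' : Commute n (a ^ k) := hc.pow_right k
    rw [mul_assoc, ← hc'.eq, ← mul_assoc, inv_mul_cancel, one_mul]
  have h1 := MonoidHom.transfer_eq_pow (H := (P : Subgroup G))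
    (MonoidHom.id (P : Subgroup G)) a key
  have hker := Cfsg.Agent.S0991.ker_eq_top_of_comm hG
    (MonoidHom.transfer (MonoidHom.id (P : Subgroup G)))
  have h2 : MonoidHom.transfer (MonoidHom.id (P : Subgroup G)) a = 1 := by
    rw [← MonoidHom.mem_ker, hker]
    trivial
  rw [h2] at h1
  have h3 : a ^ (P : Subgroup G).index = 1 := by
    have := congrArg (fun x : (P : Subgroup G) => (x : G)) h1
    simpa using this.symm
  obtain ⟨k, hk⟩ := (IsPGroup.iff_orderOf.1 P.isPGroup') ⟨a, ha⟩
  have hk' : orderOf a = p ^ k := by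
    rw [← hk]
    exact (Subgroup.orderOf_mk a ha).symm
  have h4 : orderOf a ∣ (P : Subgroup G).index := orderOf_dvd_of_pow_eq_one h3
  have hcop : Nat.Coprime (p ^ k) (P : Subgroup G).index :=
    Nat.Coprime.pow_left k ((Nat.Prime.coprime_iff_not_dvd hp.out).2 P.not_dvd_index)
  rw [hk'] at h4
  have h5 : p ^ k = 1 := Nat.Coprime.eq_one_of_dvd hcop h4
  rw [h5] at hk'
  exact orderOf_eq_one_iff.1 hk'

/-- `|H| * [K : H] = |K|` for `H ≤ K`. -/
theorem card_mul_relIndex_of_le {G : Type*} [Group G] {H K : Subgroup G} (h : H ≤ K) :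
    Nat.card H * H.relIndex K = Nat.card K := by
  have := Subgroup.relIndex_mul_relIndex (⊥ : Subgroup G) H K bot_le h
  rwa [Subgroup.relIndex_bot_left, Subgroup.relIndex_bot_left] at this

/-- If `P` is a commutative Sylow subgroup of a non-commutative simple group with
`|N_G(P)| = 2 * |P|`, then every element of `N_G(P)` outside `P` inverts `P`. -/
theorem conj_eq_inv_of_card_normalizer_eq_two_mul {G : Type*} [Group G] [Finite G]
    [IsSimpleGroup G] (hG : ¬ IsMulCommutative G) {p : ℕ} [hp : Fact p.Prime] (P : Sylow p G)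
    [hPc : IsMulCommutative (P : Subgroup G)]
    (hN : Nat.card (normalizer ((P : Subgroup G) : Set G)) = 2 * Nat.card (P : Subgroup G))
    {s : G} (hs : s ∈ normalizer ((P : Subgroup G) : Set G)) (hsP : s ∉ (P : Subgroup G))
    {a : G} (ha : a ∈ (P : Subgroup G)) : s * a * s⁻¹ = a⁻¹ := by
  have hcomm : ∀ x y : G, x ∈ (P : Subgroup G) → y ∈ (P : Subgroup G) → x * y = y * x := by
    intro x y hx hy
    have := hPc.is_comm.comm (⟨x, hx⟩ : (P : Subgroup G)) ⟨y, hy⟩
    exact congrArg Subtype.val this
  set N := normalizer ((P : Subgroup G) : Set G) with hNdef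
  have hidx : ((P : Subgroup G).subgroupOf N).index = 2 := by
    have h1 := card_mul_relIndex_of_le (le_normalizer : (P : Subgroup G) ≤ N)
    rw [hN] at h1
    have hpos : 0 < Nat.card (P : Subgroup G) := Nat.card_pos
    have : (P : Subgroup G).relIndex N = 2 := by
      have : Nat.card (P : Subgroup G) * (P : Subgroup G).relIndex N =
          Nat.card (P : Subgroup G) * 2 := by rw [h1]; ring
      exact Nat.eq_of_mul_eq_mul_left hpos this
    exact this
  have hconj : ∀ x : G, x ∈ (P : Subgroup G) → s * x * s⁻¹ ∈ (P : Subgroup G) := by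
    intro x hx
    exact (Subgroup.mem_normalizer_iff.1 hs x).1 hx
  have hss : s * s ∈ (P : Subgroup G) := by
    have := (Subgroup.mul_mem_iff_of_index_two hidx (a := (⟨s, hs⟩ : N)) (b := ⟨s, hs⟩)).2 Iff.rfl
    simpa [Subgroup.mem_subgroupOf] using this
  set b := a * (s * a * s⁻¹) with hb
  have hbP : b ∈ (P : Subgroup G) := Subgroup.mul_mem _ ha (hconj a ha)
  have hsb : s * b * s⁻¹ = b := by
    have h1 : s * b * s⁻¹ = (s * a * s⁻¹) * ((s * s) * a * (s * s)⁻¹) := by
      rw [hb]; group
    have h2 : (s * s) * a * (s * s)⁻¹ = a := by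
      rw [hcomm _ _ hss ha]; group
    rw [h1, h2, hb]
    exact hcomm _ _ (hconj a ha) ha
  have hb1 : b = 1 := by
    apply eq_one_of_mem_sylow_of_commute_normalizer hG P b hbP
    intro n hn
    by_cases hnP : n ∈ (P : Subgroup G)
    · exact hcomm _ _ hnP hbP
    · have hsn : s⁻¹ * n ∈ (P : Subgroup G) := by
        have := (Subgroup.mul_mem_iff_of_index_two hidx (a := (⟨s, hs⟩ : N)⁻¹)
          (b := (⟨n, hn⟩ : N))).2 ?_
        · simpa [Subgroup.mem_subgroupOf] using this
        · rw [Subgroup.inv_mem_iff]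
          simp only [Subgroup.mem_subgroupOf]
          exact ⟨fun h => absurd h hsP, fun h => absurd h hnP⟩
      have h3 : (s⁻¹ * n) * b = b * (s⁻¹ * n) := hcomm _ _ hsn hbP
      have h4 : n = s * (s⁻¹ * n) := by group
      have h5 : s * b = b * s := by
        have := congrArg (· * s) hsb
        simpa using this
      rw [h4, mul_assoc, h3, ← mul_assoc, h5, mul_assoc]
  rw [hb] at hb1
  exact eq_inv_of_mul_eq_one_right hb1

end Cfsg.Agent.Lib.Helper17
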