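import Mathlib.GroupTheory.Sylow
import Mathlib.GroupTheory.Index
import Cfsg.Agent.Lib.Helper17.Misc

set_option autoImplicit false

namespace Cfsg.Agent.Lib.Helper17

/-- The number of non-identity elements of a finite subgroup. -/
theorem card_subgroup_ne_one {G : Type*} [Group G] (H : Subgroup G) [Finite H] :
    Nat.card {g : G // g ∈ H ∧ g ≠ 1} = Nat.card H - 1 := by
  have h1 : Nat.card {g : G // g ∈ H ∧ g ≠ 1} = Nat.card ↥((H : Set G) \ {1}) := by
    apply Nat.card_congr
    apply Equiv.subtypeEquivRight
    intro g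
    simp
  rw [h1, Nat.card_coe_set_eq, Set.ncard_sdiff_singleton_of_mem (H.one_mem)]
  rw [← Nat.card_coe_set_eq]
  rfl

/-- If the Sylow `p`-subgroups have order `p`, then there are exactly `n_p * (p - 1)` elements of
order `p`. -/
theorem card_orderOf_eq_prime {G : Type*} [Group G] [Finite G] {p : ℕ} [hp : Fact p.Prime]
    (hP : ∀ P : Sylow p G, Nat.card (P : Subgroup G) = p) :
    Nat.card {g : G // orderOf g = p} = Nat.card (Sylow p G) * (p - 1) := by
  classical
  have := Fintype.ofFinite (Sylow p G)
  have hord : ∀ (P : Sylow p G) (g : G), g ∈ (P : Subgroup G) → g ≠ 1 → orderOf g = p := by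
    intro P g hg hg1
    have h1 : orderOf g ∣ p := by
      have := Subgroup.orderOf_dvd_natCard (P : Subgroup G) hg
      rwa [hP P] at this
    rcases (Nat.dvd_prime hp.out).1 h1 with h | h
    · exact (hg1 (orderOf_eq_one_iff.1 h)).elim
    · exact h
  have hzp : ∀ (P : Sylow p G) (g : G), g ∈ (P : Subgroup G) → g ≠ 1 →
      (P : Subgroup G) = Subgroup.zpowers g := by
    intro P g hg hg1
    symm
    apply Subgroup.eq_of_le_of_card_ge
    · rw [Subgroup.zpowers_le]; exact hg
    · rw [hP P, Nat.card_zpowers, hord P g hg hg1]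
  let f : (Σ P : Sylow p G, {g : G // g ∈ (P : Subgroup G) ∧ g ≠ 1}) → {g : G // orderOf g = p} :=
    fun x => ⟨x.2.1, hord x.1 x.2.1 x.2.2.1 x.2.2.2⟩
  have hf : Function.Bijective f := by
    constructor
    · rintro ⟨P, g, hg, hg1⟩ ⟨Q, g', hg', hg1'⟩ h
      have hgg : g = g' := congrArg Subtype.val h
      subst hgg
      have hPQ : P = Q := Sylow.ext ((hzp P g hg hg1).trans (hzp Q g hg' hg1').symm)
      subst hPQ
      rfl
    · rintro ⟨g, hg⟩
      obtain ⟨P, hgP⟩ := exists_sylow_mem_of_orderOf_eq g hg
      have hg1 : g ≠ 1 := by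
        intro h1
        rw [h1, orderOf_one] at hg
        exact hp.out.one_lt.ne hg
      exact ⟨⟨P, g, hgP, hg1⟩, rfl⟩
  rw [← Nat.card_eq_of_bijective f hf, Nat.card_sigma]
  have : ∀ P : Sylow p G, Nat.card {g : G // g ∈ (P : Subgroup G) ∧ g ≠ 1} = p - 1 := by
    intro P
    rw [card_subgroup_ne_one, hP P]
  simp only [this, Finset.sum_const, Finset.card_univ, smul_eq_mul]
  rw [Nat.card_eq_fintype_card]

/-- Counting elements by their orders: the numbers of elements of finitely many distinct orders
add up to at most `|G|`. -/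
theorem sum_card_orderOf_le {G : Type*} [Group G] [Finite G] (s : Finset ℕ) :
    ∑ n ∈ s, Nat.card {g : G // orderOf g = n} ≤ Nat.card G := by
  classical
  have := Fintype.ofFinite G
  have h1 : ∀ n, Nat.card {g : G // orderOf g = n} =
      (Finset.univ.filter (fun g : G => orderOf g = n)).card := by
    intro n
    rw [Nat.card_eq_fintype_card, Fintype.card_subtype]
  simp only [h1]
  rw [← Finset.card_biUnion]
  · rw [Nat.card_eq_fintype_card]
    exact Finset.card_le_univ _
  · intro a _ b _ hab
    rw [Function.onFun, Finset.disjoint_left]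
    intro g hga hgb
    rw [Finset.mem_filter] at hga hgb
    exact hab (hga.2.symm.trans hgb.2)

end Cfsg.Agent.Lib.Helper17
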