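import Mathlib
import Cfsg.Agent.S0989
import Cfsg.Agent.S0991
import Cfsg.Agent.Lib.Helper17.SylowCard
import Cfsg.Agent.Lib.Helper17.OrderCount

set_option autoImplicit false

namespace Cfsg.Agent.Lib.Helper17

open Subgroup Equiv.Perm

/-- In the symmetric group of degree `n` with `p ≤ n < 2p` (`p` prime), the number of elements of
order `p` times `p * (n - p)!` is `n!`. -/
theorem card_orderOf_eq_mul_gen {α : Type*} [Fintype α] [DecidableEq α] (p : ℕ)
    [hp : Fact p.Prime] (h1 : p ≤ Fintype.card α) (h2 : Fintype.card α < 2 * p) :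
    Nat.card {g : Equiv.Perm α // orderOf g = p} * (p * (Fintype.card α - p).factorial) =
      (Fintype.card α).factorial := by
  have hc1 : Nat.card {g : Equiv.Perm α // orderOf g = p} =
      (Finset.univ.filter (fun g : Equiv.Perm α => g.cycleType = {p})).card := by
    rw [Nat.card_eq_fintype_card, Fintype.card_subtype]
    congr 1
    ext g
    simp only [Finset.mem_filter, Finset.mem_univ, true_and]
    exact Cfsg.Agent.S0989.orderOf_eq_prime_iff_cycleType hp.out h2 g
  have hc2 := card_of_cycleType_mul_eq α ({p} : Multiset ℕ)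
  have hcond : ({p} : Multiset ℕ).sum ≤ Fintype.card α ∧ ∀ a ∈ ({p} : Multiset ℕ), 2 ≤ a := by
    constructor
    · simpa only [Multiset.sum_singleton] using h1
    · intro a ha
      rw [Multiset.mem_singleton] at ha
      rw [ha]; exact hp.out.two_le
  rw [if_pos hcond] at hc2
  simp only [Multiset.sum_singleton, Multiset.prod_singleton, Multiset.toFinset_singleton,
    Finset.prod_singleton, Multiset.count_singleton_self, Nat.factorial_one, mul_one] at hc2
  rw [hc1, ← hc2]
  ring

/-- `p` exactly divides `n!` when `p ≤ n < 2p`. -/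
theorem factorial_eq_prime_mul {p n : ℕ} (hp : p.Prime) (h1 : p ≤ n) (h2 : n < 2 * p) :
    ∃ m, n.factorial = p ^ 1 * m ∧ ¬ p ∣ m := by
  have hdvd : p ∣ n.factorial := (Nat.Prime.dvd_factorial hp).2 h1
  obtain ⟨m, hm⟩ := hdvd
  refine ⟨m, by rw [hm, pow_one], ?_⟩
  intro hpm
  obtain ⟨k, hk⟩ := hpm
  have h3 : p ^ 2 ∣ n.factorial := ⟨k, by rw [hm, hk]; ring⟩
  have hlog : Nat.log p n < 2 := by
    apply Nat.log_lt_of_lt_pow' (by norm_num)
    have := hp.two_le
    nlinarith
  have h4 := (Nat.Prime.pow_dvd_factorial_iff hp hlog).1 h3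
  have h5 : ∑ i ∈ Finset.Ico 1 2, n / p ^ i = n / p := by
    simp
  rw [h5] at h4
  have h6 : n / p < 2 := by
    rw [Nat.div_lt_iff_lt_mul hp.pos]
    exact h2
  omega

/-- In the symmetric group of degree `n` with `p ≤ n < 2p`, the normalizer of a Sylow
`p`-subgroup has order `p * (p - 1) * (n - p)!`. -/
theorem card_normalizer_sylow_perm {α : Type*} [Fintype α] [DecidableEq α] (p : ℕ)
    [hp : Fact p.Prime] (h1 : p ≤ Fintype.card α) (h2 : Fintype.card α < 2 * p)
    (P : Sylow p (Equiv.Perm α)) :
    Nat.card (normalizer ((P : Subgroup (Equiv.Perm α)) : Set (Equiv.Perm α))) =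
      p * (p - 1) * (Fintype.card α - p).factorial := by
  obtain ⟨m, hm, hpm⟩ := factorial_eq_prime_mul hp.out h1 h2
  have hcardG : Nat.card (Equiv.Perm α) = p ^ 1 * m := by
    rw [Nat.card_perm, Nat.card_eq_fintype_card (α := α), hm]
  have hcards : ∀ Q : Sylow p (Equiv.Perm α), Nat.card (Q : Subgroup (Equiv.Perm α)) = p := by
    intro Q
    rw [sylow_card_of_card_eq Q hcardG hpm, pow_one]
  have hE := card_orderOf_eq_prime hcards
  have hEp := card_orderOf_eq_mul_gen (α := α) p h1 h2
  have hN := card_sylow_mul_card_normalizer P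
  rw [Nat.card_perm, Nat.card_eq_fintype_card (α := α), ← hEp, hE] at hN
  have hpos : 0 < Nat.card (Sylow p (Equiv.Perm α)) := Nat.card_pos
  have : Nat.card (Sylow p (Equiv.Perm α)) *
      Nat.card (normalizer ((P : Subgroup (Equiv.Perm α)) : Set (Equiv.Perm α))) =
      Nat.card (Sylow p (Equiv.Perm α)) * (p * (p - 1) * (Fintype.card α - p).factorial) := by
    rw [hN]; ring
  exact Nat.eq_of_mul_eq_mul_left hpos this

/-- If a finite group `G` of order divisible by `p` acts faithfully on `n` points with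
`p ≤ n < 2p`, then the normalizer of a Sylow `p`-subgroup of `G` has order dividing
`p * (p - 1) * (n - p)!`. -/
theorem card_normalizer_dvd_of_injective_perm_gen {G α : Type*} [Group G] [Finite G] [Fintype α]
    [DecidableEq α] (p : ℕ) [hp : Fact p.Prime] (h1 : p ≤ Fintype.card α)
    (h2 : Fintype.card α < 2 * p) (φ : G →* Equiv.Perm α) (hφ : Function.Injective φ)
    (P : Sylow p G) (hP : p ∣ Nat.card G) :
    Nat.card (normalizer ((P : Subgroup G) : Set G)) ∣
      p * (p - 1) * (Fintype.card α - p).factorial := by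
  have hpg : IsPGroup p ((P : Subgroup G).map φ) := P.isPGroup'.map φ
  obtain ⟨Q, hQ⟩ := hpg.exists_le_sylow
  have hNQ := card_normalizer_sylow_perm p h1 h2 Q
  obtain ⟨m, hm, hpm⟩ := factorial_eq_prime_mul hp.out h1 h2
  have hcardG : Nat.card (Equiv.Perm α) = p ^ 1 * m := by
    rw [Nat.card_perm, Nat.card_eq_fintype_card (α := α), hm]
  have hQp : Nat.card (Q : Subgroup (Equiv.Perm α)) = p := by
    rw [sylow_card_of_card_eq Q hcardG hpm, pow_one]
  have hcardP : Nat.card ((P : Subgroup G).map φ) = Nat.card (P : Subgroup G) :=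
    Subgroup.card_map_of_injective hφ
  have hPdvd : p ∣ Nat.card (P : Subgroup G) := P.dvd_card_of_dvd_card hP
  have hPQ : Nat.card (P : Subgroup G) ∣ Nat.card (Q : Subgroup (Equiv.Perm α)) := by
    rw [← hcardP]
    exact Subgroup.card_dvd_of_le hQ
  have hPp : Nat.card (P : Subgroup G) = p := by
    rw [hQp] at hPQ
    rcases (Nat.dvd_prime hp.out).1 hPQ with h | h
    · rw [h] at hPdvd
      exact absurd (Nat.dvd_one.1 hPdvd) hp.out.one_lt.ne'
    · exact h
  have hmapeq : (P : Subgroup G).map φ = (Q : Subgroup (Equiv.Perm α)) := by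
    apply Subgroup.eq_of_le_of_card_ge hQ
    rw [hcardP, hPp, hQp]
  have hle : (normalizer ((P : Subgroup G) : Set G)).map φ ≤
      normalizer ((Q : Subgroup (Equiv.Perm α)) : Set (Equiv.Perm α)) := by
    rw [← hmapeq]
    exact Subgroup.le_normalizer_map φ
  have h3 : Nat.card ((normalizer ((P : Subgroup G) : Set G)).map φ) =
      Nat.card (normalizer ((P : Subgroup G) : Set G)) := Subgroup.card_map_of_injective hφ
  rw [← h3, ← hNQ]
  exact Subgroup.card_dvd_of_le hle

/-- In a non-commutative simple group with a proper subgroup of index `n`, `p ≤ n < 2p`, where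
`p` divides `|G|`, the normalizer of a Sylow `p`-subgroup has order dividing
`p * (p - 1) * (n - p)!`. -/
theorem card_normalizer_dvd_of_index_of_simple_gen {G : Type*} [Group G] [Finite G]
    [IsSimpleGroup G] (hG : ¬ IsMulCommutative G) (p : ℕ) [hp : Fact p.Prime] (H : Subgroup G)
    (hH : H ≠ ⊤) (h1 : p ≤ H.index) (h2 : H.index < 2 * p) (P : Sylow p G)
    (hP : p ∣ Nat.card G) :
    Nat.card (normalizer ((P : Subgroup G) : Set G)) ∣ p * (p - 1) * (H.index - p).factorial := by
  classical
  obtain ⟨f, hf⟩ := Cfsg.Agent.S0991.result hG H hH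
  let φ : G →* Equiv.Perm (Fin H.index) := (alternatingGroup (Fin H.index)).subtype.comp f
  have hφ : Function.Injective φ := fun a b hab => hf (Subtype.ext hab)
  have := card_normalizer_dvd_of_injective_perm_gen p (α := Fin H.index) (by simpa using h1)
    (by simpa using h2) φ hφ P hP
  simpa using this

end Cfsg.Agent.Lib.Helper17
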