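import Mathlib
import Cfsg.Agent.Lib.Helper17.SymNormalizer
import Cfsg.Agent.Lib.Helper17.SimpleTools

set_option autoImplicit false

namespace Cfsg.Agent.Lib.Helper17

open Subgroup Equiv.Perm

/-- For `p` odd, a Sylow `p`-subgroup of a symmetric group lies in the alternating group. -/
theorem sylow_le_alternatingGroup {α : Type*} [Fintype α] [DecidableEq α] (p : ℕ)
    [hp : Fact p.Prime] (hp2 : p ≠ 2) (P : Sylow p (Equiv.Perm α)) :
    (P : Subgroup (Equiv.Perm α)) ≤ alternatingGroup α := by
  intro g hg
  rw [Equiv.Perm.mem_alternatingGroup]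
  obtain ⟨k, hk⟩ := P.isPGroup' ⟨g, hg⟩
  have hgk : g ^ p ^ k = 1 := by simpa using congrArg Subtype.val hk
  have hs : (Equiv.Perm.sign g) ^ (p ^ k) = 1 := by rw [← map_pow, hgk, map_one]
  rcases Int.units_eq_one_or (Equiv.Perm.sign g) with h | h
  · exact h
  · rw [h] at hs
    have hodd : Odd (p ^ k) := (hp.out.odd_of_ne_two hp2).pow
    rw [hodd.neg_one_pow] at hs
    exact absurd hs (by decide)

/-- In the symmetric group of degree `n` with `p ≤ n < 2p`, `p` odd, the normalizer of a Sylow
`p`-subgroup meets the alternating group in a subgroup of order `p (p-1) (n-p)! / 2`. -/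
theorem two_mul_card_normalizer_inf_alternatingGroup {α : Type*} [Fintype α] [DecidableEq α]
    (p : ℕ) [hp : Fact p.Prime] (hp2 : p ≠ 2) (h1 : p ≤ Fintype.card α)
    (h2 : Fintype.card α < 2 * p) (P : Sylow p (Equiv.Perm α)) :
    2 * Nat.card (alternatingGroup α ⊓
      normalizer ((P : Subgroup (Equiv.Perm α)) : Set (Equiv.Perm α)) : Subgroup (Equiv.Perm α)) =
      p * (p - 1) * (Fintype.card α - p).factorial := by
  have hnt : Nontrivial α := by
    rw [← Fintype.one_lt_card_iff_nontrivial]
    exact lt_of_lt_of_le hp.out.one_lt h1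
  have hPA := sylow_le_alternatingGroup p hp2 P
  have hsup : normalizer ((P : Subgroup (Equiv.Perm α)) : Set (Equiv.Perm α)) ⊔
      alternatingGroup α = ⊤ := Sylow.normalizer_sup_eq_top' P hPA
  have hrel : (alternatingGroup α).relIndex
      (normalizer ((P : Subgroup (Equiv.Perm α)) : Set (Equiv.Perm α))) = 2 := by
    rw [← Subgroup.relIndex_sup_right, hsup, Subgroup.relIndex_top_right,
      alternatingGroup.index_eq_two]
  have hN := card_normalizer_sylow_perm p h1 h2 P
  have h3 := card_mul_relIndex_of_le (inf_le_right :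
    alternatingGroup α ⊓ normalizer ((P : Subgroup (Equiv.Perm α)) : Set (Equiv.Perm α)) ≤
      normalizer ((P : Subgroup (Equiv.Perm α)) : Set (Equiv.Perm α)))
  rw [Subgroup.inf_relIndex_right, hrel, hN] at h3
  rw [← h3]
  ring

/-- If a finite group `G` embeds in the alternating group of degree `n` with `p ≤ n < 2p`, `p` an
odd prime dividing `|G|`, then twice the order of the normalizer of a Sylow `p`-subgroup of `G`
divides `p * (p - 1) * (n - p)!`. -/
theorem two_mul_card_normalizer_dvd_of_injective_alt {G α : Type*} [Group G] [Finite G]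
    [Fintype α] [DecidableEq α] (p : ℕ) [hp : Fact p.Prime] (hp2 : p ≠ 2)
    (h1 : p ≤ Fintype.card α) (h2 : Fintype.card α < 2 * p)
    (f : G →* alternatingGroup α) (hf : Function.Injective f)
    (P : Sylow p G) (hP : p ∣ Nat.card G) :
    2 * Nat.card (normalizer ((P : Subgroup G) : Set G)) ∣
      p * (p - 1) * (Fintype.card α - p).factorial := by
  set φ : G →* Equiv.Perm α := (alternatingGroup α).subtype.comp f with hφdef
  have hφ : Function.Injective φ := fun a b hab => hf (Subtype.ext hab)
  have hpg : IsPGroup p ((P : Subgroup G).map φ) := P.isPGroup'.map φ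
  obtain ⟨Q, hQ⟩ := hpg.exists_le_sylow
  obtain ⟨m, hm, hpm⟩ := factorial_eq_prime_mul hp.out h1 h2
  have hcardG : Nat.card (Equiv.Perm α) = p ^ 1 * m := by
    rw [Nat.card_perm, Nat.card_eq_fintype_card (α := α), hm]
  have hQp : Nat.card (Q : Subgroup (Equiv.Perm α)) = p := by
    rw [sylow_card_of_card_eq Q hcardG hpm, pow_one]
  have hcardP : Nat.card ((P : Subgroup G).map φ) = Nat.card (P : Subgroup G) :=
    Subgroup.card_map_of_injective hφ
  have hPdvd : p ∣ Nat.card (P : Subgroup G) := P.dvd_card_of_dvd_card hP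
  have hPQ : Nat.card (P : Subgroup G) ∣ Nat.card (Q : Subgroup (Equiv.Perm α)) := by
    rw [← hcardP]
    exact Subgroup.card_dvd_of_le hQ
  have hPp : Nat.card (P : Subgroup G) = p := by
    rw [hQp] at hPQ
    rcases (Nat.dvd_prime hp.out).1 hPQ with h | h
    · rw [h] at hPdvd
      exact absurd (Nat.dvd_one.1 hPdvd) hp.out.one_lt.ne'
    · exact h
  have hmapeq : (P : Subgroup G).map φ = (Q : Subgroup (Equiv.Perm α)) := by
    apply Subgroup.eq_of_le_of_card_ge hQ
    rw [hcardP, hPp, hQp]
  have hle : (normalizer ((P : Subgroup G) : Set G)).map φ ≤ alternatingGroup α ⊓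
      normalizer ((Q : Subgroup (Equiv.Perm α)) : Set (Equiv.Perm α)) := by
    apply le_inf
    · rintro _ ⟨g, _, rfl⟩
      exact (f g).2
    · rw [← hmapeq]
      exact Subgroup.le_normalizer_map φ
  have h3 : Nat.card ((normalizer ((P : Subgroup G) : Set G)).map φ) =
      Nat.card (normalizer ((P : Subgroup G) : Set G)) := Subgroup.card_map_of_injective hφ
  rw [← h3, ← two_mul_card_normalizer_inf_alternatingGroup p hp2 h1 h2 Q]
  exact Nat.mul_dvd_mul_left 2 (Subgroup.card_dvd_of_le hle)

/-- In a non-commutative simple group with a proper subgroup of index `n`, `p ≤ n < 2p`, where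
the odd prime `p` divides `|G|`, twice the order of the normalizer of a Sylow `p`-subgroup
divides `p * (p - 1) * (n - p)!`. -/
theorem two_mul_card_normalizer_dvd_of_index_of_simple {G : Type*} [Group G] [Finite G]
    [IsSimpleGroup G] (hG : ¬ IsMulCommutative G) (p : ℕ) [hp : Fact p.Prime] (hp2 : p ≠ 2)
    (H : Subgroup G) (hH : H ≠ ⊤) (h1 : p ≤ H.index) (h2 : H.index < 2 * p) (P : Sylow p G)
    (hP : p ∣ Nat.card G) :
    2 * Nat.card (normalizer ((P : Subgroup G) : Set G)) ∣
      p * (p - 1) * (H.index - p).factorial := by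
  classical
  obtain ⟨f, hf⟩ := Cfsg.Agent.S0991.result hG H hH
  have := two_mul_card_normalizer_dvd_of_injective_alt p hp2 (α := Fin H.index)
    (by simpa using h1) (by simpa using h2) f hf P hP
  simpa using this

end Cfsg.Agent.Lib.Helper17
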