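import Mathlib.GroupTheory.Sylow
import Mathlib.GroupTheory.Index
import Mathlib.Tactic.Group

set_option autoImplicit false

namespace Cfsg.Agent.Lib.Helper17

open MulAction

/-- Membership in a conjugate Sylow subgroup. -/
theorem mem_smul_sylow_iff {G : Type*} [Group G] {p : ℕ} (P : Sylow p G) (g x : G) :
    x ∈ ((g • P : Sylow p G) : Subgroup G) ↔ g⁻¹ * x * g ∈ (P : Subgroup G) := by
  rw [Sylow.coe_subgroup_smul, Subgroup.mem_pointwise_smul_iff_inv_smul_mem]
  rw [MulAut.smul_def, ← map_inv, MulAut.conj_apply, inv_inv]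

/-- Membership in a conjugate Sylow subgroup, other direction. -/
theorem conj_mem_smul_sylow_iff {G : Type*} [Group G] {p : ℕ} (P : Sylow p G) (g x : G) :
    g * x * g⁻¹ ∈ ((g • P : Sylow p G) : Subgroup G) ↔ x ∈ (P : Subgroup G) := by
  rw [mem_smul_sylow_iff]
  have : g⁻¹ * (g * x * g⁻¹) * g = x := by group
  rw [this]

/-- If `P` is a Sylow `p`-subgroup of `G` contained in `N` and `K ≤ N` is a `p`-subgroup,
then some `N`-conjugate of `K` lies in `P`. -/
theorem exists_conj_le_sylow_of_le {G : Type*} [Group G] [Finite G] {p : ℕ} [Fact p.Prime]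
    (P : Sylow p G) (N K : Subgroup G) (hPN : (P : Subgroup G) ≤ N) (hKN : K ≤ N)
    (hK : IsPGroup p K) : ∃ n ∈ N, ∀ y ∈ K, n * y * n⁻¹ ∈ (P : Subgroup G) := by
  have hK' : IsPGroup p (K.subgroupOf N) :=
    hK.comap_of_injective N.subtype N.subtype_injective
  obtain ⟨S, hS⟩ := hK'.exists_le_sylow
  obtain ⟨n, hn⟩ := MulAction.exists_smul_eq N S (P.subtype hPN)
  refine ⟨n.1, n.2, ?_⟩
  intro y hy
  have hyS : (⟨y, hKN hy⟩ : N) ∈ (S : Subgroup N) := hS (by
    rw [Subgroup.mem_subgroupOf]; exact hy)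
  have h1 : n * ⟨y, hKN hy⟩ * n⁻¹ ∈ ((n • S : Sylow p N) : Subgroup N) :=
    (conj_mem_smul_sylow_iff S n _).2 hyS
  rw [hn, Sylow.coe_subtype, Subgroup.mem_subgroupOf] at h1
  simpa using h1

end Cfsg.Agent.Lib.Helper17
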