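import Cfsg.Agent.Lib.Helper17.ConjCount
import Cfsg.Agent.Lib.Helper17.Misc
import Cfsg.Agent.Lib.Helper17.SylowBasic

set_option autoImplicit false

namespace Cfsg.Agent.Lib.Helper17

open MulAction Subgroup

/-- A subgroup of prime order is generated by any of its non-identity elements. -/
theorem eq_zpowers_of_card_prime {G : Type*} [Group G] (H : Subgroup G) {p : ℕ} (hp : p.Prime)
    (hH : Nat.card H = p) {y : G} (hy : y ∈ H) (hy1 : y ≠ 1) : H = zpowers y := by
  have : Finite H := Nat.finite_of_card_ne_zero (by rw [hH]; exact hp.ne_zero)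
  have hord : orderOf y = p := by
    have h1 : orderOf y ∣ p := by
      have := Subgroup.orderOf_dvd_natCard H hy
      rwa [hH] at this
    rcases (Nat.dvd_prime hp).1 h1 with h | h
    · exact (hy1 (orderOf_eq_one_iff.1 h)).elim
    · exact h
  symm
  apply Subgroup.eq_of_le_of_card_ge
  · rw [Subgroup.zpowers_le]; exact hy
  · rw [hH, Nat.card_zpowers, hord]

/-- An element commuting with a non-identity element of a subgroup of prime order centralizes it. -/
theorem mem_centralizer_of_commute_of_card_prime {G : Type*} [Group G] (H : Subgroup G) {p : ℕ}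
    (hp : p.Prime) (hH : Nat.card H = p) {x y : G} (hy : y ∈ H) (hy1 : y ≠ 1)
    (hxy : x * y = y * x) : x ∈ centralizer (H : Set G) := by
  rw [eq_zpowers_of_card_prime H hp hH hy hy1, Subgroup.mem_centralizer_iff]
  intro h hh
  obtain ⟨k, rfl⟩ := Subgroup.mem_zpowers_iff.1 hh
  have hc : Commute x y := hxy
  exact (hc.zpow_right k).eq.symm

section

variable {G : Type*} [Group G] [Finite G] {p : ℕ} [hp : Fact p.Prime] (P : Sylow p G)
  (hP : Nat.card (P : Subgroup G) = p)

include hP

/-- If `|P| = p`, `z ≠ 1` lies in `P` and in `a • P`, then `a` normalizes `P`. -/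
theorem mem_normalizer_of_mem_smul_of_card_prime {z a : G} (hz : z ∈ (P : Subgroup G)) (hz1 : z ≠ 1)
    (hza : a⁻¹ * z * a ∈ (P : Subgroup G)) : a ∈ normalizer ((P : Subgroup G) : Set G) := by
  refine (Sylow.smul_eq_iff_mem_normalizer (g := a) (P := P)).1 ?_
  apply Sylow.ext
  have h1 : ((a • P : Sylow p G) : Subgroup G) = zpowers z := by
    apply eq_zpowers_of_card_prime _ hp.out _ ((mem_smul_sylow_iff P a z).2 hza) hz1
    rw [(a • P).card_eq_multiplicity, ← P.card_eq_multiplicity, hP]
  rw [h1, ← eq_zpowers_of_card_prime _ hp.out hP hz hz1]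

/-- Every element of order `p` fixes exactly one coset of the normalizer of a Sylow subgroup of
order `p`. -/
theorem card_fixedBy_normalizer_eq_one (y : G) (hy : orderOf y = p) :
    Nat.card (fixedBy (G ⧸ normalizer ((P : Subgroup G) : Set G)) y) = 1 := by
  have hy1 : y ≠ 1 := by
    intro h1
    rw [h1, orderOf_one] at hy
    exact hp.out.one_lt.ne hy
  have hkey : ∀ g : G, g⁻¹ * y * g ∈ normalizer ((P : Subgroup G) : Set G) →
      g⁻¹ * y * g ∈ (P : Subgroup G) := by
    intro g hg
    apply mem_sylow_of_mem_normalizer P _ _ hg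
    apply isPGroup_zpowers_of_orderOf_eq
    have := orderOf_conj_eq g⁻¹ y
    rw [inv_inv] at this
    rw [this, hy]
  rw [Nat.card_eq_one_iff_unique]
  constructor
  · constructor
    rintro ⟨q1, h1⟩ ⟨q2, h2⟩
    apply Subtype.ext
    induction q1 using QuotientGroup.induction_on with
    | H g1 =>
    induction q2 using QuotientGroup.induction_on with
    | H g2 =>
    rw [mk_mem_fixedBy_iff] at h1 h2
    have h1' := hkey g1 h1
    have h2' := hkey g2 h2
    show ((g1 : G) : G ⧸ normalizer ((P : Subgroup G) : Set G)) = g2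
    rw [QuotientGroup.eq]
    -- y ∈ g1 • P and y ∈ g2 • P, both of order p
    have e1 : ((g1 • P : Sylow p G) : Subgroup G) = zpowers y := by
      apply eq_zpowers_of_card_prime _ hp.out _ ((mem_smul_sylow_iff P g1 y).2 h1') hy1
      rw [(g1 • P).card_eq_multiplicity, ← P.card_eq_multiplicity, hP]
    have e2 : ((g2 • P : Sylow p G) : Subgroup G) = zpowers y := by
      apply eq_zpowers_of_card_prime _ hp.out _ ((mem_smul_sylow_iff P g2 y).2 h2') hy1
      rw [(g2 • P).card_eq_multiplicity, ← P.card_eq_multiplicity, hP]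
    have e3 : g1 • P = g2 • P := Sylow.ext (e1.trans e2.symm)
    refine (Sylow.smul_eq_iff_mem_normalizer (g := g1⁻¹ * g2) (P := P)).1 ?_
    rw [mul_smul, ← e3, inv_smul_smul]
  · obtain ⟨Q, hQ⟩ := exists_sylow_mem_of_orderOf_eq y hy
    obtain ⟨g, hg⟩ := MulAction.exists_smul_eq G P Q
    refine ⟨⟨(g : G), ?_⟩⟩
    rw [mk_mem_fixedBy_iff]
    apply Subgroup.le_normalizer
    rw [← mem_smul_sylow_iff, hg]
    exact hQ

/-- An element of `N(P) \ C(P)` fixes at most as many cosets of `N(P)` as there are orbits of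
`P`, when `|P| = p`. -/
theorem card_fixedBy_le_card_orbits (x : G) (hxN : x ∈ normalizer ((P : Subgroup G) : Set G))
    (hxC : x ∉ centralizer ((P : Subgroup G) : Set G)) :
    Nat.card (fixedBy (G ⧸ normalizer ((P : Subgroup G) : Set G)) x) ≤
      Nat.card (orbitRel.Quotient (P : Subgroup G) (G ⧸ normalizer ((P : Subgroup G) : Set G))) := by
  set N := normalizer ((P : Subgroup G) : Set G) with hN
  let f : fixedBy (G ⧸ N) x → orbitRel.Quotient (P : Subgroup G) (G ⧸ N) :=
    fun q => Quotient.mk'' q.1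
  apply Nat.card_le_card_of_injective f
  rintro ⟨q1, h1⟩ ⟨q2, h2⟩ h12
  apply Subtype.ext
  show q1 = q2
  have h12' : (orbitRel (P : Subgroup G) (G ⧸ N)) q1 q2 := Quotient.exact' h12
  rw [orbitRel_apply] at h12'
  obtain ⟨⟨y, hyP⟩, hy⟩ := h12'
  -- q1 = y • q2
  have hy' : y • q2 = q1 := hy
  induction q2 using QuotientGroup.induction_on with
  | H a =>
  rw [mk_mem_fixedBy_iff] at h2
  rw [← hy', MulAction.Quotient.smul_coe, mk_mem_fixedBy_iff, smul_eq_mul] at h1
  -- z = (x y x⁻¹)⁻¹ y ∈ P and a⁻¹ z a ∈ N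
  have hxyx : x * y * x⁻¹ ∈ (P : Subgroup G) := (Subgroup.mem_normalizer_iff.1 hxN y).1 hyP
  set z := (x * y * x⁻¹)⁻¹ * y with hz
  have hzP : z ∈ (P : Subgroup G) := Subgroup.mul_mem _ (Subgroup.inv_mem _ hxyx) hyP
  have hzN : a⁻¹ * z * a ∈ N := by
    have e : a⁻¹ * z * a = (a⁻¹ * x * a) * ((y * a)⁻¹ * x * (y * a))⁻¹ := by
      rw [hz]; group
    rw [e]
    exact N.mul_mem h2 (N.inv_mem h1)
  by_cases hz1 : z = 1
  · -- x commutes with y
    have hcomm : x * y = y * x := by
      have : (x * y * x⁻¹)⁻¹ * y = 1 := hz1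
      have h3 : x * y * x⁻¹ = y := inv_mul_eq_one.1 this
      calc x * y = (x * y * x⁻¹) * x := by group
        _ = y * x := by rw [h3]
    by_cases hy1 : y = 1
    · rw [← hy', hy1, one_smul]
    · exact (hxC (mem_centralizer_of_commute_of_card_prime _ hp.out hP hyP hy1 hcomm)).elim
  · -- a normalizes P
    have hzP' : a⁻¹ * z * a ∈ (P : Subgroup G) := by
      apply mem_sylow_of_mem_normalizer P _ _ hzN
      apply isPGroup_zpowers_of_orderOf_eq
      have h4 := orderOf_conj_eq a⁻¹ z
      rw [inv_inv] at h4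
      rw [h4]
      have h5 : orderOf z ∣ p := by
        have := Subgroup.orderOf_dvd_natCard (P : Subgroup G) hzP
        rwa [hP] at this
      rcases (Nat.dvd_prime hp.out).1 h5 with h | h
      · exact (hz1 (orderOf_eq_one_iff.1 h)).elim
      · exact h
    have haN : a ∈ N := mem_normalizer_of_mem_smul_of_card_prime P hP hzP hz1 hzP'
    rw [← hy', MulAction.Quotient.smul_coe, smul_eq_mul]
    rw [QuotientGroup.eq]
    have : (y * a)⁻¹ * a = a⁻¹ * y⁻¹ * a := by group
    rw [this]
    exact N.mul_mem (N.mul_mem (N.inv_mem haN) (N.inv_mem (Subgroup.le_normalizer hyP))) haN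

/-- The number of orbits of `P` on the cosets of its normalizer, when `|P| = p`. -/
theorem card_orbits_mul_eq :
    Nat.card (orbitRel.Quotient (P : Subgroup G) (G ⧸ normalizer ((P : Subgroup G) : Set G))) * p =
      Nat.card (Sylow p G) + (p - 1) := by
  classical
  set N := normalizer ((P : Subgroup G) : Set G) with hN
  have := Fintype.ofFinite (P : Subgroup G)
  have := Fintype.ofFinite (G ⧸ N)
  have := Fintype.ofFinite (orbitRel.Quotient (P : Subgroup G) (G ⧸ N))
  have hB := MulAction.sum_card_fixedBy_eq_card_orbits_mul_card_group (P : Subgroup G) (G ⧸ N)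
  rw [← Nat.card_eq_fintype_card (α := (P : Subgroup G)), hP] at hB
  rw [Nat.card_eq_fintype_card, ← hB]
  rw [← Finset.add_sum_erase Finset.univ _ (Finset.mem_univ (1 : (P : Subgroup G)))]
  congr 1
  · rw [P.card_eq_index_normalizer, Subgroup.index, Nat.card_eq_fintype_card]
    apply Fintype.card_congr
    exact Equiv.subtypeUnivEquiv (fun q => one_smul _ q)
  · have h1 : ∀ g ∈ Finset.univ.erase (1 : (P : Subgroup G)),
        Fintype.card (fixedBy (G ⧸ N) g) = 1 := by
      intro g hg
      have hg1 : g ≠ 1 := Finset.ne_of_mem_erase hg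
      have hord : orderOf (g : G) = p := by
        have h5 : orderOf (g : G) ∣ p := by
          have := Subgroup.orderOf_dvd_natCard (P : Subgroup G) g.2
          rwa [hP] at this
        rcases (Nat.dvd_prime hp.out).1 h5 with h | h
        · exact (hg1 (Subtype.ext (orderOf_eq_one_iff.1 h))).elim
        · exact h
      have := card_fixedBy_normalizer_eq_one P hP (g : G) hord
      rw [Nat.card_eq_fintype_card] at this
      rw [← this]
      apply Fintype.card_congr
      exact Equiv.subtypeEquivRight (fun q => Iff.rfl)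
    rw [Finset.sum_congr rfl h1, Finset.sum_const, Finset.card_erase_of_mem (Finset.mem_univ _),
      Finset.card_univ, ← Nat.card_eq_fintype_card (α := (P : Subgroup G)), hP]
    simp

end

end Cfsg.Agent.Lib.Helper17
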