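import Cfsg.Agent.Lib.Helper17.Burnside
import Cfsg.Agent.Lib.Helper17.SylowCard

set_option autoImplicit false

namespace Cfsg.Agent.Lib.Helper17

open Subgroup

/-- For a Sylow subgroup of prime order `p`, `[N(P) : C(P)]` divides `p - 1`. -/
theorem relIndex_cent_norm_dvd_pred_of_card_prime {G : Type*} [Group G] [Finite G] {p : ℕ}
    [hp : Fact p.Prime] (P : Sylow p G) (hP : Nat.card (P : Subgroup G) = p) :
    (centralizer ((P : Subgroup G) : Set G)).relIndex (normalizer ((P : Subgroup G) : Set G)) ∣ p - 1 := by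
  have hc : IsCyclic (P : Subgroup G) := isCyclic_of_prime_card hP
  have := relIndex_centralizer_normalizer_dvd_card_mulAut (P : Subgroup G)
  rwa [IsCyclic.card_mulAut, hP, Nat.totient_prime hp.out] at this

/-- For a commutative subgroup `H`, `|H| * [N(H) : C(H)]` divides `|N(H)|`. -/
theorem card_mul_relIndex_cent_norm_dvd {G : Type*} [Group G] [Finite G] (H : Subgroup G)
    [IsMulCommutative H] :
    Nat.card H * (centralizer (H : Set G)).relIndex (normalizer (H : Set G)) ∣
      Nat.card (normalizer (H : Set G)) := by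
  have hHC : H ≤ centralizer (H : Set G) := Subgroup.le_centralizer _
  have hCN : centralizer (H : Set G) ≤ normalizer (H : Set G) := Subgroup.centralizer_le_normalizer _
  have h1 := Subgroup.relIndex_mul_relIndex _ _ _ hHC hCN
  have h2 := Subgroup.relIndex_mul_relIndex (⊥ : Subgroup G) H (normalizer (H : Set G)) bot_le
    Subgroup.le_normalizer
  rw [Subgroup.relIndex_bot_left, Subgroup.relIndex_bot_left] at h2
  rw [← h2, ← h1]
  exact Nat.mul_dvd_mul_left _ (Dvd.intro_left _ rfl)

/-- For a Sylow subgroup of prime order `p`, `p * [N(P) : C(P)]` divides `|N(P)|`. -/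
theorem mul_relIndex_cent_norm_dvd_of_card_prime {G : Type*} [Group G] [Finite G] {p : ℕ}
    [hp : Fact p.Prime] (P : Sylow p G) (hP : Nat.card (P : Subgroup G) = p) :
    p * (centralizer ((P : Subgroup G) : Set G)).relIndex (normalizer ((P : Subgroup G) : Set G)) ∣
      Nat.card (normalizer ((P : Subgroup G) : Set G)) := by
  have hc : IsCyclic (P : Subgroup G) := isCyclic_of_prime_card hP
  have hcomm : IsMulCommutative (P : Subgroup G) := ⟨⟨IsCyclic.commGroup.mul_comm⟩⟩
  have := card_mul_relIndex_cent_norm_dvd (P : Subgroup G)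
  rwa [hP] at this

/-- In a non-commutative simple group, `[N(P) : C(P)] ≠ 1` for a nontrivial Sylow subgroup. -/
theorem relIndex_cent_norm_ne_one_of_simple {G : Type*} [Group G] [Finite G] [IsSimpleGroup G]
    (hG : ¬ IsMulCommutative G) {p : ℕ} [Fact p.Prime] (P : Sylow p G) (hdvd : p ∣ Nat.card G) :
    (centralizer ((P : Subgroup G) : Set G)).relIndex (normalizer ((P : Subgroup G) : Set G)) ≠ 1 :=
  fun h => not_normalizer_le_centralizer_of_simple hG P hdvd (Subgroup.relIndex_eq_one.1 h)

end Cfsg.Agent.Lib.Helper17
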