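import Cfsg.Agent.S0985
import Mathlib.GroupTheory.IndexNormal

set_option autoImplicit false

namespace Cfsg.Agent.Lib.Helper17

open Subgroup

/-- `|H.subgroupOf K| = |H ⊓ K|`. -/
theorem card_subgroupOf_eq_card_inf' {G : Type*} [Group G] (H K : Subgroup G) :
    Nat.card (H.subgroupOf K) = Nat.card (H ⊓ K : Subgroup G) := by
  rw [← Subgroup.inf_subgroupOf_right]
  exact Nat.card_congr (Subgroup.subgroupOfEquivOfLe (inf_le_right : H ⊓ K ≤ K)).toEquiv

/-- If `n_p ≢ 1 mod p²`, there are distinct Sylow `p`-subgroups whose intersection has index `p`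
in both. -/
theorem exists_sylow_inter_index_p {G : Type*} [Group G] [Finite G] {p : ℕ} [hp : Fact p.Prime]
    (h : ¬ Nat.card (Sylow p G) ≡ 1 [MOD p ^ 2]) :
    ∃ P R : Sylow p G, P ≠ R ∧ ((R : Subgroup G).subgroupOf (P : Subgroup G)).index = p ∧
      ((P : Subgroup G).subgroupOf (R : Subgroup G)).index = p := by
  obtain ⟨P, R, hne, hle⟩ := Cfsg.Agent.S0985.result p 2 h
  have h1 : ((R : Subgroup G).subgroupOf (P : Subgroup G)).index = p := by
    obtain ⟨j, hj⟩ := P.2.index ((R : Subgroup G).subgroupOf (P : Subgroup G))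
    rw [hj] at hle ⊢
    have hj1 : j ≤ 1 := (Nat.pow_le_pow_iff_right hp.out.one_lt).1 hle
    have hj0 : j ≠ 0 := by
      intro h0
      rw [h0, pow_zero, Subgroup.index_eq_one, Subgroup.subgroupOf_eq_top] at hj
      exact hne (Sylow.ext (P.3 R.2 hj)).symm
    have : j = 1 := by omega
    rw [this, pow_one]
  refine ⟨P, R, hne, h1, ?_⟩
  have hcP : Nat.card (P : Subgroup G) = Nat.card (R : Subgroup G) := by
    rw [P.card_eq_multiplicity, R.card_eq_multiplicity]
  have e1 := Subgroup.index_mul_card ((R : Subgroup G).subgroupOf (P : Subgroup G))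
  have e2 := Subgroup.index_mul_card ((P : Subgroup G).subgroupOf (R : Subgroup G))
  rw [card_subgroupOf_eq_card_inf'] at e1 e2
  rw [inf_comm] at e1
  rw [h1, hcP, ← e2] at e1
  have hpos : 0 < Nat.card ((P : Subgroup G) ⊓ (R : Subgroup G) : Subgroup G) := Nat.card_pos
  exact (Nat.eq_of_mul_eq_mul_right hpos e1).symm

/-- A subgroup of index `p` in a Sylow `p`-subgroup is normalized by it. -/
theorem sylow_le_normalizer_inf_of_index {G : Type*} [Group G] [Finite G] {p : ℕ}
    [hp : Fact p.Prime] (P : Sylow p G) (K : Subgroup G)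
    (h : (K.subgroupOf (P : Subgroup G)).index = p) :
    (P : Subgroup G) ≤ normalizer (((P : Subgroup G) ⊓ K : Subgroup G) : Set G) := by
  rw [← Subgroup.normal_subgroupOf_iff_le_normalizer inf_le_left, Subgroup.inf_subgroupOf_left]
  apply Subgroup.normal_of_index_eq_minFac_card
  rw [h]
  obtain ⟨n, hn⟩ := IsPGroup.iff_card.mp P.isPGroup'
  have hn0 : n ≠ 0 := by
    intro h0
    rw [h0, pow_zero] at hn
    have h1 := Subgroup.index_mul_card (K.subgroupOf (P : Subgroup G))
    rw [hn, h] at h1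
    have := Nat.eq_one_of_mul_eq_one_right h1
    exact hp.out.one_lt.ne' this
  rw [hn, Nat.Prime.pow_minFac hp.out hn0]

/-- If `n_p ≢ 1 mod p²`, there are distinct Sylow `p`-subgroups `P`, `R` both normalizing
`P ⊓ R`, which has index `p` in `P`. -/
theorem exists_sylow_pair_normalizing_inter {G : Type*} [Group G] [Finite G] {p : ℕ}
    [hp : Fact p.Prime] (h : ¬ Nat.card (Sylow p G) ≡ 1 [MOD p ^ 2]) :
    ∃ P R : Sylow p G, P ≠ R ∧
      (P : Subgroup G) ≤ normalizer (((P : Subgroup G) ⊓ (R : Subgroup G) : Subgroup G) : Set G) ∧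
      (R : Subgroup G) ≤ normalizer (((P : Subgroup G) ⊓ (R : Subgroup G) : Subgroup G) : Set G) ∧
      Nat.card ((P : Subgroup G) ⊓ (R : Subgroup G) : Subgroup G) * p = Nat.card (P : Subgroup G) := by
  obtain ⟨P, R, hne, h1, h2⟩ := exists_sylow_inter_index_p h
  refine ⟨P, R, hne, sylow_le_normalizer_inf_of_index P R h1, ?_, ?_⟩
  · have := sylow_le_normalizer_inf_of_index R P h2
    rwa [inf_comm] at this
  · have e1 := Subgroup.index_mul_card ((R : Subgroup G).subgroupOf (P : Subgroup G))
    rw [card_subgroupOf_eq_card_inf', h1, inf_comm, mul_comm] at e1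
    exact e1

/-- If a subgroup `M` contains a Sylow `p`-subgroup `P` of `G`, then `n_p(M) * |P|` divides
`|M|`. -/
theorem card_sylow_subgroup_mul_card_dvd {G : Type*} [Group G] [Finite G] {p : ℕ}
    [hp : Fact p.Prime] (M : Subgroup G) (P : Sylow p G) (hPM : (P : Subgroup G) ≤ M) :
    Nat.card (Sylow p M) * Nat.card (P : Subgroup G) ∣ Nat.card M := by
  have h1 := (P.subtype hPM).card_dvd_index
  have h2 := Subgroup.index_mul_card ((P.subtype hPM : Sylow p M) : Subgroup M)
  rw [Sylow.coe_subtype] at h2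
  have h3 : Nat.card ((P : Subgroup G).subgroupOf M) = Nat.card (P : Subgroup G) :=
    Nat.card_congr (Subgroup.subgroupOfEquivOfLe hPM).toEquiv
  rw [h3] at h2
  rw [← h2]
  exact Nat.mul_dvd_mul_right h1 _

/-- If a subgroup `M` contains two distinct Sylow `p`-subgroups of `G`, then `M` has at least
`p + 1` Sylow `p`-subgroups. -/
theorem succ_le_card_sylow_subgroup {G : Type*} [Group G] [Finite G] {p : ℕ}
    [hp : Fact p.Prime] (M : Subgroup G) (P R : Sylow p G) (hne : P ≠ R)
    (hPM : (P : Subgroup G) ≤ M) (hRM : (R : Subgroup G) ≤ M) :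
    p + 1 ≤ Nat.card (Sylow p M) := by
  have hmod : Nat.card (Sylow p M) % p = 1 % p := card_sylow_modEq_one p M
  rw [Nat.mod_eq_of_lt hp.out.one_lt] at hmod
  have h2 : Nat.card (Sylow p M) ≠ 1 := by
    intro h1
    have hs : Subsingleton (Sylow p M) := (Nat.card_eq_one_iff_unique.1 h1).1
    exact hne (Sylow.subtype_injective (Subsingleton.elim (P.subtype hPM) (R.subtype hRM)))
  have hpos : 0 < Nat.card (Sylow p M) := Nat.card_pos
  by_contra hlt
  have hlt' : Nat.card (Sylow p M) < p + 1 := by omega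
  have hle : Nat.card (Sylow p M) ≤ p := by omega
  rcases Nat.lt_or_ge (Nat.card (Sylow p M)) p with h | h
  · rw [Nat.mod_eq_of_lt h] at hmod
    exact h2 hmod
  · have : Nat.card (Sylow p M) = p := le_antisymm hle h
    rw [this, Nat.mod_self] at hmod
    omega

end Cfsg.Agent.Lib.Helper17
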