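import Mathlib.GroupTheory.Sylow
import Mathlib.GroupTheory.Nilpotent
import Mathlib.GroupTheory.Index

set_option autoImplicit false

namespace Cfsg.Agent.Lib.Helper17

open Subgroup

/-- Normalizers grow in finite `p`-groups: a proper subgroup `D` of a `p`-subgroup `P` is properly
contained in `N_P(D)`. -/
theorem exists_mem_normalizer_not_mem_of_ne {G : Type*} [Group G] [Finite G] {p : ℕ}
    [Fact p.Prime] (P D : Subgroup G) (hP : IsPGroup p P) (hDP : D ≤ P) (hne : D ≠ P) :
    ∃ x ∈ P, x ∈ normalizer (D : Set G) ∧ x ∉ D := by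
  have hnil : Group.IsNilpotent P := hP.isNilpotent
  have hnc : NormalizerCondition P := Group.normalizerCondition_of_isNilpotent
  have hlt : D.subgroupOf P < ⊤ := by
    rw [lt_top_iff_ne_top]
    intro h
    rw [Subgroup.subgroupOf_eq_top] at h
    exact hne (le_antisymm hDP h)
  obtain ⟨x, hxN, hxD⟩ := SetLike.exists_of_lt (hnc _ hlt)
  refine ⟨x.1, x.2, ?_, ?_⟩
  · have e := Subgroup.subgroupOf_normalizer_eq hDP
    have : x ∈ (normalizer (D : Set G)).subgroupOf P := by rw [e]; exact hxN
    exact Subgroup.mem_subgroupOf.1 this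
  · intro h
    exact hxD (Subgroup.mem_subgroupOf.2 h)

/-- Membership in the image of a subgroup of a subgroup. -/
theorem mem_map_subtype_iff {G : Type*} [Group G] (N : Subgroup G) (S : Subgroup N) (x : N) :
    (x : G) ∈ S.map N.subtype ↔ x ∈ S := by
  constructor
  · rintro ⟨y, hy, hxy⟩
    have : y = x := Subtype.ext hxy
    rwa [← this]
  · intro hx
    exact ⟨x, hx, rfl⟩

/-- The image of a subgroup of `N` lies in `N`. -/
theorem map_subtype_le' {G : Type*} [Group G] (N : Subgroup G) (S : Subgroup N) :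
    S.map N.subtype ≤ N := by
  rintro _ ⟨y, _, rfl⟩
  exact y.2

/-- The image in `G` of a Sylow subgroup of `N` is a `p`-group. -/
theorem isPGroup_map_subtype {G : Type*} [Group G] {p : ℕ} (N : Subgroup G) (S : Sylow p N) :
    IsPGroup p ((S : Subgroup N).map N.subtype) :=
  S.2.map N.subtype

/-- Every Sylow subgroup of a subgroup lies in a Sylow subgroup of the group. -/
theorem exists_sylow_ge_map_subtype {G : Type*} [Group G] {p : ℕ} [Fact p.Prime]
    (N : Subgroup G) (S : Sylow p N) :
    ∃ T : Sylow p G, (S : Subgroup N).map N.subtype ≤ (T : Subgroup G) :=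
  (isPGroup_map_subtype N S).exists_le_sylow

/-- A `p`-subgroup of `G` contained in `N` lies in the image of a Sylow subgroup of `N`. -/
theorem exists_sylow_sub_ge {G : Type*} [Group G] {p : ℕ} [Fact p.Prime] (N K : Subgroup G)
    (hKN : K ≤ N) (hK : IsPGroup p K) :
    ∃ S : Sylow p N, K ≤ (S : Subgroup N).map N.subtype := by
  have hK' : IsPGroup p (K.subgroupOf N) :=
    hK.comap_of_injective N.subtype N.subtype_injective
  obtain ⟨S, hS⟩ := hK'.exists_le_sylow
  refine ⟨S, ?_⟩
  intro x hx
  have : (⟨x, hKN hx⟩ : N) ∈ (S : Subgroup N) := hS (Subgroup.mem_subgroupOf.2 hx)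
  exact (mem_map_subtype_iff N (S : Subgroup N) ⟨x, hKN hx⟩).2 this

/-- A `p`-subgroup `K ≤ N` containing the image of a Sylow subgroup `S` of `N` equals it. -/
theorem map_subtype_eq_of_le {G : Type*} [Group G] {p : ℕ} [Fact p.Prime] (N K : Subgroup G)
    (hKN : K ≤ N) (hK : IsPGroup p K) (S : Sylow p N)
    (hSK : (S : Subgroup N).map N.subtype ≤ K) : (S : Subgroup N).map N.subtype = K := by
  have hK' : IsPGroup p (K.subgroupOf N) :=
    hK.comap_of_injective N.subtype N.subtype_injective
  have hle : (S : Subgroup N) ≤ K.subgroupOf N := by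
    intro x hx
    exact Subgroup.mem_subgroupOf.2 (hSK ((mem_map_subtype_iff N _ x).2 hx))
  have heq : K.subgroupOf N = (S : Subgroup N) := S.3 hK' hle
  apply le_antisymm hSK
  intro x hx
  have : (⟨x, hKN hx⟩ : N) ∈ K.subgroupOf N := Subgroup.mem_subgroupOf.2 hx
  rw [heq] at this
  exact (mem_map_subtype_iff N (S : Subgroup N) ⟨x, hKN hx⟩).2 this

/-- A `p`-subgroup `D ≤ N` normalized by `N` lies in every Sylow subgroup of `N`. -/
theorem le_map_subtype_of_normal {G : Type*} [Group G] {p : ℕ} [Fact p.Prime] (N D : Subgroup G)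
    (hDN : D ≤ N) (hN : N ≤ normalizer (D : Set G)) (hD : IsPGroup p D) (S : Sylow p N) :
    D ≤ (S : Subgroup N).map N.subtype := by
  have hD' : IsPGroup p (D.subgroupOf N) :=
    hD.comap_of_injective N.subtype N.subtype_injective
  have hnorm : (D.subgroupOf N).Normal := (Subgroup.normal_subgroupOf_iff_le_normalizer hDN).2 hN
  have hsup : IsPGroup p ((D.subgroupOf N) ⊔ (S : Subgroup N) : Subgroup N) :=
    hD'.to_sup_of_normal_left S.2
  have heq : (D.subgroupOf N) ⊔ (S : Subgroup N) = (S : Subgroup N) := S.3 hsup le_sup_right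
  intro x hx
  have h1 : (⟨x, hDN hx⟩ : N) ∈ D.subgroupOf N := Subgroup.mem_subgroupOf.2 hx
  have h2 : (⟨x, hDN hx⟩ : N) ∈ (S : Subgroup N) := by
    rw [← heq]; exact Subgroup.mem_sup_left h1
  exact (mem_map_subtype_iff N (S : Subgroup N) ⟨x, hDN hx⟩).2 h2

/-- The image of a subgroup of `N` has the same cardinality. -/
theorem card_map_subtype {G : Type*} [Group G] (N : Subgroup G) (S : Subgroup N) :
    Nat.card (S.map N.subtype) = Nat.card S :=
  Nat.card_congr (S.equivMapOfInjective N.subtype N.subtype_injective).symm.toEquiv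

end Cfsg.Agent.Lib.Helper17
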