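import Cfsg.Agent.S0991
import Mathlib.GroupTheory.Perm.Cycle.Type
import Mathlib.GroupTheory.Index

set_option autoImplicit false

namespace Cfsg.Agent.Lib.Helper17

open MulAction

/-- In a non-commutative simple group, an element `t` with `t ^ 2 = 1` acts on the cosets of any
subgroup as an even permutation: `4 ∣ [G:H] - |Fix(t)|`. -/
theorem four_dvd_index_sub_card_fixedBy_of_simple {G : Type*} [Group G] [Finite G]
    [IsSimpleGroup G] (hG : ¬ IsMulCommutative G) (H : Subgroup G) (t : G) (ht : t ^ 2 = 1) :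
    4 ∣ H.index - Nat.card (fixedBy (G ⧸ H) t) := by
  classical
  have := Fintype.ofFinite (G ⧸ H)
  set σ : Equiv.Perm (G ⧸ H) := MulAction.toPermHom G (G ⧸ H) t with hσ
  have hσ2 : σ ^ 2 = 1 := by
    rw [hσ, ← map_pow, ht, map_one]
  have hsign : Equiv.Perm.sign σ = 1 := by
    have hk := Cfsg.Agent.S0991.ker_eq_top_of_comm hG
      ((Equiv.Perm.sign).comp (MulAction.toPermHom G (G ⧸ H)))
    have ht' : t ∈ ((Equiv.Perm.sign).comp (MulAction.toPermHom G (G ⧸ H))).ker := by
      rw [hk]; trivial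
    rw [MonoidHom.mem_ker] at ht'
    exact ht'
  have h1 := Equiv.Perm.sign_of_pow_two_eq_one hσ2
  rw [hsign] at h1
  have heven : Even ((Fintype.card (G ⧸ H) - Fintype.card (Function.fixedPoints σ)) / 2) := by
    rw [← neg_one_pow_eq_one_iff_even (R := ℤˣ) (by decide)]
    exact h1.symm
  have h2 : 2 ∣ Fintype.card (G ⧸ H) - Fintype.card (Function.fixedPoints σ) := by
    have := Equiv.Perm.two_dvd_card_support hσ2
    rw [← Equiv.Perm.sum_cycleType] at this
    rw [Equiv.Perm.card_fixedPoints, Nat.sub_sub_self σ.sum_cycleType_le]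
    exact this
  have hidx : H.index = Fintype.card (G ⧸ H) := by
    rw [Subgroup.index, Nat.card_eq_fintype_card]
  have hfix : Nat.card (fixedBy (G ⧸ H) t) = Fintype.card (Function.fixedPoints σ) := by
    rw [← Nat.card_eq_fintype_card]
    exact Nat.card_congr (Equiv.subtypeEquivRight (fun _ => Iff.rfl))
  rw [hidx, hfix]
  obtain ⟨k, hk⟩ := h2
  rw [hk] at heven ⊢
  rw [Nat.mul_div_cancel_left k (by norm_num)] at heven
  obtain ⟨j, hj⟩ := heven
  exact ⟨j, by rw [hj]; ring⟩

end Cfsg.Agent.Lib.Helper17
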