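import Mathlib.GroupTheory.Sylow
import Mathlib.GroupTheory.Index

set_option autoImplicit false

namespace Cfsg.Agent.Lib.Helper17

open MulAction Fintype

/-- Orbit counting modulo `m`: if every non-trivial orbit has size divisible by `m`, then the
cardinality of the set is congruent to the number of fixed points modulo `m`. -/
theorem card_modEq_card_fixedPoints_of_dvd {H X : Type*} [Group H] [MulAction H X] [Finite X]
    (m : ℕ) (hm : ∀ x : X, x ∉ fixedPoints H X → m ∣ Nat.card (orbit H x)) :
    Nat.card X ≡ Nat.card (fixedPoints H X) [MOD m] := by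
  have := Fintype.ofFinite X
  have := Fintype.ofFinite (fixedPoints H X)
  rw [Nat.card_eq_fintype_card, Nat.card_eq_fintype_card]
  classical
    calc
      card X = card (Σ y : Quotient (orbitRel H X), { x // Quotient.mk'' x = y }) :=
        card_congr (Equiv.sigmaFiberEquiv (@Quotient.mk'' _ (orbitRel H X))).symm
      _ = ∑ a : Quotient (orbitRel H X), card { x // Quotient.mk'' x = a } := card_sigma
      _ ≡ ∑ _a : fixedPoints H X, 1 [MOD m] := ?_
      _ = _ := by simp
    rw [← ZMod.natCast_eq_natCast_iff _ _ m, Nat.cast_sum, Nat.cast_sum]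
    have key :
      ∀ x,
        card { y // (Quotient.mk'' y : Quotient (orbitRel H X)) = Quotient.mk'' x } =
          card (orbit H x) :=
      fun x => by simp only [Quotient.eq'']; congr
    refine
      Eq.symm
        (Finset.sum_bij_ne_zero (fun a _ _ => Quotient.mk'' a.1) (fun _ _ _ => Finset.mem_univ _)
          (fun a₁ _ _ a₂ _ _ h =>
            Subtype.ext (mem_fixedPoints'.mp a₂.2 a₁.1 (Quotient.exact' h)))
          (fun b => Quotient.inductionOn' b fun b _ hb => ?_) fun a ha _ => by
          rw [key, mem_fixedPoints_iff_card_orbit_eq_one.mp a.2])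
    have hbf : b ∈ fixedPoints H X := by
      by_contra hcon
      apply hb
      have h1 := hm b hcon
      rw [Nat.card_eq_fintype_card] at h1
      have h2 : ((card (orbit H b) : ℕ) : ZMod m) = 0 := (ZMod.natCast_eq_zero_iff _ _).2 h1
      rw [← h2]
      congr 1
      exact key b
    refine ⟨⟨b, hbf⟩, Finset.mem_univ _, ?_, rfl⟩
    intro h0
    apply hb
    rw [← h0]
    have := key b
    rw [mem_fixedPoints_iff_card_orbit_eq_one.mp hbf] at this
    change ((card { y // (Quotient.mk'' y : Quotient (orbitRel H X)) = Quotient.mk'' b } : ℕ) : ZMod m) = ((1 : ℕ) : ZMod m)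
    rw [this]

end Cfsg.Agent.Lib.Helper17
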