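import Mathlib.LinearAlgebra.Matrix.GeneralLinearGroup.Defs
import Mathlib.GroupTheory.Nilpotent
import Mathlib.Algebra.Ring.GeomSum
import Mathlib.Tactic.Ring
import Mathlib.Tactic.Linarith
import Mathlib.Tactic.NoncommRing

set_option autoImplicit false
set_option linter.unusedSectionVars false

namespace Cfsg.Agent.Lib.Helper17

open Matrix
open scoped commutatorElement

section

variable {ι : Type*} [Fintype ι] [DecidableEq ι] {R : Type*} [CommRing R] (w : ι → ℕ)

/-- A matrix has depth `d` with respect to the weight `w` if its entry `(i, j)` vanishes unless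
`w i ≥ w j + d`. -/
def Depth (d : ℕ) (N : Matrix ι ι R) : Prop := ∀ i j, w i < w j + d → N i j = 0

variable {w}

theorem Depth.mono {d d' : ℕ} {N : Matrix ι ι R} (h : d' ≤ d) (hN : Depth w d N) : Depth w d' N :=
  fun i j hij => hN i j (by omega)

theorem Depth.zero_mat (d : ℕ) : Depth w d (0 : Matrix ι ι R) := fun _ _ _ => rfl

theorem Depth.add {d : ℕ} {N M : Matrix ι ι R} (hN : Depth w d N) (hM : Depth w d M) :
    Depth w d (N + M) := fun i j hij => by
  rw [Matrix.add_apply, hN i j hij, hM i j hij, add_zero]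

theorem Depth.neg {d : ℕ} {N : Matrix ι ι R} (hN : Depth w d N) : Depth w d (-N) := fun i j hij => by
  rw [Matrix.neg_apply, hN i j hij, neg_zero]

theorem Depth.sub {d : ℕ} {N M : Matrix ι ι R} (hN : Depth w d N) (hM : Depth w d M) :
    Depth w d (N - M) := fun i j hij => by
  rw [Matrix.sub_apply, hN i j hij, hM i j hij, sub_zero]

theorem Depth.one_mat : Depth w 0 (1 : Matrix ι ι R) := fun i j hij => by
  rw [Matrix.one_apply_ne]
  intro h
  rw [h] at hij
  omega

theorem Depth.mul {d₁ d₂ : ℕ} {N M : Matrix ι ι R} (hN : Depth w d₁ N) (hM : Depth w d₂ M) :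
    Depth w (d₁ + d₂) (N * M) := fun i j hij => by
  rw [Matrix.mul_apply]
  apply Finset.sum_eq_zero
  intro k _
  by_cases h1 : w i < w k + d₁
  · rw [hN i k h1, zero_mul]
  · have h2 : w k < w j + d₂ := by omega
    rw [hM k j h2, mul_zero]

theorem Depth.pow {d : ℕ} {N : Matrix ι ι R} (hN : Depth w d N) (k : ℕ) :
    Depth w (k * d) (N ^ k) := by
  induction k with
  | zero => rw [pow_zero, zero_mul]; exact Depth.one_mat
  | succ k ih =>
    rw [pow_succ, Nat.succ_mul]
    exact ih.mul hN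

theorem Depth.sum {α : Type*} (s : Finset α) {d : ℕ} (f : α → Matrix ι ι R)
    (h : ∀ a ∈ s, Depth w d (f a)) : Depth w d (∑ a ∈ s, f a) := by
  classical
  induction s using Finset.induction_on with
  | empty => rw [Finset.sum_empty]; exact Depth.zero_mat d
  | insert a s ha ih =>
    rw [Finset.sum_insert ha]
    exact (h a (Finset.mem_insert_self a s)).add
      (ih fun b hb => h b (Finset.mem_insert_of_mem hb))

theorem Depth.eq_zero {n : ℕ} (hw : ∀ i, w i < n) {N : Matrix ι ι R} (hN : Depth w n N) : N = 0 := by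
  ext i j
  exact hN i j (by have := hw i; omega)

/-- A matrix of depth at least one is nilpotent. -/
theorem Depth.pow_eq_zero {n : ℕ} (hw : ∀ i, w i < n) {d : ℕ} (hd : 1 ≤ d) {N : Matrix ι ι R}
    (hN : Depth w d N) : N ^ n = 0 := by
  apply Depth.eq_zero hw
  have := hN.pow n
  exact this.mono (by nlinarith)

/-- The inverse of `1 + N` for `N` of positive depth. -/
theorem Depth.inv_sub_one {n : ℕ} (hw : ∀ i, w i < n) {d : ℕ} (hd : 1 ≤ d) (g : GL ι R)
    (hN : Depth w d ((g : Matrix ι ι R) - 1)) :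
    Depth w d (((g⁻¹ : GL ι R) : Matrix ι ι R) - 1) := by
  set N : Matrix ι ι R := (g : Matrix ι ι R) - 1 with hNdef
  have hnil : (-N) ^ n = 0 := Depth.pow_eq_zero hw hd hN.neg
  set h : Matrix ι ι R := ∑ k ∈ Finset.range n, (-N) ^ k with hh
  have hg : (g : Matrix ι ι R) = 1 - (-N) := by rw [hNdef]; abel
  have hmul : (g : Matrix ι ι R) * h = 1 := by
    rw [hg, hh, mul_neg_geom_sum, hnil, sub_zero]
  have hinv : ((g⁻¹ : GL ι R) : Matrix ι ι R) = h := by
    have h1 : ((g⁻¹ : GL ι R) : Matrix ι ι R) * ((g : Matrix ι ι R) * h) = h := by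
      rw [← mul_assoc]
      have : ((g⁻¹ : GL ι R) : Matrix ι ι R) * (g : Matrix ι ι R) = 1 := by
        rw [← Units.val_mul, inv_mul_cancel, Units.val_one]
      rw [this, one_mul]
    rw [hmul, mul_one] at h1
    exact h1
  rw [hinv, hh]
  rcases n with _ | n
  · have hN0 : N = 0 := by
      ext i j
      exact absurd (hw i) (Nat.not_lt_zero _)
    rw [Finset.range_zero, Finset.sum_empty]
    have h1 : (1 : Matrix ι ι R) = 0 := by
      ext i j
      exact absurd (hw i) (Nat.not_lt_zero _)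
    rw [h1, sub_zero]
    exact Depth.zero_mat d
  · rw [Finset.sum_range_succ', pow_zero, add_sub_cancel_right]
    apply Depth.sum
    intro k _
    have := (hN.neg).pow (k + 1)
    exact this.mono (by nlinarith)

/-- `g * h - 1` has depth `d` when `g - 1` and `h - 1` do. -/
theorem Depth.mul_sub_one {d : ℕ} {g h : Matrix ι ι R} (hg : Depth w d (g - 1))
    (hh : Depth w d (h - 1)) : Depth w d (g * h - 1) := by
  have e : g * h - 1 = (g - 1) * (h - 1) + (g - 1) + (h - 1) := by noncomm_ring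
  rw [e]
  exact (((hg.mul hh).mono (by omega)).add hg).add hh

/-- The group of invertible matrices `g` with `g - 1` of depth `d ≥ 1`. -/
def UT (w : ι → ℕ) (n : ℕ) (hw : ∀ i, w i < n) (d : ℕ) (hd : 1 ≤ d) (R : Type*) [CommRing R] :
    Subgroup (GL ι R) where
  carrier := {g | Depth w d ((g : Matrix ι ι R) - 1)}
  one_mem' := by
    show Depth w d (((1 : GL ι R) : Matrix ι ι R) - 1)
    rw [Units.val_one, sub_self]
    exact Depth.zero_mat d
  mul_mem' := by
    intro a b ha hb
    show Depth w d (((a * b : GL ι R) : Matrix ι ι R) - 1)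
    rw [Units.val_mul]
    exact Depth.mul_sub_one ha hb
  inv_mem' := by
    intro a ha
    exact Depth.inv_sub_one hw hd a ha

theorem mem_UT {n : ℕ} {hw : ∀ i, w i < n} {d : ℕ} {hd : 1 ≤ d} {g : GL ι R} :
    g ∈ UT w n hw d hd R ↔ Depth w d ((g : Matrix ι ι R) - 1) := Iff.rfl

theorem UT_anti {n : ℕ} {hw : ∀ i, w i < n} {d d' : ℕ} (hd : 1 ≤ d) (hdd : d ≤ d') :
    UT w n hw d' (hd.trans hdd) R ≤ UT w n hw d hd R := fun _ hg => Depth.mono hdd hg

theorem UT_eq_bot {n : ℕ} {hw : ∀ i, w i < n} {d : ℕ} (hd : 1 ≤ d) (hnd : n ≤ d) :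
    UT w n hw d hd R = ⊥ := by
  rw [eq_bot_iff]
  intro g hg
  rw [Subgroup.mem_bot]
  have h0 : (g : Matrix ι ι R) - 1 = 0 := Depth.eq_zero hw (Depth.mono hnd hg)
  apply Units.ext
  rw [Units.val_one]
  exact sub_eq_zero.1 h0

/-- Depth of a group commutator. -/
theorem Depth.commutator {n : ℕ} (hw : ∀ i, w i < n) {d e : ℕ} (hd : 1 ≤ d) (he : 1 ≤ e)
    (x g : GL ι R) (hx : Depth w d ((x : Matrix ι ι R) - 1))
    (hg : Depth w e ((g : Matrix ι ι R) - 1)) :
    Depth w (d + e) (((⁅x, g⁆ : GL ι R) : Matrix ι ι R) - 1) := by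
  have hxi := Depth.inv_sub_one hw hd x hx
  have hgi := Depth.inv_sub_one hw he g hg
  set X : Matrix ι ι R := (x : Matrix ι ι R) with hX
  set Y : Matrix ι ι R := (g : Matrix ι ι R) with hY
  set X' : Matrix ι ι R := ((x⁻¹ : GL ι R) : Matrix ι ι R) with hX'
  set Y' : Matrix ι ι R := ((g⁻¹ : GL ι R) : Matrix ι ι R) with hY'
  have h1 : Y * X * X' * Y' = 1 := by
    have a1 : X * X' = 1 := by rw [hX, hX', ← Units.val_mul, mul_inv_cancel, Units.val_one]
    have a2 : Y * Y' = 1 := by rw [hY, hY', ← Units.val_mul, mul_inv_cancel, Units.val_one]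
    rw [mul_assoc Y X X', a1, mul_one, a2]
  have e1 : ((⁅x, g⁆ : GL ι R) : Matrix ι ι R) = X * Y * X' * Y' := by
    rw [commutatorElement_def, Units.val_mul, Units.val_mul, Units.val_mul]
  have e2 : X * Y * X' * Y' - 1 = ((X - 1) * (Y - 1) - (Y - 1) * (X - 1)) * (X' * Y') := by
    have : X * Y * X' * Y' - 1 = X * Y * X' * Y' - Y * X * X' * Y' := by rw [h1]
    rw [this]
    noncomm_ring
  rw [e1, e2]
  have hXY' : Depth w 0 (X' * Y') := by
    have a : Depth w 0 X' := by
      have : X' = (X' - 1) + 1 := by abel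
      rw [this]
      exact (hxi.mono (Nat.zero_le _)).add Depth.one_mat
    have b : Depth w 0 Y' := by
      have : Y' = (Y' - 1) + 1 := by abel
      rw [this]
      exact (hgi.mono (Nat.zero_le _)).add Depth.one_mat
    exact a.mul b
  have h2 : Depth w (d + e) ((X - 1) * (Y - 1) - (Y - 1) * (X - 1)) := by
    apply Depth.sub (hx.mul hg)
    have := hg.mul hx
    rwa [Nat.add_comm] at this
  exact h2.mul hXY'

/-- The unitriangular group is nilpotent. -/
theorem UT_isNilpotent {n : ℕ} (hw : ∀ i, w i < n) :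
    Group.IsNilpotent (UT w n hw 1 le_rfl R) := by
  rw [Subgroup.nilpotent_iff_finite_descending_central_series]
  refine ⟨n, fun k => (UT w n hw (k + 1) (Nat.le_add_left 1 k) R).subgroupOf (UT w n hw 1 le_rfl R),
    ⟨?_, ?_⟩, ?_⟩
  · show (UT w n hw (0 + 1) _ R).subgroupOf (UT w n hw 1 le_rfl R) = ⊤
    exact Subgroup.subgroupOf_eq_top.2 (fun g hg => hg)
  · intro x k hx g
    rw [Subgroup.mem_subgroupOf] at hx ⊢
    have hg : Depth w 1 (((g : GL ι R) : Matrix ι ι R) - 1) := g.2
    have := Depth.commutator hw (Nat.le_add_left 1 k) le_rfl (x : GL ι R) (g : GL ι R) hx hg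
    exact this
  · show (UT w n hw (n + 1) _ R).subgroupOf (UT w n hw 1 le_rfl R) = ⊥
    rw [UT_eq_bot (Nat.le_add_left 1 n) (Nat.le_succ n)]
    exact Subgroup.bot_subgroupOf _

/-- Any subgroup of the unitriangular group is nilpotent. -/
theorem isNilpotent_of_le_UT {n : ℕ} (hw : ∀ i, w i < n) (H : Subgroup (GL ι R))
    (hH : H ≤ UT w n hw 1 le_rfl R) : Group.IsNilpotent H := by
  have := UT_isNilpotent (R := R) hw
  refine Subgroup.isNilpotent_of_ker_le_center (Subgroup.inclusion hH) ?_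
  rw [(MonoidHom.ker_eq_bot_iff _).2 (Subgroup.inclusion_injective hH)]
  exact bot_le

/-- Elements of the unitriangular group are unipotent. -/
theorem sub_one_pow_eq_zero_of_mem_UT {n : ℕ} (hw : ∀ i, w i < n) {g : GL ι R}
    (hg : g ∈ UT w n hw 1 le_rfl R) : ((g : Matrix ι ι R) - 1) ^ n = 0 :=
  Depth.pow_eq_zero hw le_rfl hg

end

end Cfsg.Agent.Lib.Helper17
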