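import Cfsg.Prelude.Def_ChevStructure
import Cfsg.Prelude.Def_LieTypes
import Cfsg.Prelude.Def_ChevB2
import Cfsg.Agent.Lib.Helper17.TriDepth

set_option autoImplicit false

namespace Cfsg.Agent.Lib.Helper17

open Cfsg Cfsg.Lie Matrix

/-- Weight of a coordinate: negative roots, then fundamental coroots, then positive roots. -/
def chevWeight (D : ChevalleyDatum) : D.Idx → ℕ
  | Sum.inl i => D.nroots / 2 + i.val
  | Sum.inr s => if s.val < D.nroots / 2 then s.val else s.val + D.rank

theorem chevWeight_lt (D : ChevalleyDatum) (i : D.Idx) : chevWeight D i < D.rank + D.nroots := by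
  rcases i with i | s
  · have := i.isLt
    show D.nroots / 2 + i.val < _
    omega
  · have := s.isLt
    show (if s.val < D.nroots / 2 then s.val else s.val + D.rank) < _
    split_ifs <;> omega

/-- The decidable table check: positive roots are in the upper half, their negatives in the lower
half, and chains of positive roots go upwards in the index ordering. -/
def posOK (D : ChevalleyDatum) : Bool :=
  (List.range D.nroots).all fun r =>
    !(decide (D.IsPosRoot r)) ||
      (decide (D.nroots / 2 ≤ r) && decide (D.negIdx.getD r 0 < D.nroots / 2) &&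
        (D.chain.getD r #[]).toList.all fun e => e.2.toList.all fun q => decide (e.1 < q.1))

theorem posOK_spec {D : ChevalleyDatum} (hOK : posOK D = true) (r : ℕ) (hr : D.IsPosRoot r) :
    D.nroots / 2 ≤ r ∧ D.negIdx.getD r 0 < D.nroots / 2 ∧
      ∀ e ∈ (D.chain.getD r #[]).toList, ∀ q ∈ e.2.toList, e.1 < q.1 := by
  unfold posOK at hOK
  rw [List.all_eq_true] at hOK
  have h := hOK r (List.mem_range.2 hr.1)
  simp only [hr, decide_true, Bool.not_true, Bool.false_or, Bool.and_eq_true, decide_eq_true_eq,
    List.all_eq_true] at h
  exact ⟨h.1.1, h.1.2, h.2⟩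

theorem mem_chainCoeff' (D : ChevalleyDatum) (r s u : ℕ) (km : ℕ × ℤ)
    (h : km ∈ D.chainCoeff r s u) :
    ∃ e ∈ (D.chain.getD r #[]).toList, e.1 = s ∧
      ∃ q ∈ e.2.toList.zipIdx, q.1.1 = u ∧ km = (q.2 + 1, q.1.2) := by
  unfold ChevalleyDatum.chainCoeff at h
  simp only [List.mem_flatMap, List.mem_filter, List.mem_map, decide_eq_true_eq] at h
  obtain ⟨e, ⟨he, hes⟩, q, ⟨hq, hqu⟩, hkm⟩ := h
  exact ⟨e, he, hes, q, hq, hqu, hkm.symm⟩

theorem chainCoeff_eq_nil {D : ChevalleyDatum} (hOK : posOK D = true) (r : ℕ)
    (hr : D.IsPosRoot r) (s u : ℕ) (hus : u ≤ s) : D.chainCoeff r s u = [] := by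
  rw [List.eq_nil_iff_forall_not_mem]
  intro km hkm
  obtain ⟨e, he, hes, q, hq, hqu, -⟩ := mem_chainCoeff' D r s u km hkm
  have := (posOK_spec hOK r hr).2.2 e he q.1 (List.fst_mem_of_mem_zipIdx hq)
  omega

variable {F : Type*} [Field F]

theorem xMat_sub_one_depth {D : ChevalleyDatum} (hOK : posOK D = true) (r : Fin D.nroots)
    (hr : D.IsPosRoot r.val) (t : F) : Depth (chevWeight D) 1 (D.xMat F r t - 1) := by
  obtain ⟨h1, h2, -⟩ := posOK_spec hOK r.val hr
  intro i j hij
  rw [Matrix.sub_apply, sub_eq_zero]
  rcases j with j | s
  · -- column h_j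
    rcases i with i | u
    · show (if i = j then (1 : F) else 0) = (1 : Matrix D.Idx D.Idx F) (Sum.inl i) (Sum.inl j)
      by_cases hij' : i = j
      · subst hij'; rw [if_pos rfl, Matrix.one_apply_eq]
      · rw [if_neg hij', Matrix.one_apply_ne (by simpa using hij')]
    · show (if u = r then - (((D.cartanSR.getD j.val #[]).getD r.val 0 : ℤ) : F) * t else 0)
        = (1 : Matrix D.Idx D.Idx F) (Sum.inr u) (Sum.inl j)
      rw [Matrix.one_apply_ne (by simp)]
      rw [if_neg]
      rintro rfl
      have hj := j.isLt
      have : chevWeight D (Sum.inr u) = u.val + D.rank := by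
        show (if u.val < D.nroots / 2 then u.val else u.val + D.rank) = _
        rw [if_neg (by omega)]
      have h3 : chevWeight D (Sum.inl j) = D.nroots / 2 + j.val := rfl
      omega
  · -- column e_s
    by_cases hsr : s = r
    · subst hsr
      rcases i with i | u
      · show (D.xMat F s t) (Sum.inl i) (Sum.inr s) = _
        rw [Matrix.one_apply_ne (by simp)]
        simp [ChevalleyDatum.xMat]
      · show (D.xMat F s t) (Sum.inr u) (Sum.inr s) = _
        by_cases hus : u = s
        · subst hus
          rw [Matrix.one_apply_eq]
          simp [ChevalleyDatum.xMat]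
        · rw [Matrix.one_apply_ne (by simpa using hus)]
          simp [ChevalleyDatum.xMat, hus]
    · by_cases hsn : s.val = D.negIdx.getD r.val 0
      · have hws : chevWeight D (Sum.inr s) = s.val := by
          show (if s.val < D.nroots / 2 then s.val else s.val + D.rank) = _
          rw [if_pos (by omega)]
        rcases i with i | u
        · exfalso
          have h3 : chevWeight D (Sum.inl i) = D.nroots / 2 + i.val := rfl
          omega
        · by_cases hus : u = s
          · subst hus
            rw [Matrix.one_apply_eq]
            simp [ChevalleyDatum.xMat, hsr, hsn]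
          · rw [Matrix.one_apply_ne (by simpa using hus)]
            have hur : u ≠ r := by
              rintro rfl
              have : chevWeight D (Sum.inr u) = u.val + D.rank := by
                show (if u.val < D.nroots / 2 then u.val else u.val + D.rank) = _
                rw [if_neg (by omega)]
              omega
            simp [ChevalleyDatum.xMat, hsr, hsn, hus, hur]
      · have hsn' : ¬ (s.val = (D.negIdx[r.val]?).getD 0) := by simpa using hsn
        rcases i with i | u
        · rw [Matrix.one_apply_ne (by simp)]
          simp [ChevalleyDatum.xMat, hsr, hsn']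
        · have hus : u.val ≤ s.val := by
            have a : chevWeight D (Sum.inr u) =
              (if u.val < D.nroots / 2 then u.val else u.val + D.rank) := rfl
            have b : chevWeight D (Sum.inr s) =
              (if s.val < D.nroots / 2 then s.val else s.val + D.rank) := rfl
            rw [a, b] at hij
            split_ifs at hij <;> omega
          have hnil := chainCoeff_eq_nil hOK r.val hr s.val u.val hus
          by_cases hus' : u = s
          · subst hus'
            rw [Matrix.one_apply_eq]
            simp [ChevalleyDatum.xMat, hsr, hsn', hnil]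
          · rw [Matrix.one_apply_ne (by simpa using hus')]
            simp [ChevalleyDatum.xMat, hsr, hsn', hnil, hus']

/-- The ambient unitriangular group of a Chevalley datum. -/
def chevUT (D : ChevalleyDatum) (F : Type*) [Field F] : Subgroup (GL D.Idx F) :=
  UT (chevWeight D) (D.rank + D.nroots) (chevWeight_lt D) 1 le_rfl F

theorem posUnipotent_le_chevUT {D : ChevalleyDatum} (hOK : posOK D = true) :
    D.posUnipotent F ≤ chevUT D F := by
  unfold ChevalleyDatum.posUnipotent
  rw [Subgroup.closure_le]
  rintro g ⟨r, t, hr, hg⟩
  show Depth (chevWeight D) 1 ((g : Matrix D.Idx D.Idx F) - 1)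
  rw [hg]
  unfold ChevalleyDatum.x
  rw [dif_pos hr.1]
  exact xMat_sub_one_depth hOK ⟨r, hr.1⟩ hr t

set_option maxRecDepth 100000 in
theorem posOK_G2 : posOK chevG2 = true := by decide +kernel

set_option maxRecDepth 100000 in
theorem posOK_B2 : posOK chevB2 = true := by decide +kernel

set_option maxRecDepth 100000 in
theorem posOK_D4 : posOK chevD4 = true := by decide +kernel

set_option maxRecDepth 100000 in
theorem posOK_F4 : posOK chevF4 = true := by decide +kernel

set_option maxRecDepth 100000 in
theorem posOK_E6 : posOK chevE6 = true := by decide +kernel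

set_option maxRecDepth 100000 in
theorem posOK_E7 : posOK chevE7 = true := by decide +kernel

set_option maxRecDepth 100000 in
theorem posOK_E8 : posOK chevE8 = true := by decide +kernel

theorem posOK_of_mem (D : ChevalleyDatum)
    (hD : D ∈ [chevG2, chevB2, chevD4, chevF4, chevE6, chevE7, chevE8]) : posOK D = true := by
  simp only [List.mem_cons, List.not_mem_nil, or_false] at hD
  rcases hD with rfl | rfl | rfl | rfl | rfl | rfl | rfl
  · exact posOK_G2
  · exact posOK_B2
  · exact posOK_D4
  · exact posOK_F4
  · exact posOK_E6
  · exact posOK_E7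
  · exact posOK_E8

end Cfsg.Agent.Lib.Helper17
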