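import Cfsg.Agent.Lib.Helper17.ChevAddFast

set_option autoImplicit false

namespace Cfsg.Agent.Lib.Helper17

open Cfsg Cfsg.Lie Matrix

set_option maxRecDepth 100000 in
theorem addOK_G2 : addOK chevG2 = true := by decide +kernel

set_option maxRecDepth 100000 in
theorem addOK_B2 : addOK chevB2 = true := by decide +kernel

set_option maxRecDepth 100000 in
theorem addOK_F4 : addOK chevF4 = true := by decide +kernel

set_option maxRecDepth 100000 in
theorem addOK1_D4 : addOK1 chevD4 = true := by decide +kernel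

set_option maxRecDepth 100000 in
theorem addOK1_E6 : addOK1 chevE6 = true := by decide +kernel

set_option maxRecDepth 100000 in
theorem addOK1_E7 : addOK1 chevE7 = true := by decide +kernel

set_option maxRecDepth 100000 in
theorem addOK1_E8 : addOK1 chevE8 = true := by decide +kernel

/-- Additivity of root elements `x_r(t₁) x_r(t₂) = x_r(t₁ + t₂)` for the seven tabulated data. -/
theorem xMat_add_of_mem {F : Type*} [Field F] (D : ChevalleyDatum)
    (hD : D ∈ [chevG2, chevB2, chevD4, chevF4, chevE6, chevE7, chevE8]) (r : Fin D.nroots)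
    (t₁ t₂ : F) : D.xMat F r t₁ * D.xMat F r t₂ = D.xMat F r (t₁ + t₂) := by
  simp only [List.mem_cons, List.not_mem_nil, or_false] at hD
  rcases hD with rfl | rfl | rfl | rfl | rfl | rfl | rfl
  · exact xMat_add addOK_G2 r t₁ t₂
  · exact xMat_add addOK_B2 r t₁ t₂
  · exact xMat_add1 addOK1_D4 r t₁ t₂
  · exact xMat_add addOK_F4 r t₁ t₂
  · exact xMat_add1 addOK1_E6 r t₁ t₂
  · exact xMat_add1 addOK1_E7 r t₁ t₂
  · exact xMat_add1 addOK1_E8 r t₁ t₂

/-- Additivity of root elements, in terms of `D.x`. -/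
theorem x_add {F : Type*} [Field F] (D : ChevalleyDatum)
    (hD : D ∈ [chevG2, chevB2, chevD4, chevF4, chevE6, chevE7, chevE8]) (r : ℕ) (hr : r < D.nroots)
    (t₁ t₂ : F) : D.x F r t₁ * D.x F r t₂ = D.x F r (t₁ + t₂) := by
  unfold ChevalleyDatum.x
  rw [dif_pos hr, dif_pos hr, dif_pos hr]
  exact xMat_add_of_mem D hD ⟨r, hr⟩ t₁ t₂

end Cfsg.Agent.Lib.Helper17
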