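import Mathlib

/-!
# Tensor maps never are `1 + rank one` (helper17, for BHRSU-[P4], [P7])

`ten p₁ p₂ u w z = u (p₁ z) * w (p₂ z)` for index maps `p₁ : κ → ι₁`, `p₂ : κ → ι₂` which together form a
bijection `κ ≃ ι₁ × ι₂`.  A matrix `g = 1 + vecMulVec x y` (`x, y ≠ 0`) on `κ → F` cannot act on all pure
tensors as `u ⊗ w ↦ A u ⊗ B w` (if `|ι₁|, |ι₂| ≥ 2`), nor as `u ⊗ w ↦ A w ⊗ B u` (if `ι₁ = ι₂`, `|ι₁| ≥ 3`).
-/

set_option autoImplicit false

namespace Cfsg.Agent.Lib.Helper17.Ten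

open Matrix

variable {F : Type*} [Field F]

/-- a matrix having every non-zero vector as an eigenvector is scalar -/
theorem scalar_of_all_eigen {ι : Type*} [Fintype ι] [DecidableEq ι] (M : Matrix ι ι F)
    (h : ∀ u : ι → F, u ≠ 0 → ∃ l : F, M *ᵥ u = l • u) : ∃ α : F, M = α • (1 : Matrix ι ι F) := by
  rcases isEmpty_or_nonempty ι with hι | ⟨⟨i₀⟩⟩
  · exact ⟨0, by ext i; exact (hι.false i).elim⟩
  have hne : ∀ i, (Pi.single i (1 : F) : ι → F) ≠ 0 := fun i h0 => by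
    simpa using congrFun h0 i
  choose l hl using fun i => h _ (hne i)
  have hcol : ∀ i j, M j i = if j = i then l i else 0 := by
    intro i j
    have := congrFun (hl i) j
    rw [Matrix.mulVec_single_one] at this
    simpa [Pi.single_apply] using this
  have hl_eq : ∀ i j, l i = l j := by
    intro i j
    by_cases hij : i = j
    · rw [hij]
    have hs : (Pi.single i (1 : F) + Pi.single j 1 : ι → F) ≠ 0 := by
      intro h0
      have := congrFun h0 i
      simp [hij] at this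
    obtain ⟨c, hc⟩ := h _ hs
    rw [Matrix.mulVec_add, hl i, hl j] at hc
    have h1 := congrFun hc i
    have h2 := congrFun hc j
    simp [hij, Ne.symm hij] at h1 h2
    rw [h1, h2]
  refine ⟨l i₀, ?_⟩
  ext a b
  rw [hcol b a, Matrix.smul_apply, Matrix.one_apply, hl_eq b i₀]
  by_cases hab : a = b <;> simp [hab]

section ten

variable {ι₁ ι₂ κ : Type*}

/-- the pure tensor `u ⊗ w` in coordinates -/
def ten (p₁ : κ → ι₁) (p₂ : κ → ι₂) (u : ι₁ → F) (w : ι₂ → F) : κ → F :=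
  fun z => u (p₁ z) * w (p₂ z)

variable (p₁ : κ → ι₁) (p₂ : κ → ι₂)

theorem ten_add_left (u u' : ι₁ → F) (w : ι₂ → F) :
    ten p₁ p₂ (u + u') w = ten p₁ p₂ u w + ten p₁ p₂ u' w := by
  funext z; simp [ten, add_mul]

theorem ten_smul_left (c : F) (u : ι₁ → F) (w : ι₂ → F) :
    ten p₁ p₂ (c • u) w = c • ten p₁ p₂ u w := by
  funext z; simp [ten, mul_assoc]

theorem ten_add_right (u : ι₁ → F) (w w' : ι₂ → F) :
    ten p₁ p₂ u (w + w') = ten p₁ p₂ u w + ten p₁ p₂ u w' := by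
  funext z; simp [ten, mul_add]

theorem ten_smul_right (c : F) (u : ι₁ → F) (w : ι₂ → F) :
    ten p₁ p₂ u (c • w) = c • ten p₁ p₂ u w := by
  funext z; simp [ten, mul_left_comm]

variable {p₁ p₂}

/-- `(T2)`: first factors of equal pure tensors are parallel -/
theorem ten_eq_left (hsurj : ∀ a b, ∃ z, p₁ z = a ∧ p₂ z = b) {u u' : ι₁ → F} {w w' : ι₂ → F}
    (h : ten p₁ p₂ u' w' = ten p₁ p₂ u w) (hw : w ≠ 0) : ∃ μ : F, u = μ • u' := by
  obtain ⟨j₀, hj₀⟩ : ∃ j, w j ≠ 0 := by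
    by_contra hcon
    exact hw (funext fun j => not_not.1 fun hj => hcon ⟨j, hj⟩)
  refine ⟨w' j₀ / w j₀, funext fun i => ?_⟩
  obtain ⟨z, hz1, hz2⟩ := hsurj i j₀
  have := congrFun h z
  simp only [ten, hz1, hz2] at this
  simp only [Pi.smul_apply, smul_eq_mul]
  field_simp
  linear_combination -this

/-- `(T2')`: second factors of equal pure tensors are parallel -/
theorem ten_eq_right (hsurj : ∀ a b, ∃ z, p₁ z = a ∧ p₂ z = b) {u u' : ι₁ → F} {w w' : ι₂ → F}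
    (h : ten p₁ p₂ u' w' = ten p₁ p₂ u w) (hu : u ≠ 0) : ∃ μ : F, w = μ • w' := by
  obtain ⟨i₀, hi₀⟩ : ∃ i, u i ≠ 0 := by
    by_contra hcon
    exact hu (funext fun j => not_not.1 fun hj => hcon ⟨j, hj⟩)
  refine ⟨u' i₀ / u i₀, funext fun j => ?_⟩
  obtain ⟨z, hz1, hz2⟩ := hsurj i₀ j
  have := congrFun h z
  simp only [ten, hz1, hz2] at this
  simp only [Pi.smul_apply, smul_eq_mul]
  field_simp
  linear_combination -this

/-- pure tensors of non-zero vectors are non-zero -/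
theorem ten_ne_zero (hsurj : ∀ a b, ∃ z, p₁ z = a ∧ p₂ z = b) {u : ι₁ → F} {w : ι₂ → F}
    (hu : u ≠ 0) (hw : w ≠ 0) : ten p₁ p₂ u w ≠ 0 := by
  obtain ⟨i₀, hi₀⟩ : ∃ i, u i ≠ 0 := by
    by_contra hcon
    exact hu (funext fun j => not_not.1 fun hj => hcon ⟨j, hj⟩)
  obtain ⟨j₀, hj₀⟩ : ∃ j, w j ≠ 0 := by
    by_contra hcon
    exact hw (funext fun j => not_not.1 fun hj => hcon ⟨j, hj⟩)
  obtain ⟨z, hz1, hz2⟩ := hsurj i₀ j₀
  intro h0
  have := congrFun h0 z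
  simp only [ten, hz1, hz2, Pi.zero_apply] at this
  exact mul_ne_zero hi₀ hj₀ this

end ten

section kernel

variable {ι : Type*} [Fintype ι]

/-- a linear functional on a space of dimension `≥ 2` kills a non-zero vector -/
theorem exists_ne_zero_ker (ψ : (ι → F) →ₗ[F] F) (h : 2 ≤ Fintype.card ι) :
    ∃ w : ι → F, w ≠ 0 ∧ ψ w = 0 := by
  have h1 := LinearMap.finrank_range_add_finrank_ker ψ
  rw [Module.finrank_fintype_fun_eq_card] at h1
  have h2 : Module.finrank F (LinearMap.range ψ) ≤ 1 := by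
    have := Submodule.finrank_le (LinearMap.range ψ)
    simpa using this
  have h3 : 0 < Module.finrank F (LinearMap.ker ψ) := by omega
  obtain ⟨w, hw⟩ := Module.finrank_pos_iff_exists_ne_zero.1 h3
  exact ⟨w.1, fun h0 => hw (Subtype.ext h0), w.2⟩

/-- a linear functional on a space of dimension `≥ 3` kills a vector outside any given line -/
theorem exists_ker_not_parallel (ψ : (ι → F) →ₗ[F] F) (h : 3 ≤ Fintype.card ι) (z : ι → F) :
    ∃ u : ι → F, ψ u = 0 ∧ ∀ μ : F, u ≠ μ • z := by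
  have h1 := LinearMap.finrank_range_add_finrank_ker ψ
  rw [Module.finrank_fintype_fun_eq_card] at h1
  have h2 : Module.finrank F (LinearMap.range ψ) ≤ 1 := by
    have := Submodule.finrank_le (LinearMap.range ψ)
    simpa using this
  have h3 : 2 ≤ Module.finrank F (LinearMap.ker ψ) := by omega
  by_contra hcon
  have hle : LinearMap.ker ψ ≤ Submodule.span F {z} := by
    intro u hu
    by_contra hu'
    apply hcon
    refine ⟨u, hu, fun μ hμ => hu' ?_⟩
    rw [Submodule.mem_span_singleton]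
    exact ⟨μ, hμ.symm⟩
  have h4 := Submodule.finrank_mono hle
  have h5 : Module.finrank F (Submodule.span F ({z} : Set (ι → F))) ≤ 1 := by
    have := finrank_span_le_card (R := F) ({z} : Set (ι → F))
    simpa using this
  omega

end kernel

section main

variable {ι₁ ι₂ κ : Type*} [Fintype ι₁] [DecidableEq ι₁] [Fintype ι₂] [DecidableEq ι₂]
  [Fintype κ] [DecidableEq κ] {p₁ : κ → ι₁} {p₂ : κ → ι₂}

theorem rankone_mulVec (x y d : κ → F) :
    (1 + vecMulVec x y) *ᵥ d = d + (y ⬝ᵥ d) • x := by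
  rw [Matrix.add_mulVec, Matrix.one_mulVec]
  congr 1
  funext z
  simp only [Matrix.mulVec, dotProduct, Matrix.vecMulVec_apply, Pi.smul_apply, smul_eq_mul,
    Finset.sum_mul]
  apply Finset.sum_congr rfl
  intro a _
  ring

/-- the functional `w ↦ y ⬝ᵥ (u ⊗ w)` -/
def psiR (p₁ : κ → ι₁) (p₂ : κ → ι₂) (y : κ → F) (u : ι₁ → F) : (ι₂ → F) →ₗ[F] F where
  toFun w := y ⬝ᵥ ten p₁ p₂ u w
  map_add' w w' := by rw [ten_add_right, dotProduct_add]
  map_smul' c w := by rw [ten_smul_right, dotProduct_smul]; rfl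

/-- the functional `u ↦ y ⬝ᵥ (u ⊗ w)` -/
def psiL (p₁ : κ → ι₁) (p₂ : κ → ι₂) (y : κ → F) (w : ι₂ → F) : (ι₁ → F) →ₗ[F] F where
  toFun u := y ⬝ᵥ ten p₁ p₂ u w
  map_add' u u' := by rw [ten_add_left, dotProduct_add]
  map_smul' c u := by rw [ten_smul_left, dotProduct_smul]; rfl

omit [Fintype ι₁] [Fintype ι₂] [Fintype κ] in
theorem ten_single (hinj : ∀ z z', p₁ z = p₁ z' → p₂ z = p₂ z' → z = z') (z₀ : κ) :
    ten p₁ p₂ (Pi.single (p₁ z₀) (1 : F)) (Pi.single (p₂ z₀) 1) = Pi.single z₀ 1 := by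
  funext z
  simp only [ten, Pi.single_apply]
  by_cases hz : z = z₀
  · simp [hz]
  · rw [if_neg hz]
    by_cases h1 : p₁ z = p₁ z₀
    · have h2 : p₂ z ≠ p₂ z₀ := fun h2 => hz (hinj _ _ h1 h2)
      simp [h2]
    · simp [h1]

/-- **pure case**: `1 + vecMulVec x y` does not act as `u ⊗ w ↦ A u ⊗ B w` -/
theorem not_pure (hsurj : ∀ a b, ∃ z, p₁ z = a ∧ p₂ z = b)
    (hinj : ∀ z z', p₁ z = p₁ z' → p₂ z = p₂ z' → z = z')
    (h1 : 2 ≤ Fintype.card ι₁) (h2 : 2 ≤ Fintype.card ι₂)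
    (x y : κ → F) (hx : x ≠ 0) (hy : y ≠ 0) (A : Matrix ι₁ ι₁ F) (B : Matrix ι₂ ι₂ F)
    (hg : ∀ u w, (1 + vecMulVec x y) *ᵥ ten p₁ p₂ u w = ten p₁ p₂ (A *ᵥ u) (B *ᵥ w)) : False := by
  -- `A` is scalar
  have hA : ∀ u : ι₁ → F, u ≠ 0 → ∃ l : F, A *ᵥ u = l • u := by
    intro u hu
    obtain ⟨w, hw, hψ⟩ := exists_ne_zero_ker (psiR p₁ p₂ y u) h2
    have hψ' : y ⬝ᵥ ten p₁ p₂ u w = 0 := hψ
    have := hg u w
    rw [rankone_mulVec, hψ', zero_smul, add_zero] at this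
    obtain ⟨μ, hμ⟩ := ten_eq_left hsurj this.symm hw
    have hμ0 : μ ≠ 0 := by
      intro h0
      rw [h0, zero_smul] at hμ
      exact hu hμ
    refine ⟨μ⁻¹, ?_⟩
    rw [hμ, smul_smul, inv_mul_cancel₀ hμ0, one_smul]
    conv_lhs => rw [← hμ]
  have hB : ∀ w : ι₂ → F, w ≠ 0 → ∃ l : F, B *ᵥ w = l • w := by
    intro w hw
    obtain ⟨u, hu, hψ⟩ := exists_ne_zero_ker (psiL p₁ p₂ y w) h1
    have hψ' : y ⬝ᵥ ten p₁ p₂ u w = 0 := hψ
    have := hg u w
    rw [rankone_mulVec, hψ', zero_smul, add_zero] at this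
    obtain ⟨μ, hμ⟩ := ten_eq_right hsurj this.symm hu
    have hμ0 : μ ≠ 0 := by
      intro h0
      rw [h0, zero_smul] at hμ
      exact hw hμ
    refine ⟨μ⁻¹, ?_⟩
    rw [hμ, smul_smul, inv_mul_cancel₀ hμ0, one_smul]
    conv_lhs => rw [← hμ]
  obtain ⟨α, rfl⟩ := scalar_of_all_eigen A hA
  obtain ⟨β, rfl⟩ := scalar_of_all_eigen B hB
  have hE : ∀ z₀ : κ, (Pi.single z₀ (1 : F) : κ → F) + (y z₀) • x = (α * β) • Pi.single z₀ 1 := by
    intro z₀
    have := hg (Pi.single (p₁ z₀) 1) (Pi.single (p₂ z₀) 1)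
    rw [rankone_mulVec, ten_single hinj, Matrix.smul_mulVec, Matrix.smul_mulVec, Matrix.one_mulVec,
      Matrix.one_mulVec, ten_smul_left, ten_smul_right, ten_single hinj, smul_smul] at this
    simpa using this
  obtain ⟨z₀, hz₀⟩ : ∃ z, y z ≠ 0 := by
    by_contra hcon
    exact hy (funext fun j => not_not.1 fun hj => hcon ⟨j, hj⟩)
  have hx0 : ∀ z, z ≠ z₀ → x z = 0 := by
    intro z hz
    have := congrFun (hE z₀) z
    simp only [Pi.add_apply, Pi.smul_apply, Pi.single_apply, if_neg hz, smul_eq_mul, mul_zero,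
      zero_add] at this
    rcases mul_eq_zero.1 this with h | h
    · exact absurd h hz₀
    · exact h
  have hxz₀ : x z₀ ≠ 0 := by
    intro h0
    apply hx
    funext z
    by_cases hz : z = z₀
    · rw [hz, h0]; rfl
    · exact hx0 z hz
  have hab : α * β - 1 = y z₀ * x z₀ := by
    have := congrFun (hE z₀) z₀
    simp only [Pi.add_apply, Pi.smul_apply, Pi.single_apply, if_true, smul_eq_mul, mul_one] at this
    linear_combination -this
  -- another point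
  obtain ⟨a, ha⟩ : ∃ a : ι₁, a ≠ p₁ z₀ := by
    by_contra hcon
    have hall : ∀ a : ι₁, a = p₁ z₀ := fun a => not_not.1 fun h => hcon ⟨a, h⟩
    have : Fintype.card ι₁ ≤ 1 := Fintype.card_le_one_iff.2 fun a b => by rw [hall a, hall b]
    omega
  obtain ⟨z₁, hz₁, -⟩ := hsurj a (p₂ z₀)
  have hz₁0 : z₁ ≠ z₀ := fun h => ha (by rw [← hz₁, h])
  have := congrFun (hE z₁) z₁
  simp only [Pi.add_apply, Pi.smul_apply, Pi.single_apply, if_true, smul_eq_mul, mul_one,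
    hx0 z₁ hz₁0, mul_zero, add_zero] at this
  have h0 : y z₀ * x z₀ = 0 := by rw [← hab, ← this, sub_self]
  rcases mul_eq_zero.1 h0 with h | h
  · exact hz₀ h
  · exact hxz₀ h

/-- **swap case**: `1 + vecMulVec x y` does not act as `u ⊗ w ↦ A w ⊗ B u` in dimension `≥ 3` -/
theorem not_swap {ι : Type*} [Fintype ι] [DecidableEq ι] {p₁ p₂ : κ → ι}
    (hsurj : ∀ a b, ∃ z, p₁ z = a ∧ p₂ z = b) (h3 : 3 ≤ Fintype.card ι)
    (x y : κ → F) (A B : Matrix ι ι F)
    (hg : ∀ u w, (1 + vecMulVec x y) *ᵥ ten p₁ p₂ u w = ten p₁ p₂ (A *ᵥ w) (B *ᵥ u)) : False := by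
  have hne : Nonempty ι := by
    rw [← Fintype.card_pos_iff]; omega
  obtain ⟨i₀⟩ := hne
  set w : ι → F := Pi.single i₀ 1 with hw
  have hw0 : w ≠ 0 := by
    intro h0
    have := congrFun h0 i₀
    simp [hw] at this
  obtain ⟨u, hψ, hu⟩ := exists_ker_not_parallel (psiL p₁ p₂ y w) h3 (A *ᵥ w)
  have hψ' : y ⬝ᵥ ten p₁ p₂ u w = 0 := hψ
  have := hg u w
  rw [rankone_mulVec, hψ', zero_smul, add_zero] at this
  obtain ⟨μ, hμ⟩ := ten_eq_left hsurj this.symm hw0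
  exact hu μ hμ

end main

end Cfsg.Agent.Lib.Helper17.Ten
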