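import Mathlib
import Cfsg.Prelude.Def_GeometricClasses
import Cfsg.Agent.Lib.Helper37.BHRSU.Defs
import Cfsg.Agent.Lib.Helper37.BHRSU.Kit
import Cfsg.Agent.Lib.Helper17.TenRankOne

/-!
# BHRSU-[P4] and BHRSU-[P7] (helper17): `SUg n F q` lies in no tensor-product subgroup and in no
tensor-wreath subgroup with two factors of dimension `≥ 3`

`SUg` contains a unitary transvection `1 + c • v (v^q)ᵀ`; transported to the model group it is a matrix
`1 + vecMulVec x y` with `x, y ≠ 0`, and such a matrix never acts on pure tensors as `u ⊗ w ↦ A u ⊗ B w`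
nor (in dimension `≥ 3`) as `u ⊗ w ↦ A w ⊗ B u` (`Lib/Helper17/TenRankOne.lean`).
-/

set_option autoImplicit false

namespace Cfsg.Agent.Lib.Helper37.BHRSU

open Cfsg Cfsg.Geo Cfsg.Agent.Lib.Helper70.AschU
open scoped MatrixGroups Matrix Kronecker

variable {F : Type*} [Field F] [Fintype F] {n q : ℕ}

namespace H17P47U

open Cfsg.Agent.Lib.Helper17.Ten

/-- transport of a unitary transvection to the model group: the model group contains a matrix
`1 + vecMulVec x y` with `x, y ≠ 0` -/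
theorem exists_rankone_of_le {κ : Type} [Fintype κ] [DecidableEq κ] (hF : Fintype.card F = q ^ 2)
    (hn : 2 ≤ n) (e : Fin n ≃ κ) (P : GL (Fin n) F) (S₀ : Subgroup (GL κ F))
    (h : SUg n F q ≤ (S₀.map (glReindex e.symm).toMonoidHom).map (MulAut.conj P).toMonoidHom) :
    ∃ k ∈ S₀, ∃ x y : κ → F, x ≠ 0 ∧ y ≠ 0 ∧
      (k : Matrix κ κ F) = 1 + Matrix.vecMulVec x y := by
  obtain ⟨v, hv0, hv⟩ := exists_isotropic (F := F) (q := q) hF hn
  obtain ⟨σ, hσ, hσ2⟩ := Cfsg.Agent.Lib.Helper13.exists_frob hF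
  obtain ⟨c, hc0, hc⟩ := Cfsg.Agent.Lib.Helper37.exists_trace_zero_ne σ
    (Cfsg.Agent.S0837.frob_ne_id σ hF hσ) hσ2
  obtain ⟨g, hg, hgm⟩ := exists_tv hF v hv c (by rw [← hσ]; exact hc)
  obtain ⟨_, ⟨k, hk, rfl⟩, hk'⟩ := h hg
  have hg' : g = P * glReindex e.symm k * P⁻¹ := hk'.symm
  have hR : ((glReindex e.symm k : GL (Fin n) F) : Matrix (Fin n) (Fin n) F) =
      (k : Matrix κ κ F).submatrix e e := rfl
  have hconj : glReindex e.symm k = P⁻¹ * g * P := by rw [hg']; group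
  set Qm : Matrix (Fin n) (Fin n) F := ((P⁻¹ : GL (Fin n) F) : Matrix (Fin n) (Fin n) F) with hQ
  have hQP : Qm * (P : Matrix (Fin n) (Fin n) F) = 1 := by
    rw [hQ, ← Units.val_mul, inv_mul_cancel]; rfl
  have hPQ : (P : Matrix (Fin n) (Fin n) F) * Qm = 1 := by
    rw [hQ, ← Units.val_mul, mul_inv_cancel]; rfl
  set v' : Fin n → F := fun j => v j ^ q with hv'
  set X : Fin n → F := c • (Qm *ᵥ v) with hX
  set Y : Fin n → F := v' ᵥ* (P : Matrix (Fin n) (Fin n) F) with hY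
  have hmat : (k : Matrix κ κ F).submatrix e e = 1 + Matrix.vecMulVec X Y := by
    rw [← hR, hconj, Units.val_mul, Units.val_mul, hgm]
    unfold unitaryTransvection
    rw [Matrix.mul_add, Matrix.add_mul, Matrix.mul_one, hQP, Matrix.mul_smul, Matrix.smul_mul,
      Matrix.mul_vecMulVec, Matrix.vecMulVec_mul]
    congr 1
    ext i j
    simp only [Matrix.smul_apply, Matrix.vecMulVec_apply, hX, Pi.smul_apply, smul_eq_mul]
    ring
  have hX0 : X ≠ 0 := by
    intro h0
    have h1 : Qm *ᵥ v = 0 := by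
      rcases smul_eq_zero.1 h0 with h | h
      · exact absurd h hc0
      · exact h
    apply hv0
    have : (P : Matrix (Fin n) (Fin n) F) *ᵥ (Qm *ᵥ v) = v := by
      rw [Matrix.mulVec_mulVec, hPQ, Matrix.one_mulVec]
    rw [← this, h1, Matrix.mulVec_zero]
  have hY0 : Y ≠ 0 := by
    intro h0
    have h1 : v' = 0 := by
      have : (v' ᵥ* (P : Matrix (Fin n) (Fin n) F)) ᵥ* Qm = v' := by
        rw [Matrix.vecMul_vecMul, hPQ, Matrix.vecMul_one]
      rw [← this, ← hY, h0, Matrix.zero_vecMul]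
    apply hv0
    funext j
    have := congrFun h1 j
    simp only [hv', Pi.zero_apply] at this
    exact pow_eq_zero_iff (M₀ := F) (by
      have := Cfsg.Agent.Lib.Helper13.two_le_of_card_eq_sq hF; omega) |>.1 this
  refine ⟨k, hk, X ∘ e.symm, Y ∘ e.symm, ?_, ?_, ?_⟩
  · intro h0
    apply hX0
    funext j
    have := congrFun h0 (e j)
    simpa using this
  · intro h0
    apply hY0
    funext j
    have := congrFun h0 (e j)
    simpa using this
  · ext i j
    have := congrFun (congrFun hmat (e.symm i)) (e.symm j)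
    simp only [Matrix.submatrix_apply, Equiv.apply_symm_apply] at this
    rw [this]
    simp [Matrix.add_apply, Matrix.one_apply, Matrix.vecMulVec_apply]

omit [Fintype F] in
theorem kronecker_mulVec_ten {n₁ n₂ : ℕ} (A : Matrix (Fin n₁) (Fin n₁) F)
    (B : Matrix (Fin n₂) (Fin n₂) F) (u : Fin n₁ → F) (w : Fin n₂ → F) :
    (A ⊗ₖ B) *ᵥ ten (Prod.fst : Fin n₁ × Fin n₂ → Fin n₁) (Prod.snd : Fin n₁ × Fin n₂ → Fin n₂) u w =
      ten Prod.fst Prod.snd (A *ᵥ u) (B *ᵥ w) := by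
  funext z
  obtain ⟨i, j⟩ := z
  simp only [ten, Matrix.mulVec, dotProduct, Matrix.kroneckerMap_apply, Fintype.sum_prod_type]
  rw [Finset.sum_mul_sum]
  apply Finset.sum_congr rfl
  intro i' _
  apply Finset.sum_congr rfl
  intro j' _
  ring

/-! ### the two-factor tensor-wreath group acts on pure tensors, possibly swapping the factors -/

/-- `g` maps `u ⊗ w` to `A u ⊗ B w` for all `u, w`, or to `A w ⊗ B u` for all `u, w` -/
def QAct (k : ℕ) (g : Matrix (Fin 2 → Fin k) (Fin 2 → Fin k) F) : Prop :=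
  (∃ A B : Matrix (Fin k) (Fin k) F, ∀ (u w : Fin k → F),
    g *ᵥ ten (fun z : Fin 2 → Fin k => z 0) (fun z => z 1) u w =
      ten (fun z : Fin 2 → Fin k => z 0) (fun z => z 1) (A *ᵥ u) (B *ᵥ w)) ∨
  (∃ A B : Matrix (Fin k) (Fin k) F, ∀ (u w : Fin k → F),
    g *ᵥ ten (fun z : Fin 2 → Fin k => z 0) (fun z => z 1) u w =
      ten (fun z : Fin 2 → Fin k => z 0) (fun z => z 1) (A *ᵥ w) (B *ᵥ u))

omit [Fintype F] in
theorem QAct_one (k : ℕ) : QAct (F := F) k 1 :=
  Or.inl ⟨1, 1, fun u w => by simp⟩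

omit [Fintype F] in
theorem QAct_mul {k : ℕ} {g g' : Matrix (Fin 2 → Fin k) (Fin 2 → Fin k) F} (hg : QAct k g)
    (hg' : QAct k g') : QAct k (g * g') := by
  rcases hg with ⟨A, B, h⟩ | ⟨A, B, h⟩ <;> rcases hg' with ⟨A', B', h'⟩ | ⟨A', B', h'⟩
  · exact Or.inl ⟨A * A', B * B', fun u w => by
      rw [← Matrix.mulVec_mulVec, h', h, Matrix.mulVec_mulVec, Matrix.mulVec_mulVec]⟩
  · exact Or.inr ⟨A * A', B * B', fun u w => by
      rw [← Matrix.mulVec_mulVec, h', h, Matrix.mulVec_mulVec, Matrix.mulVec_mulVec]⟩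
  · exact Or.inr ⟨A * B', B * A', fun u w => by
      rw [← Matrix.mulVec_mulVec, h', h, Matrix.mulVec_mulVec, Matrix.mulVec_mulVec]⟩
  · exact Or.inl ⟨A * B', B * A', fun u w => by
      rw [← Matrix.mulVec_mulVec, h', h, Matrix.mulVec_mulVec, Matrix.mulVec_mulVec]⟩

/-- the subgroup of `GL` of matrices acting on pure tensors factorwise up to a swap (a subgroup because
`GL` is finite) -/
def qStab (k : ℕ) (F : Type*) [Field F] [Fintype F] : Subgroup (GL (Fin 2 → Fin k) F) where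
  carrier := {g | QAct k (g : Matrix (Fin 2 → Fin k) (Fin 2 → Fin k) F)}
  one_mem' := QAct_one k
  mul_mem' := by
    intro a b ha hb
    show QAct k ((a * b : GL (Fin 2 → Fin k) F) : Matrix (Fin 2 → Fin k) (Fin 2 → Fin k) F)
    rw [Units.val_mul]
    exact QAct_mul ha hb
  inv_mem' := by
    intro a ha
    have hpow : ∀ m : ℕ,
        QAct k ((a ^ m : GL (Fin 2 → Fin k) F) : Matrix (Fin 2 → Fin k) (Fin 2 → Fin k) F) := by
      intro m
      induction m with
      | zero => simpa using QAct_one (F := F) k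
      | succ m ih =>
        rw [pow_succ, Units.val_mul]
        exact QAct_mul ih ha
    have hinv : a⁻¹ = a ^ (orderOf a - 1) := by
      apply inv_eq_of_mul_eq_one_right
      rw [← pow_succ', Nat.sub_add_cancel (orderOf_pos a), pow_orderOf_eq_one]
    show QAct k ((a⁻¹ : GL (Fin 2 → Fin k) F) : Matrix (Fin 2 → Fin k) (Fin 2 → Fin k) F)
    rw [hinv]
    exact hpow _

omit [Fintype F] in
theorem pureTensor_QAct {k : ℕ} (g : GL (Fin 2 → Fin k) F) (hg : IsPureTensor k 2 g) :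
    QAct k (g : Matrix (Fin 2 → Fin k) (Fin 2 → Fin k) F) := by
  obtain ⟨gs, hgs⟩ := hg
  refine Or.inl ⟨(gs 0 : Matrix (Fin k) (Fin k) F), (gs 1 : Matrix (Fin k) (Fin k) F), fun u w => ?_⟩
  funext x
  have h := Fintype.prod_sum (fun (i : Fin 2) (j : Fin k) =>
    (gs i : Matrix (Fin k) (Fin k) F) (x i) j * (![u, w] i) j)
  simp only [Fin.prod_univ_two, Matrix.cons_val_zero, Matrix.cons_val_one] at h
  simp only [ten, Matrix.mulVec, dotProduct, hgs, Fin.prod_univ_two]
  rw [h]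
  apply Finset.sum_congr rfl
  intro y _
  ring

omit [Fintype F] in
theorem factorPerm_QAct {k : ℕ} (g : GL (Fin 2 → Fin k) F) (hg : IsFactorPermutation k 2 g) :
    QAct k (g : Matrix (Fin 2 → Fin k) (Fin 2 → Fin k) F) := by
  obtain ⟨σ, hσ⟩ := hg
  have hact : ∀ (v : (Fin 2 → Fin k) → F) (x : Fin 2 → Fin k),
      ((g : Matrix (Fin 2 → Fin k) (Fin 2 → Fin k) F) *ᵥ v) x = v (x ∘ σ) := by
    intro v x
    simp only [Matrix.mulVec, dotProduct, hσ]
    simp
  have h2 : ∀ a : Fin 2, a = 0 ∨ a = 1 := by decide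
  have hne : σ 0 ≠ σ 1 := fun h => by
    have := σ.injective h
    exact absurd this (by decide)
  rcases h2 (σ 0) with h0 | h0
  · have h1 : σ 1 = 1 := by
      rcases h2 (σ 1) with h1 | h1
      · exact absurd (h0.trans h1.symm) hne
      · exact h1
    refine Or.inl ⟨1, 1, fun u w => ?_⟩
    funext x
    rw [hact]
    simp [ten, h0, h1]
  · have h1 : σ 1 = 0 := by
      rcases h2 (σ 1) with h1 | h1
      · exact h1
      · exact absurd (h0.trans h1.symm) hne
    refine Or.inr ⟨1, 1, fun u w => ?_⟩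
    funext x
    rw [hact]
    simp [ten, h0, h1, mul_comm]

theorem tensorWreathStandard_le_qStab (k : ℕ) : tensorWreathStandard k 2 F ≤ qStab k F := by
  unfold tensorWreathStandard
  rw [Subgroup.closure_le]
  rintro g (hg | hg)
  · exact pureTensor_QAct g hg
  · exact factorPerm_QAct g hg

end H17P47U

open H17P47U Cfsg.Agent.Lib.Helper17.Ten

/-- **[P4]** `SUg n F q` is contained in no tensor-product subgroup. -/
theorem not_SUg_le_tensorProductSubgroup (hF : Fintype.card F = q ^ 2) (hn : 2 ≤ n) (n₁ n₂ : ℕ)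
    (h1 : 2 ≤ n₁) (h2 : 2 ≤ n₂) (e : Fin n ≃ Fin n₁ × Fin n₂) (P : GL (Fin n) F) :
    ¬ SUg n F q ≤ tensorProductSubgroup n₁ n₂ e P := by
  intro h
  obtain ⟨k, hk, x, y, hx, hy, hkm⟩ :=
    exists_rankone_of_le hF hn e P (kroneckerSubgroup n₁ n₂ F) h
  obtain ⟨A, B, hAB⟩ := hk
  refine not_pure (p₁ := (Prod.fst : Fin n₁ × Fin n₂ → Fin n₁))
    (p₂ := (Prod.snd : Fin n₁ × Fin n₂ → Fin n₂)) (fun a b => ⟨(a, b), rfl, rfl⟩)
    (fun z z' h1 h2 => Prod.ext h1 h2) (by simpa using h1) (by simpa using h2) x y hx hy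
    (A : Matrix (Fin n₁) (Fin n₁) F) (B : Matrix (Fin n₂) (Fin n₂) F) ?_
  intro u w
  rw [← hkm, hAB, kronecker_mulVec_ten]

/-- **[P7]** `SUg n F q` is contained in no tensor-wreath subgroup with two factors of dimension `≥ 3`. -/
theorem not_SUg_le_tensorWreathSubgroup_two (hF : Fintype.card F = q ^ 2) (hn : 2 ≤ n) (k : ℕ)
    (hk : 3 ≤ k) (e : Fin n ≃ (Fin 2 → Fin k)) (P : GL (Fin n) F) :
    ¬ SUg n F q ≤ tensorWreathSubgroup k 2 e P := by
  intro h
  obtain ⟨g, hg, x, y, hx, hy, hgm⟩ :=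
    exists_rankone_of_le hF hn e P (tensorWreathStandard k 2 F) h
  have hq : QAct k (g : Matrix (Fin 2 → Fin k) (Fin 2 → Fin k) F) :=
    tensorWreathStandard_le_qStab k hg
  rw [hgm] at hq
  have hsurj : ∀ a b : Fin k, ∃ z : Fin 2 → Fin k, z 0 = a ∧ z 1 = b :=
    fun a b => ⟨![a, b], rfl, rfl⟩
  have hinj : ∀ z z' : Fin 2 → Fin k, z 0 = z' 0 → z 1 = z' 1 → z = z' := by
    intro z z' h0 h1
    funext i
    fin_cases i
    · exact h0
    · exact h1
  rcases hq with ⟨A, B, hAB⟩ | ⟨A, B, hAB⟩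
  · exact not_pure hsurj hinj (by simp; omega) (by simp; omega) x y hx hy A B hAB
  · exact not_swap hsurj (by simp; omega) x y A B hAB

end Cfsg.Agent.Lib.Helper37.BHRSU
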