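import Mathlib
import Cfsg.Agent.Lib.Helper17.SimpleTools
import Cfsg.Agent.Lib.Helper17.PrimeSylow
import Cfsg.Agent.Lib.Helper17.CosetAction
import Cfsg.Agent.Lib.Helper17.Misc

set_option autoImplicit false

namespace Cfsg.Agent.Lib.Helper17

open Subgroup

/-- For a non-identity element `x` of a subgroup `H` of prime order, `C_G(x) = C_G(H)`. -/
theorem centralizer_singleton_eq_of_card_prime {G : Type*} [Group G] (H : Subgroup G) {p : ℕ}
    (hp : p.Prime) (hH : Nat.card H = p) {x : G} (hx : x ∈ H) (hx1 : x ≠ 1) :
    centralizer ({x} : Set G) = centralizer (H : Set G) := by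
  apply le_antisymm
  · intro g hg
    rw [Subgroup.mem_centralizer_singleton_iff] at hg
    exact mem_centralizer_of_commute_of_card_prime H hp hH hx hx1 hg
  · exact Subgroup.centralizer_le (by simpa using hx)

/-- `|C_G(x)| * [N_G(P) : C_G(P)] = |N_G(P)|` for a non-identity element `x` of a Sylow subgroup
`P` of prime order. -/
theorem card_centralizer_mul_relIndex {G : Type*} [Group G] [Finite G] {p : ℕ}
    [hp : Fact p.Prime] (P : Sylow p G) (hP : Nat.card (P : Subgroup G) = p) {x : G}
    (hx : x ∈ (P : Subgroup G)) (hx1 : x ≠ 1) :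
    Nat.card (centralizer ({x} : Set G)) *
      (centralizer ((P : Subgroup G) : Set G)).relIndex (normalizer ((P : Subgroup G) : Set G)) =
      Nat.card (normalizer ((P : Subgroup G) : Set G)) := by
  rw [centralizer_singleton_eq_of_card_prime (P : Subgroup G) hp.out hP hx hx1]
  exact card_mul_relIndex_of_le (Subgroup.centralizer_le_normalizer _)

/-- **Counting products of commuting elements of coprime orders.** If every element `y` of order
`m` commutes with at least `b` elements of order `n` (`m`, `n` coprime), then there are at least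
`#{y | o(y) = m} * b` elements of order `m * n`. -/
theorem card_orderOf_mul_ge {G : Type*} [Group G] [Finite G] (m n b : ℕ) (hco : Nat.Coprime m n)
    (hb : ∀ y : G, orderOf y = m →
      b ≤ Nat.card {x : G // x ∈ centralizer ({y} : Set G) ∧ orderOf x = n}) :
    Nat.card {y : G // orderOf y = m} * b ≤ Nat.card {g : G // orderOf g = m * n} := by
  classical
  have := Fintype.ofFinite {y : G // orderOf y = m}
  obtain ⟨u, hu1, hu0⟩ := Nat.chineseRemainder hco 1 0
  have hcomm : ∀ (y : {y : G // orderOf y = m})
      (x : {x : G // x ∈ centralizer ({y.1} : Set G) ∧ orderOf x = n}), Commute y.1 x.1 := by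
    intro y x
    have := x.2.1
    rw [Subgroup.mem_centralizer_singleton_iff] at this
    exact this.symm
  have hpow : ∀ (y : {y : G // orderOf y = m})
      (x : {x : G // x ∈ centralizer ({y.1} : Set G) ∧ orderOf x = n}),
      (y.1 * x.1) ^ u = y.1 := by
    intro y x
    rw [(hcomm y x).mul_pow]
    have h1 : y.1 ^ u = y.1 ^ 1 := by
      rw [pow_eq_pow_iff_modEq, y.2]
      exact hu1
    have h2 : x.1 ^ u = 1 := by
      apply orderOf_dvd_iff_pow_eq_one.1
      rw [x.2.2]
      exact (Nat.modEq_zero_iff_dvd).1 hu0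
    rw [h1, h2, pow_one, mul_one]
  let φ : (Σ y : {y : G // orderOf y = m},
      {x : G // x ∈ centralizer ({y.1} : Set G) ∧ orderOf x = n}) →
      {g : G // orderOf g = m * n} := fun yx =>
    ⟨yx.1.1 * yx.2.1, by
      rw [(hcomm yx.1 yx.2).orderOf_mul_eq_mul_orderOf_of_coprime, yx.1.2, yx.2.2.2]
      rw [yx.1.2, yx.2.2.2]
      exact hco⟩
  have hφ : Function.Injective φ := by
    rintro ⟨y, x⟩ ⟨y', x'⟩ h
    have h1 : y.1 * x.1 = y'.1 * x'.1 := congrArg Subtype.val h
    have h2 : y.1 = y'.1 := by rw [← hpow y x, ← hpow y' x', h1]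
    have h3 : y = y' := Subtype.ext h2
    subst h3
    have h4 : x.1 = x'.1 := mul_left_cancel h1
    have h5 : x = x' := Subtype.ext h4
    subst h5
    rfl
  have hle := Nat.card_le_card_of_injective φ hφ
  rw [Nat.card_sigma] at hle
  refine le_trans ?_ hle
  calc Nat.card {y : G // orderOf y = m} * b
      = ∑ _y : {y : G // orderOf y = m}, b := by
        rw [Finset.sum_const, Finset.card_univ, smul_eq_mul, Nat.card_eq_fintype_card]
    _ ≤ _ := Finset.sum_le_sum (fun y _ => hb y.1 y.2)

/-- `2 ^ k` is never an odd number other than 1. -/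
theorem two_pow_ne_of_odd {n : ℕ} (hn : n % 2 = 1) (hn1 : n ≠ 1) (k : ℕ) : 2 ^ k ≠ n := by
  intro hk
  rcases k with _ | k
  · rw [pow_zero] at hk
    exact hn1 hk.symm
  · rw [pow_succ] at hk
    omega

/-- An upper bound for the number of non-identity 2-elements from the numbers of elements of
finitely many odd orders. -/
theorem card_two_elements_add_le {G : Type*} [Group G] [Finite G] (s : Finset ℕ)
    (hs : ∀ n ∈ s, n % 2 = 1 ∧ n ≠ 1) :
    Nat.card {g : G // g ≠ 1 ∧ ∃ k, orderOf g = 2 ^ k} +
      ∑ n ∈ s, Nat.card {g : G // orderOf g = n} + 1 ≤ Nat.card G := by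
  classical
  have := Fintype.ofFinite G
  have h1 : ∀ n, Nat.card {g : G // orderOf g = n} =
      (Finset.univ.filter (fun g : G => orderOf g = n)).card := by
    intro n
    rw [Nat.card_eq_fintype_card, Fintype.card_subtype]
  simp only [h1]
  rw [Nat.card_eq_fintype_card, Fintype.card_subtype, ← Finset.card_biUnion]
  · set S2 := Finset.univ.filter (fun g : G => g ≠ 1 ∧ ∃ k, orderOf g = 2 ^ k) with hS2
    set U := s.biUnion (fun n => Finset.univ.filter (fun g : G => orderOf g = n)) with hU
    have hmemU : ∀ g : G, g ∈ U → orderOf g % 2 = 1 ∧ orderOf g ≠ 1 := by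
      intro g hg
      simp only [hU, Finset.mem_biUnion, Finset.mem_filter, Finset.mem_univ, true_and] at hg
      obtain ⟨n, hn, hgn⟩ := hg
      rw [hgn]
      exact hs n hn
    have d1 : Disjoint S2 U := by
      rw [Finset.disjoint_left]
      intro g hg2 hgU
      simp only [hS2, Finset.mem_filter, Finset.mem_univ, true_and] at hg2
      obtain ⟨k, hk⟩ := hg2.2
      exact two_pow_ne_of_odd (hmemU g hgU).1 (hmemU g hgU).2 k hk.symm
    have d2 : (1 : G) ∉ S2 ∪ U := by
      rw [Finset.mem_union]
      rintro (h | h)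
      · simp only [hS2, Finset.mem_filter, Finset.mem_univ, true_and] at h
        exact h.1 rfl
      · have := (hmemU 1 h).2
        rw [orderOf_one] at this
        exact this rfl
    have hle : (insert (1 : G) (S2 ∪ U)).card ≤ (Finset.univ : Finset G).card :=
      Finset.card_le_card (Finset.subset_univ _)
    rw [Finset.card_insert_of_notMem d2, Finset.card_union_of_disjoint d1, Finset.card_univ] at hle
    rw [Nat.card_eq_fintype_card]
    exact hle
  · intro a _ b _ hab
    rw [Function.onFun, Finset.disjoint_left]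
    intro g hga hgb
    rw [Finset.mem_filter] at hga hgb
    exact hab (hga.2.symm.trans hgb.2)

end Cfsg.Agent.Lib.Helper17
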