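import Mathlib
import Cfsg.Agent.Lib.Helper17.PrimeSylow
import Cfsg.Agent.Lib.Helper17.SimpleTools
import Cfsg.Agent.Lib.Helper17.SimpleTools2
import Cfsg.Agent.Lib.Helper17.Burnside
import Cfsg.Agent.Lib.Helper17.SylowCard
import Cfsg.Agent.Lib.Helper17.Misc
import Cfsg.Agent.Lib.Helper17.CosetAction
import Cfsg.Agent.Lib.Helper17.ConjCount

set_option autoImplicit false

/-!
# Simple groups of order 5472: the Sylow 19-structure
-/

namespace Cfsg.Agent.Lib.Helper17.Simple5472

open MulAction Subgroup

variable {G : Type*} [Group G] [Finite G] [IsSimpleGroup G]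

theorem fact19 : Fact (Nat.Prime 19) := ⟨by norm_num⟩
theorem fact3 : Fact (Nat.Prime 3) := ⟨by norm_num⟩
theorem fact2 : Fact (Nat.Prime 2) := ⟨by norm_num⟩

attribute [local instance] fact19 fact3 fact2

theorem not_comm (h : Nat.card G = 5472) : ¬ IsMulCommutative G :=
  not_comm_of_simple_of_not_prime (by rw [h]; norm_num)

theorem card_sylow19 (h : Nat.card G = 5472) (P : Sylow 19 G) :
    Nat.card (P : Subgroup G) = 19 := by
  have hcard : Nat.card G = 19 ^ 1 * 288 := by rw [h]; norm_num
  rw [sylow_card_of_card_eq P hcard (by norm_num)]; norm_num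

theorem card_sylow3 (h : Nat.card G = 5472) (Q : Sylow 3 G) :
    Nat.card (Q : Subgroup G) = 9 := by
  have hcard : Nat.card G = 3 ^ 2 * 608 := by rw [h]; norm_num
  rw [sylow_card_of_card_eq Q hcard (by norm_num)]; norm_num

theorem card_sylow2 (h : Nat.card G = 5472) (T : Sylow 2 G) :
    Nat.card (T : Subgroup G) = 32 := by
  have hcard : Nat.card G = 2 ^ 5 * 171 := by rw [h]; norm_num
  rw [sylow_card_of_card_eq T hcard (by norm_num)]; norm_num

theorem card_sylow19_eq (h : Nat.card G = 5472) : Nat.card (Sylow 19 G) = 96 := by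
  have hcard : Nat.card G = 19 ^ 1 * 288 := by rw [h]; norm_num
  have hdvd : Nat.card (Sylow 19 G) ∣ 288 := card_sylow_dvd_of_card_eq hcard (by norm_num)
  have hmod : Nat.card (Sylow 19 G) % 19 = 1 := card_sylow_modEq_one 19 G
  have hne1 : Nat.card (Sylow 19 G) ≠ 1 :=
    card_sylow_ne_one_of_simple hcard (by norm_num) (by norm_num) (by norm_num)
  have hle : Nat.card (Sylow 19 G) ≤ 288 := Nat.le_of_dvd (by norm_num) hdvd
  generalize Nat.card (Sylow 19 G) = c at *
  interval_cases c <;> omega

theorem card_normalizer19 (h : Nat.card G = 5472) (P : Sylow 19 G) :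
    Nat.card (normalizer ((P : Subgroup G) : Set G)) = 57 := by
  have := card_sylow_mul_card_normalizer P
  rw [card_sylow19_eq h, h] at this
  omega

theorem relIndex19 (h : Nat.card G = 5472) (P : Sylow 19 G) :
    (centralizer ((P : Subgroup G) : Set G)).relIndex
      (normalizer ((P : Subgroup G) : Set G)) = 3 := by
  have hG := not_comm h
  have h2 := mul_relIndex_cent_norm_dvd_of_card_prime P (card_sylow19 h P)
  have h3 := relIndex_cent_norm_ne_one_of_simple hG P (by rw [h]; norm_num)
  rw [card_normalizer19 h P] at h2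
  generalize (centralizer ((P : Subgroup G) : Set G)).relIndex
    (normalizer ((P : Subgroup G) : Set G)) = r at *
  have hr2 : r ∣ 3 := Nat.dvd_of_mul_dvd_mul_left (by norm_num : 0 < 19) h2
  have hle := Nat.le_of_dvd (by norm_num) hr2
  interval_cases r <;> simp_all

theorem card_centralizer19 (h : Nat.card G = 5472) (P : Sylow 19 G) :
    Nat.card (centralizer ((P : Subgroup G) : Set G)) = 19 := by
  have := card_mul_relIndex_of_le
    (Subgroup.centralizer_le_normalizer (s := ((P : Subgroup G) : Set G)))
  rw [relIndex19 h P, card_normalizer19 h P] at this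
  omega

theorem card_centralizer_of_orderOf_19 (h : Nat.card G = 5472) (y : G) (hy : orderOf y = 19) :
    Nat.card (centralizer ({y} : Set G)) = 19 := by
  obtain ⟨P, hyP⟩ := exists_sylow_mem_of_orderOf_eq y hy
  have hy1 : y ≠ 1 := by
    rintro rfl
    rw [orderOf_one] at hy
    omega
  have := card_centralizer_mul_relIndex P (card_sylow19 h P) hyP hy1
  rw [relIndex19 h P, card_normalizer19 h P] at this
  omega

theorem orderOf_dvd_of_commute_19 (h : Nat.card G = 5472) (y x : G) (hy : orderOf y = 19)
    (hxy : x * y = y * x) : orderOf x ∣ 19 := by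
  have hx : x ∈ centralizer ({y} : Set G) := by
    rw [Subgroup.mem_centralizer_singleton_iff]
    exact hxy
  have := Subgroup.orderOf_dvd_natCard _ hx
  rwa [card_centralizer_of_orderOf_19 h y hy] at this

theorem orderOf_eq_19_of_mem (h : Nat.card G = 5472) (P : Sylow 19 G) (y : G)
    (hy : y ∈ (P : Subgroup G)) (hy1 : y ≠ 1) : orderOf y = 19 := by
  have := Subgroup.orderOf_dvd_natCard _ hy
  rw [card_sylow19 h P] at this
  rcases (Nat.Prime.eq_one_or_self_of_dvd (by norm_num) _ this) with h1 | h1
  · exact absurd (orderOf_eq_one_iff.1 h1) hy1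
  · exact h1

/-- The normalizer of a Sylow `19`-subgroup. -/
abbrev NP (P : Sylow 19 G) : Subgroup G := normalizer ((P : Subgroup G) : Set G)

theorem index_normalizer19 (h : Nat.card G = 5472) (P : Sylow 19 G) : (NP P).index = 96 := by
  have e : Nat.card (Sylow 19 G) = (NP P).index := P.card_eq_index_normalizer
  rw [← e, card_sylow19_eq h]

theorem card_quotient19 (h : Nat.card G = 5472) (P : Sylow 19 G) :
    Nat.card (G ⧸ NP P) = 96 := by
  rw [← Subgroup.index_eq_card]
  exact index_normalizer19 h P

/-- There is an element of order `3` in `N(P)`. -/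
theorem exists_orderOf_three (h : Nat.card G = 5472) (P : Sylow 19 G) :
    ∃ x ∈ NP P, orderOf x = 3 :=
  exists_mem_orderOf_eq_of_dvd_card (NP P) 3 (by
    have : Nat.card (NP P) = 57 := card_normalizer19 h P
    rw [this]; norm_num)

theorem not_mem_sylow_of_orderOf_three (h : Nat.card G = 5472) (P : Sylow 19 G) (s : G)
    (hs : orderOf s = 3) : s ∉ (P : Subgroup G) := by
  intro hsP
  have := Subgroup.orderOf_dvd_natCard _ hsP
  rw [hs, card_sylow19 h P] at this
  revert this
  decide

theorem not_mem_centralizer_of_orderOf_three (h : Nat.card G = 5472) (P : Sylow 19 G) (s : G)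
    (hs : orderOf s = 3) : s ∉ centralizer ((P : Subgroup G) : Set G) := by
  intro hsC
  have := Subgroup.orderOf_dvd_natCard _ hsC
  rw [hs, card_centralizer19 h P] at this
  revert this
  decide

/-- Conjugation of an element of order `3` by elements of `P` is injective. -/
theorem conj_injective (h : Nat.card G = 5472) (P : Sylow 19 G) (t : G) (ht : orderOf t = 3)
    (u v : G) (hu : u ∈ (P : Subgroup G)) (hv : v ∈ (P : Subgroup G))
    (huv : u * t * u⁻¹ = v * t * v⁻¹) : u = v := by
  by_contra hne
  set w : G := v⁻¹ * u with hw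
  have hwP : w ∈ (P : Subgroup G) := (P : Subgroup G).mul_mem ((P : Subgroup G).inv_mem hv) hu
  have hw1 : w ≠ 1 := by
    intro hw1
    apply hne
    have : v⁻¹ * u = 1 := hw1
    have h2 : u = v * (v⁻¹ * u) := by group
    rw [h2, this, mul_one]
  have hcomm : t * w = w * t := by
    have h2 : w * t * w⁻¹ = t := by
      rw [hw]
      calc v⁻¹ * u * t * (v⁻¹ * u)⁻¹
          = v⁻¹ * (u * t * u⁻¹) * v := by group
        _ = v⁻¹ * (v * t * v⁻¹) * v := by rw [huv]
        _ = t := by group
    calc t * w = (w * t * w⁻¹) * w := by rw [h2]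
      _ = w * t := by group
  exact not_mem_centralizer_of_orderOf_three h P t ht
    (mem_centralizer_of_commute_of_card_prime (P : Subgroup G) fact19.out (card_sylow19 h P)
      hwP hw1 hcomm)

theorem card_normalizer_diff (h : Nat.card G = 5472) (P : Sylow 19 G) :
    Nat.card {u : G // u ∈ NP P ∧ u ∉ (P : Subgroup G)} = 38 := by
  classical
  have := Fintype.ofFinite G
  have eN : Nat.card (NP P) = (Finset.univ.filter (fun u : G => u ∈ NP P)).card := by
    rw [Nat.card_eq_fintype_card, Fintype.card_subtype]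
  have eP : Nat.card (P : Subgroup G) =
      (Finset.univ.filter (fun u : G => u ∈ (P : Subgroup G))).card := by
    rw [Nat.card_eq_fintype_card, Fintype.card_subtype]
  have e : Nat.card {u : G // u ∈ NP P ∧ u ∉ (P : Subgroup G)} =
      (Finset.univ.filter (fun u : G => u ∈ NP P ∧ u ∉ (P : Subgroup G))).card := by
    rw [Nat.card_eq_fintype_card, Fintype.card_subtype]
  rw [e, Finset.filter_and_not, Finset.card_sdiff_of_subset, ← eN, ← eP, card_sylow19 h P,
    card_normalizer19 h P]
  intro u hu
  rw [Finset.mem_filter] at hu ⊢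
  exact ⟨hu.1, le_normalizer hu.2⟩

/-- A non-identity element of `P` fixes only the base point. -/
theorem eq_base_of_smul_eq (h : Nat.card G = 5472) (P : Sylow 19 G) (y : G)
    (hy : y ∈ (P : Subgroup G)) (hy1 : y ≠ 1) (q : G ⧸ NP P) (hq : y • q = q) :
    q = ((1 : G) : G ⧸ NP P) := by
  have h1 := card_fixedBy_normalizer_eq_one P (card_sylow19 h P) y
    (orderOf_eq_19_of_mem h P y hy hy1)
  rw [Nat.card_eq_one_iff_unique] at h1
  have hb : ((1 : G) : G ⧸ NP P) ∈ fixedBy (G ⧸ NP P) y := by
    rw [mk_mem_fixedBy_iff, inv_one, one_mul, mul_one]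
    exact le_normalizer hy
  have := h1.1.elim ⟨q, hq⟩ ⟨_, hb⟩
  exact congrArg Subtype.val this

end Cfsg.Agent.Lib.Helper17.Simple5472
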