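import Mathlib
import Cfsg.Agent.Lib.Helper17.ConjCount

set_option autoImplicit false

/-!
# The swap bound for involutions

If `H ≤ G`, the solutions of `s ^ 2 = 1` outside `H` inject into the set of pairs `(q, h)` where
`q ≠ H` is a coset fixed by `h ∈ H`: two involutions mapping the base coset to the same coset `q`
differ by an element of `H` fixing `q`.
-/

namespace Cfsg.Agent.Lib.Helper17

open MulAction Subgroup

theorem smul_base_eq_iff {G : Type*} [Group G] (H : Subgroup G) (s : G) :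
    s • ((1 : G) : G ⧸ H) = ((1 : G) : G ⧸ H) ↔ s ∈ H := by
  have := mk_mem_fixedBy_iff H s 1
  rw [mem_fixedBy] at this
  rw [this, inv_one, one_mul, mul_one]

theorem card_sq_eq_one_not_mem_le {G : Type*} [Group G] [Finite G] (H : Subgroup G) :
    Nat.card {s : G // s ^ 2 = 1 ∧ s ∉ H} ≤
      Nat.card {x : (G ⧸ H) × G // x.1 ≠ ((1 : G) : G ⧸ H) ∧ x.2 ∈ H ∧ x.2 • x.1 = x.1} := by
  classical
  let r : G ⧸ H → G := fun q =>
    if hq : ∃ s : G, s ^ 2 = 1 ∧ s • ((1 : G) : G ⧸ H) = q then hq.choose else 1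
  have hr : ∀ s : G, s ^ 2 = 1 → (r (s • ((1 : G) : G ⧸ H))) ^ 2 = 1 ∧
      (r (s • ((1 : G) : G ⧸ H))) • ((1 : G) : G ⧸ H) = s • ((1 : G) : G ⧸ H) := by
    intro s hs
    have hq : ∃ s' : G, s' ^ 2 = 1 ∧ s' • ((1 : G) : G ⧸ H) = s • ((1 : G) : G ⧸ H) :=
      ⟨s, hs, rfl⟩
    have : r (s • ((1 : G) : G ⧸ H)) = hq.choose := dif_pos hq
    rw [this]
    exact hq.choose_spec
  let f : {s : G // s ^ 2 = 1 ∧ s ∉ H} →
      {x : (G ⧸ H) × G // x.1 ≠ ((1 : G) : G ⧸ H) ∧ x.2 ∈ H ∧ x.2 • x.1 = x.1} := fun s =>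
    ⟨(s.1 • ((1 : G) : G ⧸ H), r (s.1 • ((1 : G) : G ⧸ H)) * s.1), by
      obtain ⟨h1, h2⟩ := hr s.1 s.2.1
      have key : ∀ ρ : G, ρ ^ 2 = 1 → ρ • ((1 : G) : G ⧸ H) = s.1 • ((1 : G) : G ⧸ H) →
          (s.1 • ((1 : G) : G ⧸ H) ≠ ((1 : G) : G ⧸ H) ∧ ρ * s.1 ∈ H ∧
            (ρ * s.1) • (s.1 • ((1 : G) : G ⧸ H)) = s.1 • ((1 : G) : G ⧸ H)) := by
        intro ρ hρ1 hρ2
        have hss : s.1 • (s.1 • ((1 : G) : G ⧸ H)) = ((1 : G) : G ⧸ H) := by
          rw [← mul_smul, ← pow_two, s.2.1, one_smul]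
        have hrr : ρ • (s.1 • ((1 : G) : G ⧸ H)) = ((1 : G) : G ⧸ H) := by
          rw [← hρ2, ← mul_smul, ← pow_two, hρ1, one_smul]
        refine ⟨?_, ?_, ?_⟩
        · intro h0
          exact s.2.2 ((smul_base_eq_iff H s.1).1 h0)
        · rw [← smul_base_eq_iff, mul_smul]
          exact hrr
        · rw [mul_smul, hss, hρ2]
      exact key _ h1 h2⟩
  have hf : Function.Injective f := by
    intro s s' hss
    have h1 : (s.1 • ((1 : G) : G ⧸ H), r (s.1 • ((1 : G) : G ⧸ H)) * s.1) =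
        (s'.1 • ((1 : G) : G ⧸ H), r (s'.1 • ((1 : G) : G ⧸ H)) * s'.1) :=
      congrArg Subtype.val hss
    have h2 := (Prod.ext_iff.1 h1).1
    have h3 := (Prod.ext_iff.1 h1).2
    simp only at h2 h3
    rw [h2] at h3
    exact Subtype.ext (mul_left_cancel h3)
  exact Nat.card_le_card_of_injective f hf

end Cfsg.Agent.Lib.Helper17
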