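import Mathlib
import Cfsg.Agent.Lib.Helper17.Simple5472a
import Cfsg.Agent.Lib.Helper17.SwapBound

set_option autoImplicit false

/-!
# Simple groups of order 5472: the elements of order 3 of `N(P₁₉)` and their fixed points
-/

namespace Cfsg.Agent.Lib.Helper17.Simple5472

open MulAction Subgroup

attribute [local instance] fact19 fact3 fact2

/-- The number of fixed points of an element with `x ^ p = 1` is congruent to the size of the set
modulo `p`. -/
theorem card_modEq_card_fixedBy {G : Type*} [Group G] {α : Type*} [MulAction G α] [Finite α]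
    (p : ℕ) [hp : Fact p.Prime] (x : G) (hx : x ^ p = 1) :
    Nat.card α ≡ Nat.card (fixedBy α x) [MOD p] := by
  classical
  have := Fintype.ofFinite α
  let f : Function.End α := fun a => x • a
  have hpow : ∀ k : ℕ, ∀ a : α, (f ^ k) a = x ^ k • a := by
    intro k
    induction k with
    | zero => intro a; rw [pow_zero, pow_zero, one_smul]; rfl
    | succ k ih =>
      intro a
      rw [pow_succ', pow_succ', mul_smul, ← ih a]
      rfl
  have hf : f ^ p ^ 1 = 1 := by
    rw [pow_one]
    funext a
    rw [hpow p a, hx, one_smul]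
    rfl
  have h1 := Equiv.Perm.card_fixedPoints_modEq (p := p) (n := 1) hf
  have e : Nat.card (fixedBy α x) = Fintype.card (Function.fixedPoints f) := by
    rw [Nat.card_eq_fintype_card]
    apply Fintype.card_congr
    exact Equiv.subtypeEquivRight (fun a => Iff.rfl)
  rw [Nat.card_eq_fintype_card, e]
  exact h1

variable {G : Type*} [Group G] [Finite G] [IsSimpleGroup G]

theorem pow_three_eq_one {x : G} (hx : orderOf x = 3) : x ^ 3 = 1 := by
  rw [← hx]; exact pow_orderOf_eq_one x

theorem ne_one_of_orderOf_three {x : G} (hx : orderOf x = 3) : x ≠ 1 := by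
  rintro rfl
  rw [orderOf_one] at hx
  omega

/-- The number of fixed points of an element of order `3` of `N(P)` is `3` or `6`. -/
theorem card_fixedBy_mem (h : Nat.card G = 5472) (P : Sylow 19 G) (x : G)
    (hxN : x ∈ NP P) (hx : orderOf x = 3) :
    Nat.card (fixedBy (G ⧸ NP P) x) = 3 ∨ Nat.card (fixedBy (G ⧸ NP P) x) = 6 := by
  have hP := card_sylow19 h P
  have hxC := not_mem_centralizer_of_orderOf_three h P x hx
  have hf6 : Nat.card (fixedBy (G ⧸ NP P) x) ≤ 6 := by
    have h1 : Nat.card (fixedBy (G ⧸ NP P) x) ≤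
        Nat.card (orbitRel.Quotient (P : Subgroup G) (G ⧸ NP P)) :=
      card_fixedBy_le_card_orbits P hP x hxN hxC
    have h2 : Nat.card (orbitRel.Quotient (P : Subgroup G) (G ⧸ NP P)) * 19 =
        Nat.card (Sylow 19 G) + (19 - 1) := card_orbits_mul_eq P hP
    rw [card_sylow19_eq h] at h2
    have h3 : Nat.card (orbitRel.Quotient (P : Subgroup G) (G ⧸ NP P)) = 6 := by omega
    rw [h3] at h1
    exact h1
  have hmod := card_modEq_card_fixedBy (α := G ⧸ NP P) 3 x (pow_three_eq_one hx)
  rw [card_quotient19 h P] at hmod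
  have hf1 : 1 ≤ Nat.card (fixedBy (G ⧸ NP P) x) := by
    have hne : Nonempty (fixedBy (G ⧸ NP P) x) := by
      refine ⟨⟨((1 : G) : G ⧸ NP P), ?_⟩⟩
      rw [mk_mem_fixedBy_iff]
      simpa using hxN
    exact Nat.card_pos
  have hmod' : 96 % 3 = Nat.card (fixedBy (G ⧸ NP P) x) % 3 := hmod
  omega

/-- At least `19` conjugates of `x` lie in `N(P)`. -/
theorem card_conj_inter_ge (h : Nat.card G = 5472) (P : Sylow 19 G) (x : G)
    (hxN : x ∈ NP P) (hx : orderOf x = 3) :
    19 ≤ Nat.card {g : G // IsConj x g ∧ g ∈ NP P} := by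
  let φ : ↥(P : Subgroup G) → {g : G // IsConj x g ∧ g ∈ NP P} := fun y =>
    ⟨(y : G) * x * (y : G)⁻¹, isConj_iff.2 ⟨y, rfl⟩,
      (NP P).mul_mem ((NP P).mul_mem (le_normalizer y.2) hxN)
        ((NP P).inv_mem (le_normalizer y.2))⟩
  have hφ : Function.Injective φ := by
    intro y y' hyy
    have h1 : (y : G) * x * (y : G)⁻¹ = (y' : G) * x * (y' : G)⁻¹ := congrArg Subtype.val hyy
    exact Subtype.ext (conj_injective h P x hx _ _ y.2 y'.2 h1)
  have := Nat.card_le_card_of_injective φ hφ
  rwa [card_sylow19 h P] at this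

/-- At most `38` conjugates of `x` lie in `N(P)`. -/
theorem card_conj_inter_le (h : Nat.card G = 5472) (P : Sylow 19 G) (x : G)
    (hx : orderOf x = 3) :
    Nat.card {g : G // IsConj x g ∧ g ∈ NP P} ≤ 38 := by
  let φ : {g : G // IsConj x g ∧ g ∈ NP P} → {u : G // u ∈ NP P ∧ u ∉ (P : Subgroup G)} :=
    fun g => ⟨g.1, g.2.2, not_mem_sylow_of_orderOf_three h P g.1
      (by rw [← hx]; exact orderOf_eq_of_isConj g.2.1)⟩
  have hφ : Function.Injective φ := by
    intro g g' hgg
    have h1 : (φ g).1 = (φ g').1 := congrArg Subtype.val hgg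
    exact Subtype.ext h1
  have := Nat.card_le_card_of_injective φ hφ
  rwa [card_normalizer_diff h P] at this

/-- The three possible configurations for an element of order `3` of `N(P)`. -/
theorem card_cases (h : Nat.card G = 5472) (P : Sylow 19 G) (x : G)
    (hxN : x ∈ NP P) (hx : orderOf x = 3) :
    (Nat.card (fixedBy (G ⧸ NP P) x) = 3 ∧ Nat.card {g : G // IsConj x g ∧ g ∈ NP P} = 19 ∧
      Nat.card (centralizer ({x} : Set G)) = 9) ∨
    (Nat.card (fixedBy (G ⧸ NP P) x) = 6 ∧ Nat.card {g : G // IsConj x g ∧ g ∈ NP P} = 19 ∧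
      Nat.card (centralizer ({x} : Set G)) = 18) ∨
    (Nat.card (fixedBy (G ⧸ NP P) x) = 6 ∧ Nat.card {g : G // IsConj x g ∧ g ∈ NP P} = 38 ∧
      Nat.card (centralizer ({x} : Set G)) = 9) := by
  have hform := card_fixedBy_mul_card_conj (NP P) x
  rw [index_normalizer19 h P] at hform
  have h2 := card_conj_mul_card_centralizer x
  rw [h] at h2
  have hge := card_conj_inter_ge h P x hxN hx
  have hle := card_conj_inter_le h P x hx
  have hf := card_fixedBy_mem h P x hxN hx
  generalize Nat.card (fixedBy (G ⧸ NP P) x) = f at *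
  generalize Nat.card {g : G // IsConj x g ∧ g ∈ NP P} = k at *
  generalize Nat.card {g : G // IsConj x g} = K at *
  generalize Nat.card (centralizer ({x} : Set G)) = c at *
  -- `f * K = 96 * k`, `K * c = 5472`
  have h3 : 57 * f = k * c := by
    have h4 : (f * K) * c = 96 * k * c := by rw [hform]
    have h5 : f * 5472 = 96 * (k * c) := by
      rw [← h2]
      calc f * (K * c) = (f * K) * c := by ring
        _ = 96 * k * c := h4
        _ = 96 * (k * c) := by ring
    omega
  have hc : c ≤ 18 := by
    rcases hf with rfl | rfl <;> nlinarith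
  interval_cases k <;> rcases hf with rfl | rfl <;> interval_cases c <;> omega

end Cfsg.Agent.Lib.Helper17.Simple5472
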