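import Mathlib

set_option autoImplicit false

/-!
# Parallelism in a finite affine plane (Playfair's axiom by counting)

An incidence structure in which any two distinct points lie on a unique line, every line has `m`
points and every point lies on `m + 1` lines satisfies Playfair's axiom; hence parallelism is an
equivalence relation.
-/

namespace Cfsg.Agent.Lib.Helper17.AffinePlane

variable {Ω L : Type*} (inc : Ω → L → Prop)

/-- Two lines are parallel if they are equal or have no common point. -/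
def Par (l l' : L) : Prop := l = l' ∨ ∀ a, inc a l → ¬ inc a l'

theorem par_refl (l : L) : Par inc l l := Or.inl rfl

theorem par_symm {l l' : L} (h : Par inc l l') : Par inc l' l := by
  rcases h with h | h
  · exact Or.inl h.symm
  · exact Or.inr (fun a ha ha' => h a ha' ha)

theorem eq_of_par_of_inc {l l' : L} (h : Par inc l l') (a : Ω) (ha : inc a l) (ha' : inc a l') :
    l = l' := by
  rcases h with h | h
  · exact h
  · exact absurd ha' (h a ha)

variable [Finite Ω] [Finite L] (m : ℕ)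

theorem playfair (h1 : ∀ a b, a ≠ b → ∃! l, inc a l ∧ inc b l)
    (h2 : ∀ l, Nat.card {a // inc a l} = m) (h3 : ∀ a, Nat.card {l // inc a l} = m + 1)
    (l : L) (a : Ω) (ha : ¬ inc a l) : ∃! l', inc a l' ∧ Par inc l l' := by
  classical
  have := Fintype.ofFinite Ω
  have := Fintype.ofFinite L
  have hne : ∀ b : {b // inc b l}, a ≠ b.1 := fun b hab => ha (hab ▸ b.2)
  let ψ : {b // inc b l} → {l' // inc a l'} := fun b =>
    ⟨(h1 a b.1 (hne b)).choose, (h1 a b.1 (hne b)).choose_spec.1.1⟩
  have hψb : ∀ b : {b // inc b l}, inc b.1 (ψ b).1 :=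
    fun b => (h1 a b.1 (hne b)).choose_spec.1.2
  have hψuniq : ∀ (b : {b // inc b l}) (l' : L), inc a l' → inc b.1 l' → l' = (ψ b).1 :=
    fun b l' h h' => (h1 a b.1 (hne b)).choose_spec.2 l' ⟨h, h'⟩
  have hψinj : Function.Injective ψ := by
    intro b b' hbb
    by_contra hne'
    have hb1 : b.1 ≠ b'.1 := fun h => hne' (Subtype.ext h)
    obtain ⟨l0, _, hl0⟩ := h1 b.1 b'.1 hb1
    have e1 : l = l0 := hl0 l ⟨b.2, b'.2⟩
    have e2 : (ψ b).1 = l0 := hl0 _ ⟨hψb b, by rw [hbb]; exact hψb b'⟩
    exact ha (by rw [e1, ← e2]; exact (ψ b).2)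
  set R : Finset {l' // inc a l'} := Finset.univ.image ψ with hR
  have hRcard : R.card = m := by
    rw [hR, Finset.card_image_of_injective _ hψinj, Finset.card_univ, ← Nat.card_eq_fintype_card,
      h2 l]
  have hRc : Rᶜ.card = 1 := by
    rw [Finset.card_compl, hRcard, ← Nat.card_eq_fintype_card, h3 a]
    omega
  obtain ⟨x, hx⟩ := Finset.card_eq_one.1 hRc
  have hkey : ∀ l' : {l' // inc a l'}, l' ∉ R ↔ Par inc l l'.1 := by
    intro l'
    constructor
    · intro hl'
      right
      intro b hb hb'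
      apply hl'
      rw [hR, Finset.mem_image]
      refine ⟨⟨b, hb⟩, Finset.mem_univ _, ?_⟩
      apply Subtype.ext
      exact (hψuniq ⟨b, hb⟩ l'.1 l'.2 hb').symm
    · intro hpar hl'
      rw [hR, Finset.mem_image] at hl'
      obtain ⟨b, _, hb⟩ := hl'
      have hll : l ≠ l'.1 := fun h => ha (h ▸ l'.2)
      rcases hpar with h | h
      · exact hll h
      · exact h b.1 b.2 (by rw [← hb]; exact hψb b)
  have hxR : x ∉ R := by
    have : x ∈ Rᶜ := by rw [hx]; exact Finset.mem_singleton_self x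
    exact Finset.mem_compl.1 this
  refine ⟨x.1, ⟨x.2, (hkey x).1 hxR⟩, ?_⟩
  rintro l'' ⟨hal'', hpar⟩
  have h5 : (⟨l'', hal''⟩ : {l' // inc a l'}) ∈ Rᶜ :=
    Finset.mem_compl.2 ((hkey ⟨l'', hal''⟩).2 hpar)
  rw [hx, Finset.mem_singleton] at h5
  exact congrArg Subtype.val h5

theorem par_trans (h1 : ∀ a b, a ≠ b → ∃! l, inc a l ∧ inc b l)
    (h2 : ∀ l, Nat.card {a // inc a l} = m) (h3 : ∀ a, Nat.card {l // inc a l} = m + 1)
    {l l' l'' : L} (h : Par inc l l') (h' : Par inc l' l'') : Par inc l l'' := by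
  by_cases e : l = l''
  · exact Or.inl e
  right
  intro a ha ha''
  rcases h with rfl | h
  · rcases h' with rfl | h'
    · exact e rfl
    · exact h' a ha ha''
  rcases h' with rfl | h'
  · exact h a ha ha''
  have hal' : ¬ inc a l' := h a ha
  obtain ⟨l0, _, huniq⟩ := playfair inc m h1 h2 h3 l' a hal'
  have e1 := huniq l ⟨ha, par_symm inc (Or.inr h)⟩
  have e2 := huniq l'' ⟨ha'', Or.inr h'⟩
  exact e (e1.trans e2.symm)

theorem exists_par (h1 : ∀ a b, a ≠ b → ∃! l, inc a l ∧ inc b l)
    (h2 : ∀ l, Nat.card {a // inc a l} = m) (h3 : ∀ a, Nat.card {l // inc a l} = m + 1)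
    (l : L) (a : Ω) : ∃ l', inc a l' ∧ Par inc l l' := by
  by_cases ha : inc a l
  · exact ⟨l, ha, Or.inl rfl⟩
  · exact (playfair inc m h1 h2 h3 l a ha).exists

end Cfsg.Agent.Lib.Helper17.AffinePlane
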