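import Mathlib
import Cfsg.Agent.Lib.Helper94.SympBasic

/-!
# BHRSP-[A-C3TWO], abstract part (helper17)

`B` alternating non-degenerate on a finite-dimensional `V`, `α` an endomorphism with
`α² = s α - n`, `x² - s x y + n y²` anisotropic, `α` self-adjoint and `B (α v) v = 0`:
then `4 ∣ dim V`.
-/

set_option autoImplicit false

namespace Cfsg.Agent.Lib.Helper17.C3Two

open LinearMap (BilinForm)
open Cfsg.Agent.Lib.Helper94 Cfsg.Agent.Lib.Helper94.SympData

universe u

variable {K : Type*} [Field K]

section step

variable {V : Type u} [AddCommGroup V] [Module K V]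
variable {B : BilinForm K V} {α : V →ₗ[K] V} {s n : K}

/-- the four vectors spanning an `α`-invariant non-degenerate piece -/
def quad (α : V →ₗ[K] V) (v w : V) : Fin 4 → V := ![v, α v, w, α w]

variable (hB : SympData B)
  (hα : ∀ x, α (α x) = s • α x - n • x)
  (haniso : ∀ x y : K, x ^ 2 - s * x * y + n * y ^ 2 = 0 → x = 0 ∧ y = 0)
  (hsa : ∀ u v, B (α u) v = B u (α v))
  (hav : ∀ v, B (α v) v = 0)

include hB hα haniso hsa hav in
/-- the Gram matrix of the four vectors is invertible -/
theorem key {v w : V} (ha : B v w ≠ 0) (c : Fin 4 → K)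
    (h : ∀ j, B (∑ i, c i • quad α v w i) (quad α v w j) = 0) : c = 0 := by
  set a := B v w with ha'
  set b := B v (α w) with hb'
  have e_vv : B v v = 0 := hB.alt v
  have e_ww : B w w = 0 := hB.alt w
  have e_av_v : B (α v) v = 0 := hav v
  have e_v_av : B v (α v) = 0 := by rw [hB.skew]; simp [e_av_v]
  have e_aw_w : B (α w) w = 0 := hav w
  have e_w_aw : B w (α w) = 0 := by rw [hB.skew]; simp [e_aw_w]
  have e_avav : B (α v) (α v) = 0 := hB.alt _
  have e_awaw : B (α w) (α w) = 0 := hB.alt _
  have e_av_w : B (α v) w = b := hsa v w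
  have e_av_aw : B (α v) (α w) = s * b - n * a := by
    rw [hsa, hα]; simp [hb', ha']
  have e_w_v : B w v = -a := by rw [hB.skew]
  have e_aw_v : B (α w) v = -b := by rw [hB.skew]
  have e_w_av : B w (α v) = -b := by rw [hB.skew, e_av_w]
  have e_aw_av : B (α w) (α v) = -(s * b - n * a) := by rw [hB.skew, e_av_aw]
  have h0 := h 0
  have h1 := h 1
  have h2 := h 2
  have h3 := h 3
  simp only [quad, Fin.sum_univ_four, Matrix.cons_val_zero, Matrix.cons_val_one,
    Matrix.cons_val_two, Matrix.cons_val_three, Matrix.head_cons, Matrix.tail_cons,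
    map_add, map_smul, LinearMap.add_apply, LinearMap.smul_apply, smul_eq_mul] at h0 h1 h2 h3
  rw [e_vv, e_av_v, e_w_v, e_aw_v] at h0
  rw [e_v_av, e_avav, e_w_av, e_aw_av] at h1
  rw [← ha', e_av_w, e_ww, e_aw_w] at h2
  rw [← hb', e_av_aw, e_w_aw, e_awaw] at h3
  have hq : b ^ 2 - s * b * a + n * a ^ 2 ≠ 0 := fun hq => ha (haniso b a hq).2
  have c1 : c 1 = 0 := by
    have : c 1 * (b ^ 2 - s * b * a + n * a ^ 2) = 0 := by linear_combination b * h2 - a * h3
    rcases mul_eq_zero.1 this with h' | h'
    · exact h'
    · exact absurd h' hq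
  have c0 : c 0 = 0 := by
    rw [c1] at h2
    have : c 0 * a = 0 := by linear_combination h2
    rcases mul_eq_zero.1 this with h' | h'
    · exact h'
    · exact absurd h' ha
  have c3 : c 3 = 0 := by
    have : c 3 * (b ^ 2 - s * b * a + n * a ^ 2) = 0 := by linear_combination -b * h0 + a * h1
    rcases mul_eq_zero.1 this with h' | h'
    · exact h'
    · exact absurd h' hq
  have c2 : c 2 = 0 := by
    rw [c3] at h0
    have : c 2 * a = 0 := by linear_combination -h0
    rcases mul_eq_zero.1 this with h' | h'
    · exact h'
    · exact absurd h' ha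
  funext i
  fin_cases i <;> simp [c0, c1, c2, c3]

end step

section induction

/-- the induction: `4 ∣ dim V` -/
theorem four_dvd_aux {s n : K}
    (haniso : ∀ x y : K, x ^ 2 - s * x * y + n * y ^ 2 = 0 → x = 0 ∧ y = 0) :
    ∀ (d : ℕ) (V : Type u) [AddCommGroup V] [Module K V] [FiniteDimensional K V]
      (B : BilinForm K V) (α : V →ₗ[K] V), SympData B →
      (∀ x, α (α x) = s • α x - n • x) → (∀ u v, B (α u) v = B u (α v)) →
      (∀ v, B (α v) v = 0) → Module.finrank K V = d → 4 ∣ d := by
  intro d
  induction d using Nat.strong_induction_on with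
  | _ d ih =>
    intro V _ _ _ B α hB hα hsa hav hd
    by_cases hV : ∀ v : V, v = 0
    · have : Module.finrank K V = 0 := by
        have : Subsingleton V := ⟨fun a b => by rw [hV a, hV b]⟩
        exact Module.finrank_zero_of_subsingleton
      rw [← hd, this]; exact dvd_zero 4
    · obtain ⟨v, hv⟩ := not_forall.1 hV
      obtain ⟨w, hw⟩ : ∃ w, B v w ≠ 0 := by
        by_contra hcon
        exact hv (hB.nondeg v (fun y => not_not.1 (fun h' => hcon ⟨y, h'⟩)))
      have hkey := key hB hα haniso hsa hav hw
      have hli : LinearIndependent K (quad α v w) := by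
        rw [Fintype.linearIndependent_iff]
        intro c hc j
        have : c = 0 := hkey c (fun j => by rw [hc]; simp)
        rw [this]; rfl
      set U : Submodule K V := Submodule.span K (Set.range (quad α v w)) with hU
      have hfU : Module.finrank K U = 4 := by
        rw [hU, finrank_span_eq_card hli]; simp
      have hnd : NondegOn B U := by
        intro x hx hxy
        obtain ⟨c, rfl⟩ := (Submodule.mem_span_range_iff_exists_fun K).1 hx
        have : c = 0 := hkey c (fun j => hxy _ (Submodule.subset_span ⟨j, rfl⟩))
        rw [this]; simp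
      have hcompl := hnd.isCompl hB
      set W : Submodule K V := B.orthogonal U with hW
      have hfin : Module.finrank K U + Module.finrank K W = Module.finrank K V :=
        Submodule.finrank_add_eq_of_isCompl hcompl
      have m0 : v ∈ U := Submodule.subset_span ⟨0, rfl⟩
      have m1 : α v ∈ U := Submodule.subset_span ⟨1, rfl⟩
      have m2 : w ∈ U := Submodule.subset_span ⟨2, rfl⟩
      have m3 : α w ∈ U := Submodule.subset_span ⟨3, rfl⟩
      have hαU : ∀ x ∈ U, α x ∈ U := by
        intro x hx
        have hle : U.map α ≤ U := by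
          rw [hU, Submodule.map_span, Submodule.span_le]
          rintro _ ⟨_, ⟨j, rfl⟩, rfl⟩
          fin_cases j
          · exact m1
          · change α (α v) ∈ _
            rw [hα]
            exact Submodule.sub_mem _ (Submodule.smul_mem _ _ m1) (Submodule.smul_mem _ _ m0)
          · exact m3
          · change α (α w) ∈ _
            rw [hα]
            exact Submodule.sub_mem _ (Submodule.smul_mem _ _ m3) (Submodule.smul_mem _ _ m2)
        exact hle (Submodule.mem_map_of_mem hx)
      have hαW : ∀ x ∈ W, α x ∈ W := by
        intro x hx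
        rw [hW, hB.mem_orthogonal] at hx ⊢
        intro u hu
        rw [hsa]
        exact hx _ (hαU u hu)
      have hB' : SympData (B.restrict W) := by
        refine ⟨fun x => ?_, fun x hx => ?_⟩
        · change B x x = 0
          exact hB.alt _
        · have hx0 : (x : V) = 0 := by
            apply hB.nondeg
            intro z
            have hz : z ∈ U ⊔ W := by rw [hcompl.sup_eq_top]; trivial
            obtain ⟨u, hu, y, hy, rfl⟩ := Submodule.mem_sup.1 hz
            rw [map_add]
            have h1 : B x u = 0 := (hB.mem_orthogonal.1 x.2) u hu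
            have h2 : B x y = 0 := hx ⟨y, hy⟩
            rw [h1, h2, add_zero]
          exact Subtype.ext hx0
      have hlt : Module.finrank K W < d := by omega
      have h4 := ih (Module.finrank K W) hlt W (B.restrict W) (α.restrict hαW) hB'
        (fun x => by
          apply Subtype.ext
          simp only [LinearMap.coe_restrict_apply, Submodule.coe_sub, Submodule.coe_smul]
          exact hα x)
        (fun u v => by
          change B (α u) v = B u (α v)
          exact hsa u v)
        (fun v => by
          change B (α v) v = 0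
          exact hav v)
        rfl
      have : d = 4 + Module.finrank K W := by omega
      rw [this]
      exact (Nat.dvd_add_right (dvd_refl 4)).2 h4

end induction

/-- **Abstract [A-C3TWO]**: `4 ∣ dim V`. -/
theorem four_dvd_finrank {V : Type u} [AddCommGroup V] [Module K V] [FiniteDimensional K V]
    {B : BilinForm K V} {α : V →ₗ[K] V} {s n : K} (hB : SympData B)
    (hα : ∀ x, α (α x) = s • α x - n • x)
    (haniso : ∀ x y : K, x ^ 2 - s * x * y + n * y ^ 2 = 0 → x = 0 ∧ y = 0)
    (hsa : ∀ u v, B (α u) v = B u (α v)) (hav : ∀ v, B (α v) v = 0) :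
    4 ∣ Module.finrank K V :=
  four_dvd_aux haniso _ V B α hB hα hsa hav rfl

end Cfsg.Agent.Lib.Helper17.C3Two
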