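import Mathlib
import Cfsg.Prelude.Def_GeometricClasses
import Cfsg.Agent.Lib.Helper94.BHRSP.Kit
import Cfsg.Agent.Lib.Helper17.BhrspC3TwoAbs

/-!
# BHRSP-[A-C3TWO] (helper17): a self-adjoint field of degree 2 with `f (k v) v = 0` forces `m` even
-/

set_option autoImplicit false

namespace Cfsg.Agent.Lib.Helper94.BHRSP

open Cfsg Cfsg.Geo Cfsg.Agent.Lib.Helper94
open scoped MatrixGroups Matrix Kronecker

variable {F : Type*} [Field F] [Fintype F] {m : ℕ}

namespace H17C3Two

omit [Fintype F] in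
/-- a field subalgebra of degree 2 contains a non-scalar element -/
theorem exists_nonscalar {ι : Type} [Fintype ι] [DecidableEq ι]
    (K : Subalgebra F (Matrix ι ι F)) (hK : Module.finrank F K = 2) :
    ∃ a ∈ K, ∀ c : F, a ≠ c • (1 : Matrix ι ι F) := by
  by_contra hcon
  have hall : ∀ a ∈ K, ∃ c : F, a = c • (1 : Matrix ι ι F) := by
    intro a ha
    by_contra h'
    exact hcon ⟨a, ha, fun c hc => h' ⟨c, hc⟩⟩
  have hfin : Module.Finite F K := Module.finite_of_finrank_pos (by rw [hK]; norm_num)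
  let b := Module.finBasisOfFinrankEq F K hK
  obtain ⟨c0, h0⟩ := hall (b 0) (b 0).2
  obtain ⟨c1, h1⟩ := hall (b 1) (b 1).2
  have hrel : c1 • b 0 + (-c0) • b 1 = 0 := by
    apply Subtype.ext
    simp only [Subalgebra.coe_add, Subalgebra.coe_smul, Subalgebra.coe_zero, h0, h1]
    rw [smul_smul, smul_smul]
    rw [← add_smul]
    have : c1 * c0 + -c0 * c1 = 0 := by ring
    rw [this, zero_smul]
  have hli := b.linearIndependent
  rw [Fintype.linearIndependent_iff] at hli
  have hz := hli ![c1, -c0] (by simpa [Fin.sum_univ_two] using hrel)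
  have hc1 : c1 = 0 := by simpa using hz 0
  have hb1 : b 1 = 0 := by
    apply Subtype.ext
    rw [h1, hc1, zero_smul]; rfl
  exact b.ne_zero 1 hb1

end H17C3Two

open H17C3Two

/-- **[A-C3TWO]** Degree 2, self-adjoint, `f(kv,v) = 0` ⇒ `m` even. -/
theorem even_of_selfAdjoint_degree_two
    (K : Subalgebra F (Matrix (Fin m ⊕ Fin m) (Fin m ⊕ Fin m) F)) (hK : IsFieldSubalgebra 2 K)
    (hsa : IsSelfAdjointFor (sympForm m F) K) (halt : ∀ k ∈ K, ∀ v, sympForm m F (k *ᵥ v) v = 0) :
    Even m := by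
  rcases Nat.eq_zero_or_pos m with rfl | hm
  · exact Even.zero
  have : Nonempty (Fin m ⊕ Fin m) := ⟨Sum.inl ⟨0, hm⟩⟩
  have hone : (1 : Matrix (Fin m ⊕ Fin m) (Fin m ⊕ Fin m) F) ≠ 0 := one_ne_zero
  obtain ⟨a, haK, hans⟩ := exists_nonscalar K hK.finrank_eq
  -- the quadratic relation
  have hfin : Module.Finite F K := Module.finite_of_finrank_pos (by rw [hK.finrank_eq]; norm_num)
  have hnli : ¬ LinearIndependent F (![1, ⟨a, haK⟩, ⟨a, haK⟩ * ⟨a, haK⟩] : Fin 3 → K) := by
    intro hli
    have := hli.fintype_card_le_finrank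
    rw [hK.finrank_eq] at this
    simp at this
  rw [Fintype.not_linearIndependent_iff] at hnli
  obtain ⟨g, hg, hgne⟩ := hnli
  have hg' : g 0 • (1 : Matrix (Fin m ⊕ Fin m) (Fin m ⊕ Fin m) F) + g 1 • a + g 2 • (a * a) = 0 := by
    have := congrArg (Subtype.val) hg
    simpa [Fin.sum_univ_three] using this
  have hg2 : g 2 ≠ 0 := by
    intro h2
    rw [h2, zero_smul, add_zero] at hg'
    by_cases h1 : g 1 = 0
    · rw [h1, zero_smul, add_zero] at hg'
      have h0 : g 0 = 0 := by
        rcases smul_eq_zero.1 hg' with h | h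
        · exact h
        · exact absurd h hone
      obtain ⟨i, hi⟩ := hgne
      fin_cases i
      · exact hi h0
      · exact hi h1
      · exact hi h2
    · apply hans (-(g 0) / g 1)
      have : g 1 • a = -(g 0) • (1 : Matrix (Fin m ⊕ Fin m) (Fin m ⊕ Fin m) F) := by
        rw [neg_smul]; exact eq_neg_of_add_eq_zero_right hg'
      calc a = (g 1)⁻¹ • (g 1 • a) := by rw [smul_smul, inv_mul_cancel₀ h1, one_smul]
        _ = _ := by rw [this, smul_smul]; congr 1; field_simp
  set s : F := -(g 1) / g 2 with hs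
  set n : F := g 0 / g 2 with hn
  have hrel : a * a = s • a - n • (1 : Matrix (Fin m ⊕ Fin m) (Fin m ⊕ Fin m) F) := by
    have h1 : g 2 • (a * a) = -(g 1) • a - g 0 • (1 : Matrix (Fin m ⊕ Fin m) (Fin m ⊕ Fin m) F) := by
      rw [neg_smul]
      have h' := eq_neg_of_add_eq_zero_right hg'
      rw [h']; abel
    calc a * a = (g 2)⁻¹ • (g 2 • (a * a)) := by rw [smul_smul, inv_mul_cancel₀ hg2, one_smul]
      _ = _ := by
        rw [h1, smul_sub, smul_smul, smul_smul, hs, hn]
        congr 2 <;> field_simp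
  -- anisotropy
  have haniso : ∀ x y : F, x ^ 2 - s * x * y + n * y ^ 2 = 0 → x = 0 ∧ y = 0 := by
    intro x y hxy
    by_cases hy : y = 0
    · rw [hy] at hxy
      have : x ^ 2 = 0 := by simpa using hxy
      exact ⟨pow_eq_zero_iff (two_ne_zero) |>.1 this, hy⟩
    · exfalso
      set r : F := x / y with hr
      have hr' : r ^ 2 - s * r + n = 0 := by
        have : (x ^ 2 - s * x * y + n * y ^ 2) / y ^ 2 = 0 := by rw [hxy, zero_div]
        rw [← this, hr]; field_simp
      have hprod : (a - r • 1) * (a - (s - r) • 1) = 0 := by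
        have : (a - r • (1 : Matrix (Fin m ⊕ Fin m) (Fin m ⊕ Fin m) F)) * (a - (s - r) • 1) =
            a * a - s • a + (r * (s - r)) • 1 := by
          simp only [sub_mul, mul_sub, smul_mul_assoc, mul_smul_comm, one_mul, mul_one, sub_smul]
          module
        rw [this, hrel]
        have h2 : r * (s - r) = n := by linear_combination -hr'
        rw [h2]; abel
      have hmem : a - r • (1 : Matrix (Fin m ⊕ Fin m) (Fin m ⊕ Fin m) F) ∈ K :=
        K.sub_mem haK (K.smul_mem K.one_mem r)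
      have hne : a - r • (1 : Matrix (Fin m ⊕ Fin m) (Fin m ⊕ Fin m) F) ≠ 0 :=
        fun h => hans r (sub_eq_zero.1 h)
      obtain ⟨z, hzK, hz⟩ := hK.inv _ hmem hne
      have hcomm : z * (a - r • (1 : Matrix (Fin m ⊕ Fin m) (Fin m ⊕ Fin m) F)) = 1 := by
        rw [hK.comm z hzK _ hmem]; exact hz
      have : a - (s - r) • (1 : Matrix (Fin m ⊕ Fin m) (Fin m ⊕ Fin m) F) = 0 := by
        calc a - (s - r) • (1 : Matrix (Fin m ⊕ Fin m) (Fin m ⊕ Fin m) F)
            = (z * (a - r • 1)) * (a - (s - r) • 1) := by rw [hcomm, one_mul]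
          _ = 0 := by rw [mul_assoc, hprod, mul_zero]
      exact hans (s - r) (sub_eq_zero.1 this)
  -- apply the abstract theorem
  have hB := sympData_sympBilin (F := F) m
  have h4 := Cfsg.Agent.Lib.Helper17.C3Two.four_dvd_finrank (B := sympBilin m F)
    (α := Matrix.toLin' a) (s := s) (n := n) hB
    (fun x => by
      simp only [Matrix.toLin'_apply]
      rw [Matrix.mulVec_mulVec, hrel, Matrix.sub_mulVec, Matrix.smul_mulVec, Matrix.smul_mulVec,
        Matrix.one_mulVec])
    haniso
    (fun u v => by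
      simp only [Matrix.toLin'_apply, sympBilin_apply]
      exact hsa a haK u v)
    (fun v => by
      simp only [Matrix.toLin'_apply, sympBilin_apply]
      exact halt a haK v)
  rw [Module.finrank_fintype_fun_eq_card] at h4
  simp only [Fintype.card_sum, Fintype.card_fin] at h4
  obtain ⟨k, hk⟩ := h4
  exact ⟨k, by omega⟩

end Cfsg.Agent.Lib.Helper94.BHRSP
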