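import Mathlib
import Cfsg.Prelude.Def_GeometricClasses
import Cfsg.Agent.Lib.Helper94.BHRSP.Kit
import Cfsg.Agent.Lib.Helper45.BhrP4

/-!
# BHRSP-[P4] and BHRSP-[P7] (helper17): `spGL m F` lies in no tensor-product / tensor-wreath subgroup

Both members preserve a set of "decomposable" vectors of the model space; `spGL` is transitive on
non-zero vectors, so it maps a decomposable vector to a non-decomposable one.
-/

set_option autoImplicit false

namespace Cfsg.Agent.Lib.Helper94.BHRSP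

open Cfsg Cfsg.Geo
open scoped MatrixGroups Matrix Kronecker

variable {F : Type*} [Field F] [Fintype F] {m : ℕ}

namespace H17P47

omit [Fintype F] in
/-- the reindexed matrix acts on reindexed vectors in the obvious way -/
theorem glReindex_symm_mulVec {ι κ : Type} [Fintype ι] [DecidableEq ι] [Fintype κ] [DecidableEq κ]
    (e : ι ≃ κ) (k : GL κ F) (d : κ → F) :
    ((glReindex e.symm k : GL ι F) : Matrix ι ι F) *ᵥ (d ∘ e) =
      ((k : Matrix κ κ F) *ᵥ d) ∘ e := by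
  have h : ((glReindex e.symm k : GL ι F) : Matrix ι ι F) = (k : Matrix κ κ F).submatrix e e := by
    rfl
  rw [h, Matrix.submatrix_mulVec_equiv]
  congr 2
  funext j
  simp

/-- General principle: if the model group `S₀` preserves a set `𝒟` of vectors which contains a
non-zero vector and misses a non-zero vector, then `spGL` is not contained in the transported
conjugate of `S₀`. -/
theorem not_spGL_le_of_preserves {κ : Type} [Fintype κ] [DecidableEq κ]
    (e : (Fin m ⊕ Fin m) ≃ κ) (P : GL (Fin m ⊕ Fin m) F) (S₀ : Subgroup (GL κ F))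
    (𝒟 : Set (κ → F)) (hS : ∀ k ∈ S₀, ∀ v ∈ 𝒟, (k : Matrix κ κ F) *ᵥ v ∈ 𝒟)
    (d w : κ → F) (hd : d ∈ 𝒟) (hd0 : d ≠ 0) (hw : w ∉ 𝒟) (hw0 : w ≠ 0) :
    ¬ spGL m F ≤ (S₀.map (glReindex e.symm).toMonoidHom).map (MulAut.conj P).toMonoidHom := by
  intro h
  have hPinj : Function.Injective
      (fun x : Fin m ⊕ Fin m → F => (P : Matrix (Fin m ⊕ Fin m) (Fin m ⊕ Fin m) F) *ᵥ x) := by
    intro x y hxy
    have := congrArg (fun z => (↑(P⁻¹) : Matrix (Fin m ⊕ Fin m) (Fin m ⊕ Fin m) F) *ᵥ z) hxy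
    simpa [Matrix.mulVec_mulVec] using this
  have hcomp0 : ∀ x : κ → F, x ≠ 0 → x ∘ e ≠ 0 := by
    intro x hx h0
    apply hx
    funext j
    have := congrFun h0 (e.symm j)
    simpa using this
  set u : Fin m ⊕ Fin m → F := (P : Matrix (Fin m ⊕ Fin m) (Fin m ⊕ Fin m) F) *ᵥ (d ∘ e) with hu
  set v : Fin m ⊕ Fin m → F := (P : Matrix (Fin m ⊕ Fin m) (Fin m ⊕ Fin m) F) *ᵥ (w ∘ e) with hv
  have hu0 : u ≠ 0 := by
    intro h0
    apply hcomp0 d hd0
    apply hPinj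
    simpa [hu] using h0
  have hv0 : v ≠ 0 := by
    intro h0
    apply hcomp0 w hw0
    apply hPinj
    simpa [hv] using h0
  obtain ⟨g, hg, hguv⟩ := exists_spGL_mulVec_eq u v hu0 hv0
  obtain ⟨_, ⟨k, hk, rfl⟩, hk'⟩ := h hg
  have hg' : g = P * glReindex e.symm k * P⁻¹ := hk'.symm
  have h1 : (g : Matrix (Fin m ⊕ Fin m) (Fin m ⊕ Fin m) F) *ᵥ u =
      (P : Matrix (Fin m ⊕ Fin m) (Fin m ⊕ Fin m) F) *ᵥ
        ((((k : Matrix κ κ F) *ᵥ d)) ∘ e) := by
    rw [hg', hu, Units.val_mul, Units.val_mul, ← glReindex_symm_mulVec]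
    simp only [Matrix.mulVec_mulVec]
    congr 1
    rw [Matrix.mul_assoc, Matrix.mul_assoc]
    congr 1
    rw [← Matrix.mul_assoc]
    have : (↑(P⁻¹) : Matrix (Fin m ⊕ Fin m) (Fin m ⊕ Fin m) F) *
        (↑P : Matrix (Fin m ⊕ Fin m) (Fin m ⊕ Fin m) F) = 1 := by
      rw [← Units.val_mul, inv_mul_cancel]; rfl
    rw [Matrix.mul_assoc, this, Matrix.mul_one]
  rw [h1, hv] at hguv
  have h2 := hPinj hguv
  have h3 : (k : Matrix κ κ F) *ᵥ d = w := by
    funext j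
    have := congrFun h2 (e.symm j)
    simpa using this
  exact hw (h3 ▸ hS k hk d hd)

/-- decomposable vectors of `F^(n₁) ⊗ F^(n₂)` -/
def Dec2 (n₁ n₂ : ℕ) (F : Type*) [Field F] : Set (Fin n₁ × Fin n₂ → F) :=
  {v | ∃ (a : Fin n₁ → F) (b : Fin n₂ → F), ∀ x, v x = a x.1 * b x.2}

omit [Fintype F] in
theorem kronecker_mulVec_mem_dec2 {n₁ n₂ : ℕ} (k : GL (Fin n₁ × Fin n₂) F)
    (hk : k ∈ kroneckerSubgroup n₁ n₂ F) (v : Fin n₁ × Fin n₂ → F) (hv : v ∈ Dec2 n₁ n₂ F) :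
    (k : Matrix (Fin n₁ × Fin n₂) (Fin n₁ × Fin n₂) F) *ᵥ v ∈ Dec2 n₁ n₂ F := by
  obtain ⟨A, B, hAB⟩ := hk
  obtain ⟨a, b, hab⟩ := hv
  refine ⟨(A : Matrix (Fin n₁) (Fin n₁) F) *ᵥ a, (B : Matrix (Fin n₂) (Fin n₂) F) *ᵥ b, ?_⟩
  rintro ⟨i, j⟩
  rw [hAB]
  simp only [Matrix.mulVec, dotProduct, Matrix.kroneckerMap_apply, Fintype.sum_prod_type, hab]
  rw [Finset.sum_mul_sum]
  apply Finset.sum_congr rfl
  intro i' _
  apply Finset.sum_congr rfl
  intro j' _
  ring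

end H17P47

open H17P47

/-- **[P4]** `spGL m F` is contained in no tensor-product subgroup. -/
theorem not_spGL_le_tensorProductSubgroup (n₁ n₂ : ℕ) (h1 : 2 ≤ n₁) (h2 : 2 ≤ n₂)
    (e : (Fin m ⊕ Fin m) ≃ Fin n₁ × Fin n₂) (P : GL (Fin m ⊕ Fin m) F) :
    ¬ spGL m F ≤ tensorProductSubgroup n₁ n₂ e P := by
  have h01 : (⟨0, by omega⟩ : Fin n₁) ≠ ⟨1, by omega⟩ := by
    intro h'; simp [Fin.ext_iff] at h'
  have h01' : (⟨0, by omega⟩ : Fin n₂) ≠ ⟨1, by omega⟩ := by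
    intro h'; simp [Fin.ext_iff] at h'
  set x : Fin n₁ × Fin n₂ := (⟨0, by omega⟩, ⟨0, by omega⟩) with hx
  set y : Fin n₁ × Fin n₂ := (⟨1, by omega⟩, ⟨1, by omega⟩) with hy
  have hxy : x ≠ y := fun h' => h01 (Prod.ext_iff.1 h').1
  refine not_spGL_le_of_preserves e P (kroneckerSubgroup n₁ n₂ F) (Dec2 n₁ n₂ F)
    (fun k hk v hv => kronecker_mulVec_mem_dec2 k hk v hv)
    (Pi.single x 1) (Pi.single x 1 + Pi.single y 1) ?_ ?_ ?_ ?_
  · refine ⟨Pi.single (⟨0, by omega⟩ : Fin n₁) 1, Pi.single (⟨0, by omega⟩ : Fin n₂) 1, ?_⟩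
    rintro ⟨i, j⟩
    simp only [Pi.single_apply, hx, Prod.mk.injEq]
    by_cases hi : i = ⟨0, by omega⟩ <;> by_cases hj : j = ⟨0, by omega⟩ <;> simp [hi, hj]
  · intro h0
    have := congrFun h0 x
    simp at this
  · rintro ⟨a, b, hab⟩
    have e1 := hab x
    have e2 := hab y
    have e3 := hab ((⟨0, by omega⟩ : Fin n₁), (⟨1, by omega⟩ : Fin n₂))
    simp only [Pi.add_apply, Pi.single_apply, hx, hy, Prod.mk.injEq] at e1 e2 e3
    simp [Fin.ext_iff] at e1 e2 e3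
    rcases e3 with e3 | e3
    · rw [e3] at e1; simp at e1
    · rw [e3] at e2; simp at e2
  · intro h0
    have := congrFun h0 x
    simp [hxy] at this

/-- **[P7]** `spGL m F` is contained in no tensor-wreath subgroup. -/
theorem not_spGL_le_tensorWreathSubgroup (k t : ℕ) (hk : 2 ≤ k) (ht : 2 ≤ t)
    (e : (Fin m ⊕ Fin m) ≃ (Fin t → Fin k)) (P : GL (Fin m ⊕ Fin m) F) :
    ¬ spGL m F ≤ tensorWreathSubgroup k t e P := by
  set y : Fin t → Fin k := fun _ => ⟨1, by omega⟩ with hy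
  have hdec : (Pi.single y (1 : F) : (Fin t → Fin k) → F) ∈ Cfsg.Agent.Lib.Helper45.BhrP4.Dec k t F := by
    refine ⟨fun _ => Pi.single (⟨1, by omega⟩ : Fin k) 1, fun z => ?_⟩
    simp only [Pi.single_apply]
    rw [Fintype.prod_ite_zero]
    simp only [Finset.prod_const_one]
    congr 1
    simp [hy, funext_iff]
  have hnd := Cfsg.Agent.Lib.Helper45.BhrP4.not_dec (F := F) hk ht
  refine not_spGL_le_of_preserves e P (tensorWreathStandard k t F)
    (Cfsg.Agent.Lib.Helper45.BhrP4.Dec k t F)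
    (fun g hg v hv => Cfsg.Agent.Lib.Helper45.BhrP4.tensorWreathStandard_le_decStab k t hg v hv)
    (Pi.single y 1) _ hdec ?_ hnd ?_
  · intro h0
    have := congrFun h0 y
    simp at this
  · intro h0
    have hne : (fun _ : Fin t => (⟨1, by omega⟩ : Fin k)) ≠ (fun _ => (⟨0, by omega⟩ : Fin k)) := by
      intro h'
      have := congrFun h' (⟨0, by omega⟩ : Fin t)
      simp [Fin.ext_iff] at this
    have := congrFun h0 y
    simp [hy, hne] at this

end Cfsg.Agent.Lib.Helper94.BHRSP
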