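import Mathlib
import Cfsg.Prelude.Def_GeometricClasses
import Cfsg.Agent.Lib.Helper37.BHRSU.Defs
import Cfsg.Agent.Lib.Helper37.BHRSU.Kit
import Cfsg.Agent.Lib.Helper44.SubF1
import Cfsg.Agent.Lib.Helper5.UnitaryField

/-!
# BHRSU-[P5-TWO] (helper17): `SUg n F q` (`n ≥ 4`) lies in no subfield subgroup over the subfield of
index two

`SU` is perfect, so it would lie in `GL_n(F_q)^P`; then every element of `SU` preserves the non-degenerate
bilinear form `b(x, y) = x ⬝ (C y)`, `C = P^(q) P⁻¹`.  A unitary transvection with direction `v` preserving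
`b` forces `C v ∈ F v^(q)`; comparing the proportionality factors of `a v + b w` for two orthogonal
isotropic vectors gives `a^q = a` for all `a ∈ F`, which is false.
-/

set_option autoImplicit false

namespace Cfsg.Agent.Lib.Helper37.BHRSU

open Cfsg Cfsg.Geo Cfsg.Agent.Lib.Helper70.AschU
open scoped MatrixGroups Matrix Kronecker commutatorElement

variable {F : Type*} [Field F] [Fintype F] {n q : ℕ}

namespace H17P5

open Cfsg.Agent.Lib.Helper44.SubF

/-- central factors do not change commutators -/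
theorem commutatorElement_mul_central {G : Type*} [Group G] (a b s t : G)
    (hs : ∀ g, s * g = g * s) (ht : ∀ g, t * g = g * t) : ⁅a * s, b * t⁆ = ⁅a, b⁆ := by
  calc ⁅a * s, b * t⁆ = a * (s * (b * t)) * (s⁻¹ * a⁻¹) * (t⁻¹ * b⁻¹) := by
        rw [commutatorElement_def, mul_inv_rev, mul_inv_rev]; group
    _ = a * ((b * t) * s) * (s⁻¹ * a⁻¹) * (t⁻¹ * b⁻¹) := by rw [hs]
    _ = a * b * (t * a⁻¹) * (t⁻¹ * b⁻¹) := by group
    _ = a * b * (a⁻¹ * t) * (t⁻¹ * b⁻¹) := by rw [ht]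
    _ = ⁅a, b⁆ := by rw [commutatorElement_def]; group

omit [Fintype F] in
/-- commutators of `GL_n(F₀) · scalars` lie in `GL_n(F₀)` -/
theorem commutator_NGrp_le {ι : Type} [Fintype ι] [DecidableEq ι] (F₀ : Subfield F) :
    ⁅(NGrp F₀ : Subgroup (GL ι F)), (NGrp F₀ : Subgroup (GL ι F))⁆ ≤
      (Matrix.GeneralLinearGroup.map (F₀.subtype : F₀ →+* F)).range := by
  rw [Subgroup.commutator_le]
  intro g₁ h₁ g₂ h₂
  unfold NGrp at h₁ h₂
  rw [Subgroup.mem_sup_of_normal_right] at h₁ h₂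
  obtain ⟨y₁, hy₁, z₁, hz₁, rfl⟩ := h₁
  obtain ⟨y₂, hy₂, z₂, hz₂, rfl⟩ := h₂
  obtain ⟨c₁, rfl⟩ := (Cfsg.Agent.Lib.Helper44.SubF.mem_scalars_iff z₁).1 hz₁
  obtain ⟨c₂, rfl⟩ := (Cfsg.Agent.Lib.Helper44.SubF.mem_scalars_iff z₂).1 hz₂
  rw [commutatorElement_mul_central y₁ y₂ _ _ (scalarGL_comm c₁) (scalarGL_comm c₂),
    commutatorElement_def]
  exact Subgroup.mul_mem _ (Subgroup.mul_mem _ (Subgroup.mul_mem _ hy₁ hy₂)
    (Subgroup.inv_mem _ hy₁)) (Subgroup.inv_mem _ hy₂)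

/-- **Step 1**: a perfect `SU` inside a subfield subgroup is rational after conjugation -/
theorem ratMat_of_mem (hF : Fintype.card F = q ^ 2) (hn : 4 ≤ n) (F₀ : Subfield F)
    (P : GL (Fin n) F) (h : SUg n F q ≤ subfieldSubgroup F₀ P) (g : GL (Fin n) F)
    (hg : g ∈ SUg n F q) :
    RatMat F₀ ((P⁻¹ * g * P : GL (Fin n) F) : Matrix (Fin n) (Fin n) F) := by
  have h1 : SUg n F q ≤ ((Matrix.GeneralLinearGroup.map (F₀.subtype : F₀ →+* F)).range).map
      (MulAut.conj P).toMonoidHom := by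
    calc SUg n F q = ⁅SUg n F q, SUg n F q⁆ := (commutator_SUg hF hn).symm
      _ ≤ ⁅subfieldSubgroup F₀ P, subfieldSubgroup F₀ P⁆ := Subgroup.commutator_mono h h
      _ = (⁅(NGrp F₀ : Subgroup (GL (Fin n) F)), (NGrp F₀ : Subgroup (GL (Fin n) F))⁆).map (MulAut.conj P).toMonoidHom := by
          rw [Subgroup.map_commutator]; rfl
      _ ≤ _ := Subgroup.map_mono (commutator_NGrp_le F₀)
  obtain ⟨k, hk, hk'⟩ := h1 hg
  have hk2 : P⁻¹ * g * P = k := by
    rw [← hk']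
    show P⁻¹ * (P * k * P⁻¹) * P = k
    group
  rw [hk2]
  exact (mem_range_iff k).1 hk

/-- **Step 2**: elements of the subfield of index two are fixed by `x ↦ x ^ q` -/
theorem pow_q_of_mem (hF : Fintype.card F = q ^ 2) (F₀ : Subfield F)
    (hcard : Fintype.card F = Nat.card F₀ ^ 2) (x : F) (hx : x ∈ F₀) : x ^ q = x := by
  have hq : Nat.card F₀ = q := by
    rw [hF] at hcard
    exact (Nat.pow_left_injective (n := 2) (by norm_num) hcard).symm
  have : Fintype F₀ := Fintype.ofFinite F₀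
  have h1 := FiniteField.pow_card (⟨x, hx⟩ : F₀)
  rw [← Nat.card_eq_fintype_card, hq] at h1
  have h2 := congrArg (Subtype.val) h1
  simpa using h2

omit [Fintype F] in
/-- **Step 3**: a unitary matrix which is conjugate under `P` to a matrix fixed by the Frobenius `σ`
preserves the bilinear form `(x, y) ↦ (C y) ⬝ x`, `C = P^σ P⁻¹` -/
theorem bilinear_inv (σ : F →+* F) (hσ : ∀ x, σ x = x ^ q) (hσ2 : ∀ x, σ (σ x) = x)
    (P g : GL (Fin n) F) (hgU : g ∈ GU n F q)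
    (hrat : ((P⁻¹ * g * P : GL (Fin n) F) : Matrix (Fin n) (Fin n) F).map σ =
      ((P⁻¹ * g * P : GL (Fin n) F) : Matrix (Fin n) (Fin n) F)) (x y : Fin n → F) :
    (((P : Matrix (Fin n) (Fin n) F).map σ * ((P⁻¹ : GL (Fin n) F) : Matrix (Fin n) (Fin n) F)) *ᵥ
        ((g : Matrix (Fin n) (Fin n) F) *ᵥ y)) ⬝ᵥ ((g : Matrix (Fin n) (Fin n) F) *ᵥ x) =
      (((P : Matrix (Fin n) (Fin n) F).map σ * ((P⁻¹ : GL (Fin n) F) : Matrix (Fin n) (Fin n) F)) *ᵥ
        y) ⬝ᵥ x := by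
  set G : Matrix (Fin n) (Fin n) F := (g : Matrix (Fin n) (Fin n) F) with hG
  set Pm : Matrix (Fin n) (Fin n) F := (P : Matrix (Fin n) (Fin n) F) with hPm
  set Qm : Matrix (Fin n) (Fin n) F := ((P⁻¹ : GL (Fin n) F) : Matrix (Fin n) (Fin n) F) with hQm
  have hQP : Qm * Pm = 1 := by rw [hQm, hPm, ← Units.val_mul, inv_mul_cancel]; rfl
  have hPQ : Pm * Qm = 1 := by rw [hQm, hPm, ← Units.val_mul, mul_inv_cancel]; rfl
  have hQPσ : Qm.map σ * Pm.map σ = 1 := by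
    rw [← Matrix.map_mul, hQP, Matrix.map_one σ (map_zero σ) (map_one σ)]
  have hh : (Qm * G * Pm).map σ = Qm * G * Pm := by
    rw [Units.val_mul, Units.val_mul] at hrat
    exact hrat
  have hG' : G = Pm * (Qm * G * Pm) * Qm := by
    rw [Matrix.mul_assoc Qm G Pm, ← Matrix.mul_assoc Pm Qm, hPQ, Matrix.one_mul, Matrix.mul_assoc,
      hPQ, Matrix.mul_one]
  have hGσ : G.map σ = Pm.map σ * (Qm * G * Pm) * Qm.map σ := by
    conv_lhs => rw [hG']
    rw [Matrix.map_mul, Matrix.map_mul, hh]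
  set C : Matrix (Fin n) (Fin n) F := Pm.map σ * Qm with hC
  have key : (fun i => σ ((G *ᵥ (fun j => σ ((C *ᵥ y) j))) i)) = C *ᵥ (G *ᵥ y) := by
    have h1 : (fun i => σ ((G *ᵥ (fun j => σ ((C *ᵥ y) j))) i)) =
        G.map σ *ᵥ (σ ∘ (fun j => σ ((C *ᵥ y) j))) := by
      funext i; exact RingHom.map_mulVec σ G _ i
    have h2 : (σ ∘ (fun j => σ ((C *ᵥ y) j))) = C *ᵥ y := by
      funext i; simp [hσ2]
    rw [h1, h2, hGσ, hC]
    simp only [Matrix.mulVec_mulVec]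
    congr 1
    calc Pm.map σ * (Qm * G * Pm) * Qm.map σ * (Pm.map σ * Qm)
        = Pm.map σ * (Qm * G * Pm) * (Qm.map σ * Pm.map σ) * Qm := by
          simp only [Matrix.mul_assoc]
      _ = Pm.map σ * Qm * G := by
          rw [hQPσ, Matrix.mul_one]
          simp only [Matrix.mul_assoc]
          rw [hPQ, Matrix.mul_one]
  have h3 := hgU x (fun j => σ ((C *ᵥ y) j))
  rw [Cfsg.Agent.Lib.Helper13.hermForm_eq_dotProduct,
    Cfsg.Agent.Lib.Helper13.hermForm_eq_dotProduct] at h3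
  have h4 : (fun j => ((G *ᵥ (fun j => σ ((C *ᵥ y) j))) j) ^ q) = C *ᵥ (G *ᵥ y) := by
    rw [← key]
    funext j
    rw [hσ]
  have h5 : (fun j => (σ ((C *ᵥ y) j)) ^ q) = C *ᵥ y := by
    funext j
    rw [← hσ, hσ2]
  have h3' : (fun j => ((G *ᵥ (fun j => σ ((C *ᵥ y) j))) j) ^ q) ⬝ᵥ (G *ᵥ x) =
      (fun j => (σ ((C *ᵥ y) j)) ^ q) ⬝ᵥ x := h3
  rw [h4, h5] at h3'
  exact h3'

/-- **Step 4**: a matrix `C` whose bilinear form is preserved by all of `SU` maps every isotropic `v`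
into the line of `v^(q)` -/
theorem exists_kappa (hF : Fintype.card F = q ^ 2) (C : Matrix (Fin n) (Fin n) F)
    (hC : ∀ g ∈ SUg n F q, ∀ x y : Fin n → F,
      (C *ᵥ ((g : Matrix (Fin n) (Fin n) F) *ᵥ y)) ⬝ᵥ ((g : Matrix (Fin n) (Fin n) F) *ᵥ x) =
        (C *ᵥ y) ⬝ᵥ x)
    (v : Fin n → F) (hv : hermForm n F q v v = 0) :
    ∃ κ : F, C *ᵥ v = κ • (fun j => v j ^ q) := by
  by_cases hv0 : v = 0
  · refine ⟨0, ?_⟩
    subst hv0
    simp
  obtain ⟨i, hi⟩ : ∃ i, v i ≠ 0 := by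
    by_contra hcon
    exact hv0 (funext fun j => not_not.1 fun hj => hcon ⟨j, hj⟩)
  obtain ⟨σ, hσ, hσ2⟩ := Cfsg.Agent.Lib.Helper13.exists_frob hF
  obtain ⟨c, hc0, hc⟩ := Cfsg.Agent.Lib.Helper37.exists_trace_zero_ne σ
    (Cfsg.Agent.S0837.frob_ne_id σ hF hσ) hσ2
  obtain ⟨g, hg, hgm⟩ := exists_tv hF v hv c (by rw [← hσ]; exact hc)
  have hviq : v i ^ q ≠ 0 := pow_ne_zero _ hi
  have K1 : ∀ x : Fin n → F, hermForm n F q x v = 0 → (C *ᵥ v) ⬝ᵥ x = 0 := by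
    intro x hx
    have h1 := hC g hg x (Pi.single i 1)
    rw [hgm, Cfsg.Agent.Lib.Helper13.unitaryTransvection_mulVec,
      Cfsg.Agent.Lib.Helper13.unitaryTransvection_mulVec, hx, mul_zero, zero_smul, add_zero,
      Cfsg.Agent.Lib.Helper13.hermForm_single_left, Matrix.mulVec_add, Matrix.mulVec_smul,
      add_dotProduct, smul_dotProduct, smul_eq_mul] at h1
    have h2 : (c * v i ^ q) * ((C *ᵥ v) ⬝ᵥ x) = 0 := by linear_combination h1
    exact (mul_eq_zero.1 h2).resolve_left (mul_ne_zero hc0 hviq)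
  refine ⟨(C *ᵥ v) i / v i ^ q, ?_⟩
  funext j
  have hx : hermForm n F q (Pi.single j 1 + (-(v j ^ q / v i ^ q)) • Pi.single i 1) v = 0 := by
    rw [Cfsg.Agent.Lib.Helper13.hermForm_add_left, Cfsg.Agent.Lib.Helper13.hermForm_smul_left,
      Cfsg.Agent.Lib.Helper13.hermForm_single_left, Cfsg.Agent.Lib.Helper13.hermForm_single_left]
    field_simp
    ring
  have h3 := K1 _ hx
  rw [dotProduct_add, dotProduct_smul, dotProduct_single_one, dotProduct_single_one,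
    smul_eq_mul] at h3
  simp only [Pi.smul_apply, smul_eq_mul]
  field_simp
  field_simp at h3
  linear_combination h3

end H17P5

open H17P5 in
/-- **[P5-TWO]** `SUg n F q`, `n ≥ 4`, is contained in no subfield subgroup over the subfield of index `2`. -/
theorem not_SUg_le_subfieldSubgroup_two (hF : Fintype.card F = q ^ 2) (hn : 4 ≤ n) (F₀ : Subfield F)
    (hcard : Fintype.card F = Nat.card F₀ ^ 2) (P : GL (Fin n) F) :
    ¬ SUg n F q ≤ subfieldSubgroup F₀ P := by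
  intro h
  obtain ⟨σ, hσ, hσ2⟩ := Cfsg.Agent.Lib.Helper13.exists_frob hF
  have hne := Cfsg.Agent.S0837.frob_ne_id σ hF hσ
  have hq2 : 2 ≤ q := Cfsg.Agent.Lib.Helper13.two_le_of_card_eq_sq hF
  set Pm : Matrix (Fin n) (Fin n) F := (P : Matrix (Fin n) (Fin n) F) with hPm
  set Qm : Matrix (Fin n) (Fin n) F := ((P⁻¹ : GL (Fin n) F) : Matrix (Fin n) (Fin n) F) with hQm
  have hQP : Qm * Pm = 1 := by rw [hQm, hPm, ← Units.val_mul, inv_mul_cancel]; rfl
  have hPQ : Pm * Qm = 1 := by rw [hQm, hPm, ← Units.val_mul, mul_inv_cancel]; rfl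
  set C : Matrix (Fin n) (Fin n) F := Pm.map σ * Qm with hCdef
  have hCinv : ∀ g ∈ SUg n F q, ∀ x y : Fin n → F,
      (C *ᵥ ((g : Matrix (Fin n) (Fin n) F) *ᵥ y)) ⬝ᵥ ((g : Matrix (Fin n) (Fin n) F) *ᵥ x) =
        (C *ᵥ y) ⬝ᵥ x := by
    intro g hg x y
    apply bilinear_inv σ hσ hσ2 P g hg.1
    have hr := ratMat_of_mem hF hn F₀ P h g hg
    ext i j
    rw [Matrix.map_apply, hσ]
    exact pow_q_of_mem hF F₀ hcard _ (hr i j)
  have hK := fun v hv => exists_kappa hF C hCinv v hv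
  have hCinj : ∀ v : Fin n → F, C *ᵥ v = 0 → v = 0 := by
    intro v hv
    have h1 : (Pm * Qm.map σ) * C = 1 := by
      rw [hCdef, Matrix.mul_assoc, ← Matrix.mul_assoc (Qm.map σ), ← Matrix.map_mul, hQP,
        Matrix.map_one σ (map_zero σ) (map_one σ), Matrix.one_mul, hPQ]
    calc v = ((Pm * Qm.map σ) * C) *ᵥ v := by rw [h1, Matrix.one_mulVec]
      _ = (Pm * Qm.map σ) *ᵥ (C *ᵥ v) := by rw [Matrix.mulVec_mulVec]
      _ = 0 := by rw [hv, Matrix.mulVec_zero]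
  have hm1 : (-1 : F) ^ q = -1 := by rw [← hσ]; simp
  obtain ⟨ζ, hζ⟩ := Cfsg.Agent.Lib.Helper5.exists_norm_eq hF hm1
  set i0 : Fin n := ⟨0, by omega⟩ with hi0
  set i1 : Fin n := ⟨1, by omega⟩ with hi1
  set i2 : Fin n := ⟨2, by omega⟩ with hi2
  set i3 : Fin n := ⟨3, by omega⟩ with hi3
  have h01 : i0 ≠ i1 := by simp [hi0, hi1, Fin.ext_iff]
  have h02 : i0 ≠ i2 := by simp [hi0, hi2, Fin.ext_iff]
  have h03 : i0 ≠ i3 := by simp [hi0, hi3, Fin.ext_iff]
  have h12 : i1 ≠ i2 := by simp [hi1, hi2, Fin.ext_iff]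
  have h13 : i1 ≠ i3 := by simp [hi1, hi3, Fin.ext_iff]
  have h23 : i2 ≠ i3 := by simp [hi2, hi3, Fin.ext_iff]
  set U : F → F → Fin n → F := fun a b =>
    a • (Pi.single i0 1 + ζ • Pi.single i1 1) + b • (Pi.single i2 1 + ζ • Pi.single i3 1) with hU
  have hU0 : ∀ a b, U a b i0 = a := by
    intro a b
    simp [hU, h01, h02, h03]
  have hU1 : ∀ a b, U a b i1 = a * ζ := by
    intro a b
    simp [hU, h01.symm, h12, h13]
  have hU2 : ∀ a b, U a b i2 = b := by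
    intro a b
    simp [hU, h02.symm, h12.symm, h23]
  have hU3 : ∀ a b, U a b i3 = b * ζ := by
    intro a b
    simp [hU, h03.symm, h13.symm, h23.symm]
  have hL : ∀ (a b : F) (y : Fin n → F), hermForm n F q (U a b) y =
      a * (y i0 ^ q + ζ * y i1 ^ q) + b * (y i2 ^ q + ζ * y i3 ^ q) := by
    intro a b y
    simp only [hU, Cfsg.Agent.Lib.Helper13.hermForm_add_left,
      Cfsg.Agent.Lib.Helper13.hermForm_smul_left, Cfsg.Agent.Lib.Helper13.hermForm_single_left]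
  have hiso : ∀ a b, hermForm n F q (U a b) (U a b) = 0 := by
    intro a b
    rw [hL, hU0, hU1, hU2, hU3, mul_pow, mul_pow]
    linear_combination (a * a ^ q + b * b ^ q) * hζ
  have hlin : ∀ a b, C *ᵥ U a b = a • (C *ᵥ U 1 0) + b • (C *ᵥ U 0 1) := by
    intro a b
    rw [← Matrix.mulVec_smul, ← Matrix.mulVec_smul, ← Matrix.mulVec_add]
    congr 1
    simp [hU]
  obtain ⟨κ10, h10⟩ := hK (U 1 0) (hiso 1 0)
  obtain ⟨κ01, h01'⟩ := hK (U 0 1) (hiso 0 1)
  have hq0 : q ≠ 0 := by omega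
  have key : ∀ a b : F, ∃ κ : F, a * κ10 = κ * a ^ q ∧ b * κ01 = κ * b ^ q := by
    intro a b
    obtain ⟨κ, hκ⟩ := hK (U a b) (hiso a b)
    have e0 := congrFun hκ i0
    have e2 := congrFun hκ i2
    rw [hlin, h10, h01'] at e0 e2
    simp only [Pi.add_apply, Pi.smul_apply, smul_eq_mul, hU0, hU2, one_pow, zero_pow hq0, mul_one,
      mul_zero, add_zero, zero_add] at e0 e2
    exact ⟨κ, e0, e2⟩
  obtain ⟨κ, hκ1, hκ2⟩ := key 1 1
  rw [one_pow, one_mul, mul_one] at hκ1 hκ2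
  have hκ10 : κ10 ≠ 0 := by
    intro h0
    rw [h0, zero_smul] at h10
    have := congrFun (hCinj _ h10) i0
    rw [hU0] at this
    simp at this
  apply hne
  ext a
  obtain ⟨κ', hκ'1, hκ'2⟩ := key a 1
  rw [one_pow, one_mul, mul_one] at hκ'2
  have h5 : κ10 * (a - a ^ q) = 0 := by
    rw [← hκ'2, hκ2, ← hκ1] at hκ'1
    linear_combination hκ'1
  rcases mul_eq_zero.1 h5 with h6 | h6
  · exact absurd h6 hκ10
  · rw [RingHom.id_apply, hσ]
    exact (sub_eq_zero.1 h6).symm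

end Cfsg.Agent.Lib.Helper37.BHRSU
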