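import Cfsg.Prelude.Def_ChevStructure
import Cfsg.Prelude.Def_LieTypes
import Cfsg.Prelude.Def_ChevB2
import Mathlib.Tactic.LinearCombination
import Mathlib.Tactic.Ring

set_option autoImplicit false

namespace Cfsg.Agent.Lib.Helper17

open Cfsg Cfsg.Lie Matrix

/-- The `r`-chain through `s` as a list of `(k, index of s + k r, M_{r,s,k})`. -/
def chainList (D : ChevalleyDatum) (r s : ℕ) : List (ℕ × ℕ × ℤ) :=
  ((D.chain.getD r #[]).toList.filter (fun e => e.1 = s)).flatMap fun e =>
    e.2.toList.zipIdx.map fun q => (q.2 + 1, q.1.1, q.1.2)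

theorem chainCoeff_eq_chainList (D : ChevalleyDatum) (r s u : ℕ) :
    D.chainCoeff r s u =
      ((chainList D r s).filter (fun x => x.2.1 = u)).map (fun x => (x.1, x.2.2)) := by
  unfold ChevalleyDatum.chainCoeff chainList
  simp [List.filter_flatMap, List.map_flatMap, List.filter_map, Function.comp_def]

variable {F : Type*} [Field F]

theorem sum_map_filter_ite {α : Type*} (l : List α) (p : α → Bool) (g : α → F) :
    ((l.filter p).map g).sum = (l.map fun x => if p x then g x else 0).sum := by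
  induction l with
  | nil => rfl
  | cons a l ih =>
    by_cases h : p a
    · rw [List.filter_cons_of_pos h, List.map_cons, List.sum_cons, List.map_cons, List.sum_cons,
        if_pos h, ih]
    · rw [List.filter_cons_of_neg h, List.map_cons, List.sum_cons, if_neg h, zero_add, ih]

/-- Indicator that the coordinate `m` is the root vector `e_u`. -/
def dl (D : ChevalleyDatum) (F : Type*) [Field F] (m : D.Idx) (u : ℕ) : F :=
  match m with
  | Sum.inl _ => 0
  | Sum.inr w => if w.val = u then 1 else 0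

theorem sum_mul_dl (D : ChevalleyDatum) (g : D.Idx → F) (u : ℕ) (hu : u < D.nroots) (c : F) :
    ∑ m, g m * (dl D F m u * c) = g (Sum.inr ⟨u, hu⟩) * c := by
  rw [Fintype.sum_sum_type]
  have h1 : ∑ i : Fin D.rank, g (Sum.inl i) * (dl D F (Sum.inl i) u * c) = 0 := by
    apply Finset.sum_eq_zero
    intro i _
    show g (Sum.inl i) * ((0 : F) * c) = 0
    ring
  rw [h1, zero_add, Finset.sum_eq_single (⟨u, hu⟩ : Fin D.nroots)]
  · show g (Sum.inr ⟨u, hu⟩) * ((if u = u then (1 : F) else 0) * c) = _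
    rw [if_pos rfl, one_mul]
  · intro b _ hb
    have : ¬ b.val = u := fun h => hb (Fin.ext h)
    show g (Sum.inr b) * ((if b.val = u then (1 : F) else 0) * c) = 0
    rw [if_neg this]; ring
  · intro h; exact absurd (Finset.mem_univ _) h

theorem sum_mul_list (D : ChevalleyDatum) (g : D.Idx → F) (l : List (ℕ × ℕ × ℤ))
    (c : ℕ × ℕ × ℤ → F) (hl : ∀ x ∈ l, x.2.1 < D.nroots) :
    ∑ m, g m * (l.map fun x => dl D F m x.2.1 * c x).sum =
      (l.map fun x => (if h : x.2.1 < D.nroots then g (Sum.inr ⟨x.2.1, h⟩) else 0) * c x).sum := by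
  induction l with
  | nil => simp
  | cons a l ih =>
    simp only [List.map_cons, List.sum_cons, mul_add, Finset.sum_add_distrib]
    rw [ih (fun x hx => hl x (List.mem_cons_of_mem _ hx)),
      sum_mul_dl D g a.2.1 (hl a List.mem_cons_self), dif_pos (hl a List.mem_cons_self)]

/-- Column `e_s` of `x_r(t)` for `s ≠ ±r`. -/
theorem xMat_col (D : ChevalleyDatum) (r : Fin D.nroots) (t : F) (s : Fin D.nroots) (hsr : s ≠ r)
    (hsn : s.val ≠ D.negIdx.getD r.val 0) (row : D.Idx) :
    D.xMat F r t row (Sum.inr s) =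
      (((0, s.val, 1) :: chainList D r.val s.val).map fun x =>
        dl D F row x.2.1 * (((x.2.2 : ℤ) : F) * t ^ x.1)).sum := by
  rw [List.map_cons, List.sum_cons]
  have hsn' : ¬ (s.val = (D.negIdx[r.val]?).getD 0) := by simpa using hsn
  rcases row with i | u
  · have h0 : ∀ l : List (ℕ × ℕ × ℤ),
        (l.map fun x => dl D F (Sum.inl i) x.2.1 * (((x.2.2 : ℤ) : F) * t ^ x.1)).sum = 0 := by
      intro l
      induction l with
      | nil => rfl
      | cons a l ih =>
        rw [List.map_cons, List.sum_cons, ih]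
        show (0 : F) * _ + 0 = 0
        ring
    rw [h0]
    show D.xMat F r t (Sum.inl i) (Sum.inr s) = (0 : F) * _ + 0
    simp [ChevalleyDatum.xMat, hsr, hsn']
  · have h1 : D.xMat F r t (Sum.inr u) (Sum.inr s) = (if u = s then 1 else 0) +
        ((D.chainCoeff r.val s.val u.val).map fun km => ((km.2 : ℤ) : F) * t ^ km.1).sum := by
      simp [ChevalleyDatum.xMat, hsr, hsn']
    rw [h1, chainCoeff_eq_chainList, List.map_map, sum_map_filter_ite]
    congr 1
    · show _ = (if u.val = s.val then (1 : F) else 0) * _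
      by_cases h : u = s
      · subst h; simp
      · have : ¬ u.val = s.val := fun h' => h (Fin.ext h')
        simp [h, this]
    · congr 1
      apply List.map_congr_left
      intro x _
      show _ = (if u.val = x.2.1 then (1 : F) else 0) * _
      by_cases h : x.2.1 = u.val
      · simp [h]
      · have : ¬ u.val = x.2.1 := fun h' => h h'.symm
        simp [h, this]

/-- Validity of a chain target: in range, and different from `±r`. -/
def tgtOK (D : ChevalleyDatum) (r u : ℕ) : Bool :=
  decide (u < D.nroots) && decide (u ≠ r) && decide (u ≠ D.negIdx.getD r 0)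

theorem tgtOK_spec {D : ChevalleyDatum} {r u : ℕ} (h : tgtOK D r u = true) :
    u < D.nroots ∧ u ≠ r ∧ u ≠ D.negIdx.getD r 0 := by
  unfold tgtOK at h
  simp only [Bool.and_eq_true, decide_eq_true_eq] at h
  exact ⟨h.1.1, h.1.2, h.2⟩

def nthCoef (l : List (ℕ × ℕ × ℤ)) (i : ℕ) : ℤ := ((l[i]?).map (fun x => x.2.2)).getD 0

/-- The table check for the chain through `s`: its shape and the divided power relations. -/
def shapeOK (D : ChevalleyDatum) (r s : ℕ) : Bool :=
  match chainList D r s with
  | [] => true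
  | [x1] => decide (x1.1 = 1) && tgtOK D r x1.2.1 && decide (chainList D r x1.2.1 = [])
  | [x1, x2] => decide (x1.1 = 1) && decide (x2.1 = 2) && tgtOK D r x1.2.1 && tgtOK D r x2.2.1 &&
      decide (chainList D r x2.2.1 = []) &&
      decide (chainList D r x1.2.1 = [(1, x2.2.1, nthCoef (chainList D r x1.2.1) 0)]) &&
      decide (x1.2.2 * nthCoef (chainList D r x1.2.1) 0 = 2 * x2.2.2)
  | [x1, x2, x3] => decide (x1.1 = 1) && decide (x2.1 = 2) && decide (x3.1 = 3) &&
      tgtOK D r x1.2.1 && tgtOK D r x2.2.1 && tgtOK D r x3.2.1 &&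
      decide (chainList D r x3.2.1 = []) &&
      decide (chainList D r x1.2.1 = [(1, x2.2.1, nthCoef (chainList D r x1.2.1) 0),
        (2, x3.2.1, nthCoef (chainList D r x1.2.1) 1)]) &&
      decide (chainList D r x2.2.1 = [(1, x3.2.1, nthCoef (chainList D r x2.2.1) 0)]) &&
      decide (x1.2.2 * nthCoef (chainList D r x1.2.1) 0 = 2 * x2.2.2) &&
      decide (x1.2.2 * nthCoef (chainList D r x1.2.1) 1 = 3 * x3.2.2) &&
      decide (x2.2.2 * nthCoef (chainList D r x2.2.1) 0 = 3 * x3.2.2)
  | _ => false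

/-- Target validity as a proposition. -/
def Tgt (D : ChevalleyDatum) (r u : ℕ) : Prop := u < D.nroots ∧ u ≠ r ∧ u ≠ D.negIdx.getD r 0

theorem shapeOK_spec {D : ChevalleyDatum} {r s : ℕ} (h : shapeOK D r s = true) :
    chainList D r s = [] ∨
    (∃ u1 m1, chainList D r s = [(1, u1, m1)] ∧ Tgt D r u1 ∧ chainList D r u1 = []) ∨
    (∃ u1 m1 u2 m2 a, chainList D r s = [(1, u1, m1), (2, u2, m2)] ∧ Tgt D r u1 ∧ Tgt D r u2 ∧
      chainList D r u2 = [] ∧ chainList D r u1 = [(1, u2, a)] ∧ m1 * a = 2 * m2) ∨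
    (∃ u1 m1 u2 m2 u3 m3 a b c, chainList D r s = [(1, u1, m1), (2, u2, m2), (3, u3, m3)] ∧
      Tgt D r u1 ∧ Tgt D r u2 ∧ Tgt D r u3 ∧ chainList D r u3 = [] ∧
      chainList D r u1 = [(1, u2, a), (2, u3, b)] ∧ chainList D r u2 = [(1, u3, c)] ∧
      m1 * a = 2 * m2 ∧ m1 * b = 3 * m3 ∧ m2 * c = 3 * m3) := by
  unfold shapeOK at h
  split at h
  · left; assumption
  · rename_i x1 heq
    obtain ⟨k1, u1, m1⟩ := x1
    simp only [Bool.and_eq_true, decide_eq_true_eq] at h
    obtain ⟨⟨hk1, ht1⟩, hn1⟩ := h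
    subst hk1
    right; left
    exact ⟨u1, m1, heq, tgtOK_spec ht1, hn1⟩
  · rename_i x1 x2 heq
    obtain ⟨k1, u1, m1⟩ := x1
    obtain ⟨k2, u2, m2⟩ := x2
    simp only [Bool.and_eq_true, decide_eq_true_eq] at h
    obtain ⟨⟨⟨⟨⟨⟨hk1, hk2⟩, ht1⟩, ht2⟩, hn2⟩, hl1⟩, hc⟩ := h
    subst hk1 hk2
    right; right; left
    exact ⟨u1, m1, u2, m2, _, heq, tgtOK_spec ht1, tgtOK_spec ht2, hn2, hl1, hc⟩
  · rename_i x1 x2 x3 heq
    obtain ⟨k1, u1, m1⟩ := x1
    obtain ⟨k2, u2, m2⟩ := x2
    obtain ⟨k3, u3, m3⟩ := x3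
    simp only [Bool.and_eq_true, decide_eq_true_eq] at h
    obtain ⟨⟨⟨⟨⟨⟨⟨⟨⟨⟨⟨hk1, hk2⟩, hk3⟩, ht1⟩, ht2⟩, ht3⟩, hn3⟩, hl1⟩, hl2⟩, hc1⟩, hc2⟩, hc3⟩ := h
    subst hk1 hk2 hk3
    right; right; right
    exact ⟨u1, m1, u2, m2, u3, m3, _, _, _, heq, tgtOK_spec ht1, tgtOK_spec ht2, tgtOK_spec ht3,
      hn3, hl1, hl2, hc1, hc2, hc3⟩
  · exact absurd h (by simp)

theorem xMat_col' (D : ChevalleyDatum) (r : Fin D.nroots) (t : F) (u : ℕ) (hu : Tgt D r.val u)
    (row : D.Idx) :
    D.xMat F r t row (Sum.inr ⟨u, hu.1⟩) =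
      (((0, u, 1) :: chainList D r.val u).map fun x =>
        dl D F row x.2.1 * (((x.2.2 : ℤ) : F) * t ^ x.1)).sum :=
  xMat_col D r t ⟨u, hu.1⟩ (fun h => hu.2.1 (congrArg Fin.val h)) hu.2.2 row

/-- The additivity relation on a column `e_s`, `s ≠ ±r`. -/
theorem col_add (D : ChevalleyDatum) (r : Fin D.nroots) (t1 t2 : F) (s : Fin D.nroots)
    (hsr : s ≠ r) (hsn : s.val ≠ D.negIdx.getD r.val 0) (hs : shapeOK D r.val s.val = true)
    (row : D.Idx) :
    ∑ m, D.xMat F r t1 row m * D.xMat F r t2 m (Sum.inr s) =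
      D.xMat F r (t1 + t2) row (Sum.inr s) := by
  have hS : Tgt D r.val s.val := ⟨s.isLt, fun h => hsr (Fin.ext h), hsn⟩
  rw [Finset.sum_congr rfl (fun m _ => by rw [xMat_col D r t2 s hsr hsn m])]
  rw [xMat_col D r (t1 + t2) s hsr hsn row]
  have hX1s := xMat_col' D r t1 s.val hS row
  rcases shapeOK_spec hs with h0 | ⟨u1, m1, h1, hT1, hn1⟩ |
    ⟨u1, m1, u2, m2, a, h2, hT1, hT2, hn2, hl1, hc⟩ |
    ⟨u1, m1, u2, m2, u3, m3, a, b, c, h3, hT1, hT2, hT3, hn3, hl1, hl2, hc1, hc2, hc3⟩
  · rw [h0] at hX1s ⊢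
    rw [sum_mul_list D (fun m => D.xMat F r t1 row m) _ _ (by
      intro x hx
      simp only [List.mem_cons, List.not_mem_nil, or_false] at hx
      rw [hx]; exact hS.1)]
    simp only [List.map_cons, List.map_nil, List.sum_cons, List.sum_nil, dif_pos hS.1] at hX1s ⊢
    rw [hX1s]
    push_cast
    ring
  · rw [h1] at hX1s ⊢
    have hX1u1 := xMat_col' D r t1 u1 hT1 row
    rw [hn1] at hX1u1
    rw [sum_mul_list D (fun m => D.xMat F r t1 row m) _ _ (by
      intro x hx
      simp only [List.mem_cons, List.not_mem_nil, or_false] at hx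
      rcases hx with rfl | rfl
      · exact hS.1
      · exact hT1.1)]
    simp only [List.map_cons, List.map_nil, List.sum_cons, List.sum_nil, dif_pos hS.1,
      dif_pos hT1.1] at hX1s hX1u1 ⊢
    rw [hX1s, hX1u1]
    push_cast
    ring
  · rw [h2] at hX1s ⊢
    have hX1u1 := xMat_col' D r t1 u1 hT1 row
    have hX1u2 := xMat_col' D r t1 u2 hT2 row
    rw [hl1] at hX1u1
    rw [hn2] at hX1u2
    rw [sum_mul_list D (fun m => D.xMat F r t1 row m) _ _ (by
      intro x hx
      simp only [List.mem_cons, List.not_mem_nil, or_false] at hx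
      rcases hx with rfl | rfl | rfl
      · exact hS.1
      · exact hT1.1
      · exact hT2.1)]
    simp only [List.map_cons, List.map_nil, List.sum_cons, List.sum_nil, dif_pos hS.1,
      dif_pos hT1.1, dif_pos hT2.1] at hX1s hX1u1 hX1u2 ⊢
    rw [hX1s, hX1u1, hX1u2]
    have hc' : (m1 : F) * (a : F) = 2 * (m2 : F) := by exact_mod_cast congrArg (Int.cast : ℤ → F) hc
    push_cast
    linear_combination (dl D F row u2 * t1 * t2) * hc'
  · rw [h3] at hX1s ⊢
    have hX1u1 := xMat_col' D r t1 u1 hT1 row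
    have hX1u2 := xMat_col' D r t1 u2 hT2 row
    have hX1u3 := xMat_col' D r t1 u3 hT3 row
    rw [hl1] at hX1u1
    rw [hl2] at hX1u2
    rw [hn3] at hX1u3
    rw [sum_mul_list D (fun m => D.xMat F r t1 row m) _ _ (by
      intro x hx
      simp only [List.mem_cons, List.not_mem_nil, or_false] at hx
      rcases hx with rfl | rfl | rfl | rfl
      · exact hS.1
      · exact hT1.1
      · exact hT2.1
      · exact hT3.1)]
    simp only [List.map_cons, List.map_nil, List.sum_cons, List.sum_nil, dif_pos hS.1,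
      dif_pos hT1.1, dif_pos hT2.1, dif_pos hT3.1] at hX1s hX1u1 hX1u2 hX1u3 ⊢
    rw [hX1s, hX1u1, hX1u2, hX1u3]
    have hc1' : (m1 : F) * (a : F) = 2 * (m2 : F) := by
      exact_mod_cast congrArg (Int.cast : ℤ → F) hc1
    have hc2' : (m1 : F) * (b : F) = 3 * (m3 : F) := by
      exact_mod_cast congrArg (Int.cast : ℤ → F) hc2
    have hc3' : (m2 : F) * (c : F) = 3 * (m3 : F) := by
      exact_mod_cast congrArg (Int.cast : ℤ → F) hc3
    push_cast
    linear_combination (dl D F row u2 * t1 * t2) * hc1' + (dl D F row u3 * t1 ^ 2 * t2) * hc2' +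
      (dl D F row u3 * t1 * t2 ^ 2) * hc3'

/-- The full table check for additivity of root elements. -/
def addOK (D : ChevalleyDatum) : Bool :=
  (List.range D.nroots).all fun r =>
    decide (((List.finRange D.rank).map fun i =>
      (D.cartanSR.getD i.val #[]).getD r 0 * (D.coroot.getD r #[]).getD i.val 0).sum = 2) &&
    (List.range D.nroots).all fun s =>
      decide (s = r) || decide (s = D.negIdx.getD r 0) || shapeOK D r s

theorem addOK_spec {D : ChevalleyDatum} (h : addOK D = true) (r : ℕ) (hr : r < D.nroots) :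
    (∑ i : Fin D.rank, (D.cartanSR.getD i.val #[]).getD r 0 * (D.coroot.getD r #[]).getD i.val 0 = 2) ∧
      ∀ s, s < D.nroots → s ≠ r → s ≠ D.negIdx.getD r 0 → shapeOK D r s = true := by
  unfold addOK at h
  rw [List.all_eq_true] at h
  have h1 := h r (List.mem_range.2 hr)
  rw [Bool.and_eq_true, decide_eq_true_eq, List.all_eq_true] at h1
  refine ⟨?_, ?_⟩
  · rw [Fin.sum_univ_def]
    exact h1.1
  · intro s hs hsr hsn
    have h2 := h1.2 s (List.mem_range.2 hs)
    simp only [Bool.or_eq_true, decide_eq_true_eq] at h2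
    rcases h2 with (h2 | h2) | h2
    · exact absurd h2 hsr
    · exact absurd h2 hsn
    · exact h2

/-- Indicator that the coordinate `m` is the coroot vector `h_i`. -/
def dlL (D : ChevalleyDatum) (F : Type*) [Field F] (m : D.Idx) (i : Fin D.rank) : F :=
  match m with
  | Sum.inl i' => if i' = i then 1 else 0
  | Sum.inr _ => 0

theorem sum_mul_dlL (D : ChevalleyDatum) (g : D.Idx → F) (i : Fin D.rank) (c : F) :
    ∑ m, g m * (dlL D F m i * c) = g (Sum.inl i) * c := by
  rw [Fintype.sum_sum_type]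
  have h1 : ∑ u : Fin D.nroots, g (Sum.inr u) * (dlL D F (Sum.inr u) i * c) = 0 := by
    apply Finset.sum_eq_zero
    intro u _
    show g (Sum.inr u) * ((0 : F) * c) = 0
    ring
  rw [h1, add_zero, Finset.sum_eq_single i]
  · show g (Sum.inl i) * ((if i = i then (1 : F) else 0) * c) = _
    rw [if_pos rfl, one_mul]
  · intro b _ hb
    show g (Sum.inl b) * ((if b = i then (1 : F) else 0) * c) = 0
    rw [if_neg hb]; ring
  · intro h; exact absurd (Finset.mem_univ _) h

theorem sum_mul_dl_one (D : ChevalleyDatum) (g : D.Idx → F) (u : ℕ) (hu : u < D.nroots) :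
    ∑ m, g m * dl D F m u = g (Sum.inr ⟨u, hu⟩) := by
  have := sum_mul_dl D g u hu 1
  simpa using this

theorem xMat_col_inl (D : ChevalleyDatum) (r : Fin D.nroots) (t : F) (i : Fin D.rank)
    (row : D.Idx) :
    D.xMat F r t row (Sum.inl i) = dlL D F row i +
      dl D F row r.val * (-(((D.cartanSR.getD i.val #[]).getD r.val 0 : ℤ) : F) * t) := by
  rcases row with i' | u
  · show (if i' = i then (1 : F) else 0) = (if i' = i then (1 : F) else 0) + (0 : F) * _
    ring
  · show (if u = r then - (((D.cartanSR.getD i.val #[]).getD r.val 0 : ℤ) : F) * t else 0) =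
      (0 : F) + (if u.val = r.val then (1 : F) else 0) * _
    by_cases h : u = r
    · subst h; simp
    · have : ¬ u.val = r.val := fun h' => h (Fin.ext h')
      simp [h, this]

theorem xMat_col_self (D : ChevalleyDatum) (r : Fin D.nroots) (t : F) (row : D.Idx) :
    D.xMat F r t row (Sum.inr r) = dl D F row r.val := by
  rcases row with i' | u
  · simp [ChevalleyDatum.xMat, dl]
  · by_cases h : u = r
    · subst h; simp [ChevalleyDatum.xMat, dl]
    · have : ¬ u.val = r.val := fun h' => h (Fin.ext h')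
      simp [ChevalleyDatum.xMat, dl, h, this]

theorem xMat_col_neg (D : ChevalleyDatum) (r : Fin D.nroots) (t : F) (s : Fin D.nroots)
    (hsr : s ≠ r) (hsn : s.val = D.negIdx.getD r.val 0) (row : D.Idx) :
    D.xMat F r t row (Sum.inr s) =
      ∑ i : Fin D.rank, dlL D F row i * ((((D.coroot.getD r.val #[]).getD i.val 0 : ℤ) : F) * t) +
        dl D F row s.val + dl D F row r.val * (-(t ^ 2)) := by
  have hsn' : (s.val = (D.negIdx[r.val]?).getD 0) := by simpa using hsn
  rcases row with i' | u
  · have h1 : D.xMat F r t (Sum.inl i') (Sum.inr s) =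
        (((D.coroot.getD r.val #[]).getD i'.val 0 : ℤ) : F) * t := by
      simp [ChevalleyDatum.xMat, hsr, hsn']
    rw [h1]
    show _ = ∑ i : Fin D.rank, (if i' = i then (1 : F) else 0) * _ + (0 : F) + (0 : F) * _
    simp
  · have h1 : D.xMat F r t (Sum.inr u) (Sum.inr s) =
        if u = s then 1 else if u = r then -(t ^ 2) else 0 := by
      simp [ChevalleyDatum.xMat, hsr, hsn']
    rw [h1]
    show _ = ∑ i : Fin D.rank, (0 : F) * _ + (if u.val = s.val then (1 : F) else 0) +
      (if u.val = r.val then (1 : F) else 0) * _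
    by_cases hus : u = s
    · subst hus
      have : ¬ u.val = r.val := fun h' => hsr (Fin.ext h')
      simp [this]
    · have h2 : ¬ u.val = s.val := fun h' => hus (Fin.ext h')
      by_cases hur : u = r
      · subst hur; simp [hus, h2]
      · have h3 : ¬ u.val = r.val := fun h' => hur (Fin.ext h')
        simp [hus, h2, hur, h3]

/-- Additivity from the coroot pairing identity and the additivity on the columns `e_s`, `s ≠ ±r`. -/
theorem xMat_add_of_cols {D : ChevalleyDatum} (r : Fin D.nroots) (t1 t2 : F)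
    (hsum : ∑ i : Fin D.rank, (D.cartanSR.getD i.val #[]).getD r.val 0 *
      (D.coroot.getD r.val #[]).getD i.val 0 = 2)
    (hcol : ∀ s : Fin D.nroots, s ≠ r → s.val ≠ D.negIdx.getD r.val 0 → ∀ row : D.Idx,
      ∑ m, D.xMat F r t1 row m * D.xMat F r t2 m (Sum.inr s) =
        D.xMat F r (t1 + t2) row (Sum.inr s)) :
    D.xMat F r t1 * D.xMat F r t2 = D.xMat F r (t1 + t2) := by
  ext row col
  rw [Matrix.mul_apply]
  rcases col with i | s
  · rw [Finset.sum_congr rfl (fun m _ => by rw [xMat_col_inl D r t2 i m])]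
    simp only [mul_add, Finset.sum_add_distrib]
    rw [sum_mul_dl D _ r.val r.isLt]
    have h1 : ∑ m, D.xMat F r t1 row m * dlL D F m i = D.xMat F r t1 row (Sum.inl i) := by
      have := sum_mul_dlL D (fun m => D.xMat F r t1 row m) i 1
      simpa using this
    rw [h1, xMat_col_inl, xMat_col_inl, xMat_col_self]
    ring
  · by_cases hsr : s = r
    · subst hsr
      rw [Finset.sum_congr rfl (fun m _ => by rw [xMat_col_self D s t2 m])]
      rw [sum_mul_dl_one D _ s.val s.isLt, xMat_col_self, xMat_col_self]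
    · by_cases hsn : s.val = D.negIdx.getD r.val 0
      · rw [Finset.sum_congr rfl (fun m _ => by rw [xMat_col_neg D r t2 s hsr hsn m])]
        simp only [mul_add, Finset.sum_add_distrib, Finset.mul_sum]
        rw [Finset.sum_comm]
        rw [Finset.sum_congr rfl (fun i _ => sum_mul_dlL D (fun m => D.xMat F r t1 row m) i _)]
        rw [sum_mul_dl_one D _ s.val s.isLt, sum_mul_dl D _ r.val r.isLt]
        rw [Finset.sum_congr rfl (fun i _ => by rw [xMat_col_inl D r t1 i row])]
        rw [xMat_col_neg D r t1 s hsr hsn row, xMat_col_neg D r (t1 + t2) s hsr hsn row,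
          xMat_col_self]
        have hsumF : ∑ i : Fin D.rank, (((D.cartanSR.getD i.val #[]).getD r.val 0 : ℤ) : F) *
            (((D.coroot.getD r.val #[]).getD i.val 0 : ℤ) : F) = 2 := by
          have := congrArg (Int.cast : ℤ → F) hsum
          push_cast at this
          exact this
        have e1 : ∑ i : Fin D.rank,
            (dlL D F row i + dl D F row r.val *
              (-(((D.cartanSR.getD i.val #[]).getD r.val 0 : ℤ) : F) * t1)) *
              ((((D.coroot.getD r.val #[]).getD i.val 0 : ℤ) : F) * t2) =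
            ∑ i : Fin D.rank, dlL D F row i * ((((D.coroot.getD r.val #[]).getD i.val 0 : ℤ) : F) * t2) -
              dl D F row r.val * t1 * t2 *
                ∑ i : Fin D.rank, (((D.cartanSR.getD i.val #[]).getD r.val 0 : ℤ) : F) *
                  (((D.coroot.getD r.val #[]).getD i.val 0 : ℤ) : F) := by
          rw [Finset.mul_sum, ← Finset.sum_sub_distrib]
          apply Finset.sum_congr rfl
          intro i _
          ring
        have e2 : ∑ i : Fin D.rank,
            dlL D F row i * ((((D.coroot.getD r.val #[]).getD i.val 0 : ℤ) : F) * (t1 + t2)) =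
            ∑ i : Fin D.rank, dlL D F row i * ((((D.coroot.getD r.val #[]).getD i.val 0 : ℤ) : F) * t1) +
            ∑ i : Fin D.rank, dlL D F row i * ((((D.coroot.getD r.val #[]).getD i.val 0 : ℤ) : F) * t2) := by
          rw [← Finset.sum_add_distrib]
          apply Finset.sum_congr rfl
          intro i _
          ring
        rw [e1, e2, hsumF]
        ring
      · exact hcol s hsr hsn row

theorem xMat_add {D : ChevalleyDatum} (hOK : addOK D = true) (r : Fin D.nroots) (t1 t2 : F) :
    D.xMat F r t1 * D.xMat F r t2 = D.xMat F r (t1 + t2) := by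
  obtain ⟨hsum, hshape⟩ := addOK_spec hOK r.val r.isLt
  exact xMat_add_of_cols r t1 t2 hsum (fun s hsr hsn row =>
    col_add D r t1 t2 s hsr hsn (hshape s.val s.isLt (fun h => hsr (Fin.ext h)) hsn) row)

end Cfsg.Agent.Lib.Helper17
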