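import Cfsg.Agent.Lib.Helper17.ChevAdd

set_option autoImplicit false

namespace Cfsg.Agent.Lib.Helper17

open Cfsg Cfsg.Lie Matrix

variable {F : Type*} [Field F]

/-- All `r`-chains through `s` have length one and end outside the sources of row `r`. -/
def SimpleCol (D : ChevalleyDatum) (r s : ℕ) : Prop :=
  ∀ x ∈ chainList D r s, x.1 = 1 ∧ Tgt D r x.2.1 ∧ chainList D r x.2.1 = []

theorem col_add1 (D : ChevalleyDatum) (r : Fin D.nroots) (t1 t2 : F) (s : Fin D.nroots)
    (hsr : s ≠ r) (hsn : s.val ≠ D.negIdx.getD r.val 0) (H : SimpleCol D r.val s.val)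
    (row : D.Idx) :
    ∑ m, D.xMat F r t1 row m * D.xMat F r t2 m (Sum.inr s) =
      D.xMat F r (t1 + t2) row (Sum.inr s) := by
  have hS : Tgt D r.val s.val := ⟨s.isLt, fun h => hsr (Fin.ext h), hsn⟩
  rw [Finset.sum_congr rfl (fun m _ => by rw [xMat_col D r t2 s hsr hsn m])]
  rw [xMat_col D r (t1 + t2) s hsr hsn row]
  rw [sum_mul_list D (fun m => D.xMat F r t1 row m) _ _ (by
      intro x hx
      rcases List.mem_cons.1 hx with rfl | hx
      · exact hS.1
      · exact (H x hx).2.1.1)]
  simp only [List.map_cons, List.sum_cons, dif_pos hS.1]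
  rw [xMat_col' D r t1 s.val hS row]
  simp only [List.map_cons, List.sum_cons]
  have e2 : ((chainList D r.val s.val).map fun x =>
      (if h : x.2.1 < D.nroots then D.xMat F r t1 row (Sum.inr ⟨x.2.1, h⟩) else 0) *
        (((x.2.2 : ℤ) : F) * t2 ^ x.1)) =
      (chainList D r.val s.val).map fun x => dl D F row x.2.1 * (((x.2.2 : ℤ) : F) * t2) := by
    apply List.map_congr_left
    intro x hx
    obtain ⟨h1, hT, hn⟩ := H x hx
    rw [dif_pos hT.1, xMat_col' D r t1 x.2.1 hT row, hn, h1]
    simp
  have e1 : ((chainList D r.val s.val).map fun x =>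
      dl D F row x.2.1 * (((x.2.2 : ℤ) : F) * t1 ^ x.1)) =
      (chainList D r.val s.val).map fun x => dl D F row x.2.1 * (((x.2.2 : ℤ) : F) * t1) := by
    apply List.map_congr_left
    intro x hx
    rw [(H x hx).1, pow_one]
  have e12 : ((chainList D r.val s.val).map fun x =>
      dl D F row x.2.1 * (((x.2.2 : ℤ) : F) * (t1 + t2) ^ x.1)) =
      (chainList D r.val s.val).map fun x => (dl D F row x.2.1 * (((x.2.2 : ℤ) : F) * t1) +
        dl D F row x.2.1 * (((x.2.2 : ℤ) : F) * t2)) := by
    apply List.map_congr_left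
    intro x hx
    rw [(H x hx).1, pow_one]
    ring
  rw [e2, e1, e12, List.sum_map_add]
  simp only [pow_zero]
  push_cast
  ring

/-! ### A fast table check for simply laced data -/

/-- Bit mask of the sources `e.1` of a row of the chain table. -/
def rowMask : List (ℕ × Array (ℕ × ℤ)) → ℕ
  | [] => 0
  | e :: l => Nat.lor (Nat.shiftLeft 1 e.1) (rowMask l)

theorem testBit_rowMask (row : List (ℕ × Array (ℕ × ℤ))) (u : ℕ) :
    (rowMask row).testBit u = true ↔ ∃ e ∈ row, e.1 = u := by
  induction row with
  | nil => simp [rowMask]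
  | cons e l ih =>
    have h1 : rowMask (e :: l) = (1 <<< e.1) ||| rowMask l := rfl
    rw [h1, Nat.testBit_lor, Bool.or_eq_true, ih, Nat.one_shiftLeft, Nat.testBit_two_pow]
    simp

/-- The bit `u` of `m` is off. -/
def bitOff (m u : ℕ) : Bool := Nat.beq (Nat.land 1 (Nat.shiftRight m u)) 0

theorem testBit_of_bitOff {m u : ℕ} (h : bitOff m u = true) : m.testBit u = false := by
  unfold bitOff at h
  have h1 : Nat.land 1 (Nat.shiftRight m u) = 0 := Nat.eq_of_beq_eq_true h
  have h2 : 1 &&& (m >>> u) = 0 := h1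
  unfold Nat.testBit
  rw [h2]
  rfl

def entryOK1 (n r ng mask : ℕ) (e : ℕ × Array (ℕ × ℤ)) : Bool :=
  match e.2.toList with
  | [q] => Nat.blt q.1 n && !(Nat.beq q.1 r) && !(Nat.beq q.1 ng) && bitOff mask q.1
  | _ => false

def rowOK1 (n r ng : ℕ) (row : List (ℕ × Array (ℕ × ℤ))) : Bool :=
  row.all (entryOK1 n r ng (rowMask row))

def rowsOK1 (n : ℕ) : ℕ → List (Array (ℕ × Array (ℕ × ℤ))) → List ℕ → Bool
  | _, [], _ => true
  | _, _ :: _, [] => false
  | r, ch :: chs, ng :: ngs => rowOK1 n r ng ch.toList && rowsOK1 n (r + 1) chs ngs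

theorem rowsOK1_spec (n : ℕ) : ∀ (chs : List (Array (ℕ × Array (ℕ × ℤ)))) (r0 : ℕ) (ngs : List ℕ),
    rowsOK1 n r0 chs ngs = true → ∀ j, j < chs.length →
      rowOK1 n (r0 + j) (ngs.getD j 0) ((chs.getD j #[]).toList) = true := by
  intro chs
  induction chs with
  | nil => intro r0 ngs _ j hj; exact absurd hj (Nat.not_lt_zero _)
  | cons ch chs ih =>
    intro r0 ngs h j hj
    rcases ngs with _ | ⟨ng, ngs⟩
    · exact absurd h (by simp [rowsOK1])
    · have h' : (rowOK1 n r0 ng ch.toList && rowsOK1 n (r0 + 1) chs ngs) = true := h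
      rw [Bool.and_eq_true] at h'
      rcases j with _ | j
      · simpa using h'.1
      · have := ih (r0 + 1) ngs h'.2 j (by simpa using hj)
        have e : r0 + 1 + j = r0 + (j + 1) := by omega
        rw [e] at this
        simpa using this

theorem simpleCol_of_rowOK1 (D : ChevalleyDatum) (r s : ℕ)
    (h : rowOK1 D.nroots r (D.negIdx.getD r 0) (D.chain.getD r #[]).toList = true) :
    SimpleCol D r s := by
  intro x hx
  unfold chainList at hx
  simp only [List.mem_flatMap, List.mem_filter, List.mem_map, decide_eq_true_eq] at hx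
  obtain ⟨e, ⟨he, -⟩, q, hq, rfl⟩ := hx
  have he1 := (List.all_eq_true.1 h) e he
  unfold entryOK1 at he1
  split at he1
  · rename_i q0 heq
    rw [heq] at hq
    have hq' : q = (q0, 0) := by simpa using hq
    subst hq'
    simp only [Bool.and_eq_true, Bool.not_eq_true', Nat.blt_eq] at he1
    obtain ⟨⟨⟨h1, h2⟩, h3⟩, h4⟩ := he1
    have h2' : q0.1 ≠ r := fun hh => by rw [hh, Nat.beq_refl] at h2; exact absurd h2 (by simp)
    have h3' : q0.1 ≠ D.negIdx.getD r 0 := fun hh => by
      rw [← hh, Nat.beq_refl] at h3; exact absurd h3 (by simp)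
    refine ⟨rfl, ⟨h1, h2', h3'⟩, ?_⟩
    have h5 := testBit_of_bitOff h4
    have h6 : ¬ ∃ e' ∈ (D.chain.getD r #[]).toList, e'.1 = q0.1 := by
      rw [← testBit_rowMask, h5]; simp
    unfold chainList
    have h7 : (D.chain.getD r #[]).toList.filter (fun e' => e'.1 = q0.1) = [] := by
      rw [List.filter_eq_nil_iff]
      intro e' he' hh
      exact h6 ⟨e', he', by simpa using hh⟩
    rw [h7]
    rfl
  · exact absurd he1 (by simp)

/-- Dot product of two integer lists (truncating). -/
def dotZ : List ℤ → List ℤ → ℤ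
  | a :: as, c :: cs => a * c + dotZ as cs
  | _, _ => 0

def cartOK : List (List ℤ) → List (Array ℤ) → Bool
  | _, [] => true
  | rows, c :: cs =>
    decide (dotZ (rows.map (fun row => row.headD 0)) c.toList = 2) && cartOK (rows.map List.tail) cs

theorem cartOK_spec : ∀ (cs : List (Array ℤ)) (rows : List (List ℤ)), cartOK rows cs = true →
    ∀ j, j < cs.length → dotZ (rows.map (fun row => row.getD j 0)) ((cs.getD j #[]).toList) = 2 := by
  intro cs
  induction cs with
  | nil => intro rows _ j hj; exact absurd hj (Nat.not_lt_zero _)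
  | cons c cs ih =>
    intro rows h j hj
    have h' : (decide (dotZ (rows.map (fun row => row.headD 0)) c.toList = 2) &&
      cartOK (rows.map List.tail) cs) = true := h
    rw [Bool.and_eq_true, decide_eq_true_eq] at h'
    rcases j with _ | j
    · have e : (rows.map fun row => row.getD 0 0) = rows.map fun row => row.headD 0 := by
        apply List.map_congr_left
        intro row _
        cases row <;> rfl
      rw [e]
      simpa using h'.1
    · have := ih (rows.map List.tail) h'.2 j (by simpa using hj)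
      rw [List.map_map] at this
      have e : (rows.map ((fun row => row.getD j 0) ∘ List.tail)) =
          rows.map fun row => row.getD (j + 1) 0 := by
        apply List.map_congr_left
        intro row _
        cases row <;> rfl
      rw [e] at this
      simpa using this

theorem dotZ_eq_sum : ∀ (as cs : List ℤ),
    dotZ as cs = ∑ i ∈ Finset.range as.length, as.getD i 0 * cs.getD i 0 := by
  intro as
  induction as with
  | nil => intro cs; simp [dotZ]
  | cons a as ih =>
    intro cs
    rcases cs with _ | ⟨c, cs⟩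
    · simp [dotZ]
    · show a * c + dotZ as cs = _
      rw [ih cs, List.length_cons, Finset.sum_range_succ']
      simp [add_comm]

/-- The fast check, for data all of whose chains have length one. -/
def addOK1 (D : ChevalleyDatum) : Bool :=
  Nat.beq D.chain.size D.nroots && Nat.beq D.coroot.size D.nroots &&
    Nat.beq D.cartanSR.size D.rank &&
    rowsOK1 D.nroots 0 D.chain.toList D.negIdx.toList &&
    cartOK (D.cartanSR.toList.map Array.toList) D.coroot.toList

theorem addOK1_spec {D : ChevalleyDatum} (h : addOK1 D = true) (r : ℕ) (hr : r < D.nroots) :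
    (∑ i : Fin D.rank, (D.cartanSR.getD i.val #[]).getD r 0 * (D.coroot.getD r #[]).getD i.val 0 = 2) ∧
      ∀ s, SimpleCol D r s := by
  unfold addOK1 at h
  simp only [Bool.and_eq_true] at h
  obtain ⟨⟨⟨⟨h1, h2⟩, h3⟩, h4⟩, h5⟩ := h
  have h1' : D.chain.size = D.nroots := Nat.eq_of_beq_eq_true h1
  have h2' : D.coroot.size = D.nroots := Nat.eq_of_beq_eq_true h2
  have h3' : D.cartanSR.size = D.rank := Nat.eq_of_beq_eq_true h3
  refine ⟨?_, ?_⟩
  · have hc := cartOK_spec D.coroot.toList _ h5 r (by simpa [h2'] using hr)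
    rw [dotZ_eq_sum] at hc
    rw [← hc, Fin.sum_univ_eq_sum_range (fun i => (D.cartanSR.getD i #[]).getD r 0 *
      (D.coroot.getD r #[]).getD i 0) D.rank]
    have hlen : ((D.cartanSR.toList.map Array.toList).map fun row => row.getD r 0).length = D.rank := by
      simp [h3']
    rw [hlen]
    apply Finset.sum_congr rfl
    intro i hi
    have hi' : i < D.cartanSR.size := by rw [h3']; exact Finset.mem_range.1 hi
    congr 1
    · simp [List.getD_eq_getElem?_getD, hi']
    · simp [List.getD_eq_getElem?_getD]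
  · intro s
    apply simpleCol_of_rowOK1
    have := rowsOK1_spec D.nroots D.chain.toList 0 D.negIdx.toList h4 r (by simpa [h1'] using hr)
    simpa [List.getD_eq_getElem?_getD] using this

theorem xMat_add1 {D : ChevalleyDatum} (hOK : addOK1 D = true) (r : Fin D.nroots) (t1 t2 : F) :
    D.xMat F r t1 * D.xMat F r t2 = D.xMat F r (t1 + t2) := by
  obtain ⟨hsum, hcol⟩ := addOK1_spec hOK r.val r.isLt
  exact xMat_add_of_cols r t1 t2 hsum (fun s hsr hsn row =>
    col_add1 D r t1 t2 s hsr hsn (hcol s.val) row)

end Cfsg.Agent.Lib.Helper17
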