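/-
helper17: Steinberg's presentation of `SL₂(F)` (any field), in the form needed to construct homomorphisms out of
`SL₂(F)`: if `X, Y : F → K` are additive, `N(t) = X(t) Y(-t⁻¹) X(t)` satisfies `N(t) X(u) N(t)⁻¹ = Y(-t⁻² u)` and
`H(t) = N(t) N(-1)` is multiplicative, then there is a homomorphism `SL₂(F) → K` with `[[1,t],[0,1]] ↦ X(t)` and
`[[1,0],[t,1]] ↦ Y(t)`.  The map is defined on the two Bruhat cells and checked against right multiplication by the
generators `[[1,t],[0,1]]` and `[[0,1],[-1,0]]`.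
-/
import Mathlib
import Cfsg.Agent.Lib.Helper19.NatSL2
import Cfsg.Agent.Lib.Helper5.SLGen

set_option autoImplicit false

namespace Cfsg.Agent.Lib.Helper17.SL2Pres

open Matrix Matrix.SpecialLinearGroup
open scoped MatrixGroups
open Cfsg.Agent.Lib.Helper19.NatSL2

variable {F : Type*} [Field F] {K : Type*} [Group K]

/-- lower unitriangular matrix -/
def yy (s : F) : SL(2, F) := ⟨!![1, 0; s, 1], by simp [Matrix.det_fin_two_of]⟩

@[simp] theorem yy_coe (s : F) : (yy s : Matrix (Fin 2) (Fin 2) F) = !![1, 0; s, 1] := rfl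

section Rel

variable (X Y : F → K)

/-- `N(t) = X(t) Y(-t⁻¹) X(t)`. -/
def Nn (t : F) : K := X t * Y (-t⁻¹) * X t

/-- `H(t) = N(t) N(-1)`. -/
def Hh (t : F) : K := Nn X Y t * Nn X Y (-1)

/-- Steinberg's relations (A), (B'), (C) for a pair of maps `X, Y : F → K`. -/
structure Rel : Prop where
  hX : ∀ t u, X (t + u) = X t * X u
  hY : ∀ t u, Y (t + u) = Y t * Y u
  hB : ∀ t u, t ≠ 0 → Nn X Y t * X u * (Nn X Y t)⁻¹ = Y (-(t⁻¹ * t⁻¹ * u))
  hC : ∀ t u, t ≠ 0 → u ≠ 0 → Hh X Y (t * u) = Hh X Y t * Hh X Y u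

variable {X Y}

namespace Rel

variable (h : Rel X Y)

include h

theorem X_zero : X 0 = 1 := by
  have := h.hX 0 0
  rw [add_zero] at this
  exact (mul_eq_left (a := X 0)).mp this.symm

theorem Y_zero : Y 0 = 1 := by
  have := h.hY 0 0
  rw [add_zero] at this
  exact (mul_eq_left (a := Y 0)).mp this.symm

theorem X_neg (t : F) : X (-t) = (X t)⁻¹ := by
  apply eq_inv_of_mul_eq_one_left
  rw [← h.hX, neg_add_cancel, h.X_zero]

theorem Y_neg (t : F) : Y (-t) = (Y t)⁻¹ := by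
  apply eq_inv_of_mul_eq_one_left
  rw [← h.hY, neg_add_cancel, h.Y_zero]

theorem Nn_neg (t : F) : Nn X Y (-t) = (Nn X Y t)⁻¹ := by
  unfold Nn
  rw [_root_.mul_inv_rev, _root_.mul_inv_rev, ← h.X_neg, ← h.Y_neg, inv_neg, neg_neg, mul_assoc]


theorem Nn_one_mul_neg_one : Nn X Y 1 * Nn X Y (-1) = 1 := by
  rw [h.Nn_neg, mul_inv_cancel]

theorem Nn_neg_one_mul_one : Nn X Y (-1) * Nn X Y 1 = 1 := by
  rw [h.Nn_neg, inv_mul_cancel]

theorem Hh_one : Hh X Y 1 = 1 := h.Nn_one_mul_neg_one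

theorem conjN_X (t u : F) (ht : t ≠ 0) : Nn X Y t * X u = Y (-(t⁻¹ * t⁻¹ * u)) * Nn X Y t := by
  rw [← h.hB t u ht, inv_mul_cancel_right]

theorem conjN_Y (t v : F) (ht : t ≠ 0) : Nn X Y t * Y v = X (-(t * t * v)) * Nn X Y t := by
  have h1 := h.hB (-t) (-(t * t * v)) (neg_ne_zero.mpr ht)
  have e : -((-t)⁻¹ * (-t)⁻¹ * -(t * t * v)) = v := by
    field_simp
  rw [e, h.Nn_neg, inv_inv] at h1
  rw [← h1]
  group

theorem conjH_X (t u : F) (ht : t ≠ 0) : Hh X Y t * X u = X (t * t * u) * Hh X Y t := by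
  unfold Hh
  rw [mul_assoc, h.conjN_X (-1) u (by norm_num), ← mul_assoc, h.conjN_Y t _ ht, mul_assoc]
  congr 2
  field_simp

theorem Hh_mul_Nn (s t : F) (hs : s ≠ 0) (ht : t ≠ 0) : Hh X Y s * Nn X Y t = Nn X Y (s * t) := by
  have h1 := h.hC s t hs ht
  unfold Hh at h1 ⊢
  rw [← mul_assoc] at h1
  exact (mul_right_cancel h1).symm

theorem Nn_neg_one_cube : Nn X Y (-1) * Nn X Y (-1) * Nn X Y (-1) = Nn X Y 1 := by
  have h1 := h.hC (-1) (-1) (by norm_num) (by norm_num)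
  rw [neg_mul_neg, one_mul, h.Hh_one] at h1
  unfold Hh at h1
  have h2 : Nn X Y 1 = (Nn X Y (-1))⁻¹ := by
    rw [h.Nn_neg, inv_inv]
  rw [h2]
  apply eq_inv_of_mul_eq_one_left
  rw [h1]
  group

theorem Nn_mul_Nn_one (t : F) (ht : t ≠ 0) : Nn X Y t * Nn X Y 1 = Hh X Y (-t) := by
  have e : -t = t * (-1) := by ring
  rw [e, h.hC t (-1) ht (by norm_num), ← h.Nn_neg_one_cube]
  unfold Hh
  group

theorem X_mul_Nn_one (u : F) : X u * Nn X Y 1 = Nn X Y 1 * Y (-u) := by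
  have h1 := h.conjN_X (-1) u (by norm_num)
  have e : -((-1 : F)⁻¹ * (-1)⁻¹ * u) = -u := by
    field_simp
  rw [e] at h1
  have h2 : Nn X Y 1 = (Nn X Y (-1))⁻¹ := by
    rw [h.Nn_neg, inv_inv]
  rw [h2]
  calc X u * (Nn X Y (-1))⁻¹ = (Nn X Y (-1))⁻¹ * (Nn X Y (-1) * X u) * (Nn X Y (-1))⁻¹ := by group
    _ = (Nn X Y (-1))⁻¹ * (Y (-u) * Nn X Y (-1)) * (Nn X Y (-1))⁻¹ := by rw [h1]
    _ = (Nn X Y (-1))⁻¹ * Y (-u) := by group

theorem Y_eq (u : F) : Y (-u) = X (-u⁻¹) * Nn X Y u⁻¹ * X (-u⁻¹) := by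
  unfold Nn
  rw [inv_inv, h.X_neg]
  group

/-- The map on matrix entries. -/
noncomputable def fE (X Y : F → K) (a b c d : F) : K :=
  open Classical in
  if c = 0 then Hh X Y a * X (b / a) else X (a / c) * Nn X Y (-c⁻¹) * X (d / c)

omit h in
theorem fE_zero (a b d : F) : fE X Y a b 0 d = Hh X Y a * X (b / a) := by
  unfold fE
  rw [if_pos rfl]

omit h in
theorem fE_ne (a b c d : F) (hc : c ≠ 0) : fE X Y a b c d = X (a / c) * Nn X Y (-c⁻¹) * X (d / c) := by
  unfold fE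
  rw [if_neg hc]

theorem key_x (a b c d t : F) (hdet : a * d - b * c = 1) :
    fE X Y a (a * t + b) c (c * t + d) = fE X Y a b c d * X t := by
  by_cases hc : c = 0
  · subst hc
    have ha : a ≠ 0 := by
      intro ha
      rw [ha] at hdet
      simp at hdet
    rw [zero_mul, zero_add, fE_zero, fE_zero, mul_assoc, ← h.hX]
    congr 2
    field_simp
    ring
  · rw [fE_ne _ _ _ _ hc, fE_ne _ _ _ _ hc, mul_assoc _ _ (X t), ← h.hX]
    congr 2
    field_simp
    ring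

theorem key_w (a b c d : F) (hdet : a * d - b * c = 1) :
    fE X Y (-b) a (-d) c = fE X Y a b c d * Nn X Y 1 := by
  by_cases hc : c = 0
  · subst hc
    have ha : a ≠ 0 := by
      intro ha
      rw [ha] at hdet
      simp at hdet
    have hd : d ≠ 0 := by
      intro hd
      rw [hd] at hdet
      simp at hdet
    have had : a * d = 1 := by
      rw [mul_zero, sub_zero] at hdet
      exact hdet
    have hd' : d⁻¹ = a := by
      rw [← mul_one d⁻¹, ← had]
      field_simp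
    have hHN := h.Hh_mul_Nn a 1 ha one_ne_zero
    rw [mul_one] at hHN
    rw [fE_ne _ _ _ _ (neg_ne_zero.mpr hd), fE_zero, zero_div, h.X_zero, mul_one, h.conjH_X _ _ ha, mul_assoc,
      hHN]
    have e1 : -b / -d = a * a * (b / a) := by
      rw [← hd']
      field_simp
    have e2 : -(-d)⁻¹ = a := by
      rw [inv_neg, neg_neg, hd']
    rw [e1, e2]
  · by_cases hd : d = 0
    · subst hd
      have hbc : b * c = -1 := by
        rw [mul_zero, zero_sub] at hdet
        linear_combination -hdet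
      have hb : -b = c⁻¹ := by
        have : b = -c⁻¹ := by
          field_simp
          linear_combination hbc
        rw [this, neg_neg]
      have hci : c⁻¹ ≠ 0 := inv_ne_zero hc
      rw [neg_zero, fE_zero, fE_ne _ _ _ _ hc, zero_div, h.X_zero, mul_one, mul_assoc,
        h.Nn_mul_Nn_one _ (neg_ne_zero.mpr hci), neg_neg, hb, h.conjH_X _ _ hci]
      congr 2
      field_simp
    · have hnd : -d ≠ 0 := neg_ne_zero.mpr hd
      have hu : d / c ≠ 0 := div_ne_zero hd hc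
      have hci : c⁻¹ ≠ 0 := inv_ne_zero hc
      rw [fE_ne _ _ _ _ hnd, fE_ne _ _ _ _ hc, mul_assoc _ (X (d / c)), h.X_mul_Nn_one, h.Y_eq]
      have e0 : (d / c)⁻¹ = c / d := by
        rw [inv_div]
      rw [e0]
      have step : X (a / c) * Nn X Y (-c⁻¹) * (Nn X Y 1 * (X (-(c / d)) * Nn X Y (c / d) * X (-(c / d))))
          = X (a / c) * (Nn X Y (-c⁻¹) * Nn X Y 1) * X (-(c / d)) * Nn X Y (c / d) * X (-(c / d)) := by
        group
      rw [step, h.Nn_mul_Nn_one _ (neg_ne_zero.mpr hci), neg_neg, mul_assoc (X (a / c)), h.conjH_X _ _ hci,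
        ← mul_assoc, ← h.hX, mul_assoc _ (Hh X Y c⁻¹), h.Hh_mul_Nn _ _ hci (div_ne_zero hc hd)]
      have e1 : a / c + c⁻¹ * c⁻¹ * -(c / d) = -b / -d := by
        field_simp
        linear_combination hdet
      have e2 : c⁻¹ * (c / d) = -(-d)⁻¹ := by
        field_simp
      have e3 : -(c / d) = c / -d := by
        field_simp
      rw [e1, e2, e3]

end Rel

end Rel

section Hom

variable {X Y : F → K}

/-- The map `SL₂(F) → K` defined on the Bruhat cells. -/
noncomputable def fS (X Y : F → K) (g : SL(2, F)) : K :=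
  Rel.fE X Y (g.1 0 0) (g.1 0 1) (g.1 1 0) (g.1 1 1)

theorem det_eq (g : SL(2, F)) : g.1 0 0 * g.1 1 1 - g.1 0 1 * g.1 1 0 = 1 := by
  have := g.2
  rwa [Matrix.det_fin_two] at this

theorem fS_mul_uu (h : Rel X Y) (g : SL(2, F)) (t : F) : fS X Y (g * uu t) = fS X Y g * X t := by
  have h1 := h.key_x _ _ _ _ t (det_eq g)
  unfold fS
  rw [← h1]
  congr 1 <;> simp [Matrix.mul_apply, Fin.sum_univ_two]

theorem fS_mul_ww (h : Rel X Y) (g : SL(2, F)) : fS X Y (g * ww) = fS X Y g * Nn X Y 1 := by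
  have h1 := h.key_w _ _ _ _ (det_eq g)
  unfold fS
  rw [← h1]
  congr 1 <;> simp [Matrix.mul_apply, Fin.sum_univ_two]

theorem fS_one (h : Rel X Y) : fS X Y (1 : SL(2, F)) = 1 := by
  unfold fS
  simp [Rel.fE_zero, h.Hh_one, h.X_zero]

theorem fS_uu (h : Rel X Y) (t : F) : fS X Y (uu t) = X t := by
  unfold fS
  simp [Rel.fE_zero, h.Hh_one]

theorem fS_ww (h : Rel X Y) : fS X Y (ww : SL(2, F)) = Nn X Y 1 := by
  unfold fS
  have e : ((ww : SL(2, F)) : Matrix (Fin 2) (Fin 2) F) 1 0 ≠ 0 := by simp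
  rw [Rel.fE_ne _ _ _ _ e]
  simp [h.X_zero]

theorem fS_yy (h : Rel X Y) (t : F) : fS X Y (yy t) = Y t := by
  unfold fS
  by_cases ht : t = 0
  · subst ht
    simp [Rel.fE_zero, h.Hh_one, h.X_zero, h.Y_zero]
  · have e : ((yy t : SL(2, F)) : Matrix (Fin 2) (Fin 2) F) 1 0 ≠ 0 := by simpa using ht
    rw [Rel.fE_ne _ _ _ _ e]
    simp only [yy_coe, Matrix.of_apply, Matrix.cons_val', Matrix.cons_val_zero, Matrix.cons_val_one,
      Matrix.cons_val_fin_one]
    unfold Nn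
    rw [inv_neg, neg_neg, inv_inv, h.X_neg, one_div]
    group

/-- `SL₂(F)` is generated by the upper unitriangular matrices and the Weyl element. -/
theorem closure_uu_ww : Subgroup.closure ({g : SL(2, F) | (∃ t, g = uu t) ∨ g = ww}) = ⊤ := by
  rw [eq_top_iff, ← Cfsg.Agent.Lib.Helper5.closure_transvection_eq_top, Subgroup.closure_le]
  rintro g ⟨i, j, hij, c, rfl⟩
  have huu : ∀ t : F, uu t ∈ Subgroup.closure ({g : SL(2, F) | (∃ t, g = uu t) ∨ g = ww}) :=
    fun t => Subgroup.subset_closure (Or.inl ⟨t, rfl⟩)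
  have hww : (ww : SL(2, F)) ∈ Subgroup.closure ({g : SL(2, F) | (∃ t, g = uu t) ∨ g = ww}) :=
    Subgroup.subset_closure (Or.inr rfl)
  fin_cases i <;> fin_cases j
  · exact absurd rfl hij
  · have := transvection01_eq c
    show (transvection hij c : SL(2, F)) ∈ _
    rw [show (transvection hij c : SL(2, F)) = uu c from this]
    exact huu c
  · have := transvection10_eq c
    show (transvection hij c : SL(2, F)) ∈ _
    rw [show (transvection hij c : SL(2, F)) = ww⁻¹ * uu (-c) * ww from this]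
    exact mul_mem (mul_mem (inv_mem hww) (huu _)) hww
  · exact absurd rfl hij

theorem fS_mul (h : Rel X Y) (g k : SL(2, F)) : fS X Y (g * k) = fS X Y g * fS X Y k := by
  have hk : k ∈ Subgroup.closure ({g : SL(2, F) | (∃ t, g = uu t) ∨ g = ww}) := by
    rw [closure_uu_ww]
    exact Subgroup.mem_top k
  revert g
  induction hk using Subgroup.closure_induction with
  | mem k hk =>
    intro g
    rcases hk with ⟨t, rfl⟩ | rfl
    · rw [fS_mul_uu h, fS_uu h]
    · rw [fS_mul_ww h, fS_ww h]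
  | one =>
    intro g
    rw [mul_one, fS_one h, mul_one]
  | mul k₁ k₂ _ _ ih₁ ih₂ =>
    intro g
    rw [← mul_assoc, ih₂, ih₁, ih₂ k₁, mul_assoc]
  | inv k _ ih =>
    intro g
    have h1 := ih (g * k⁻¹)
    rw [inv_mul_cancel_right] at h1
    have h2 := ih k⁻¹
    rw [inv_mul_cancel, fS_one h] at h2
    have h3 : fS X Y k⁻¹ = (fS X Y k)⁻¹ := eq_inv_of_mul_eq_one_left h2.symm
    rw [h3, h1, mul_inv_cancel_right]

/-- **Steinberg's presentation of `SL₂(F)`**, existence of homomorphisms. -/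
theorem exists_hom (h : Rel X Y) :
    ∃ φ : SL(2, F) →* K, (∀ t, φ (uu t) = X t) ∧ (∀ t, φ (yy t) = Y t) :=
  ⟨MonoidHom.mk' (fS X Y) (fS_mul h), fun t => fS_uu h t, fun t => fS_yy h t⟩

/-- `SL₂(F)` is generated by the upper and lower unitriangular matrices. -/
theorem closure_uu_yy : Subgroup.closure ({g : SL(2, F) | (∃ t, g = uu t) ∨ ∃ t, g = yy t}) = ⊤ := by
  rw [eq_top_iff, ← Cfsg.Agent.Lib.Helper5.closure_transvection_eq_top, Subgroup.closure_le]
  rintro g ⟨i, j, hij, c, rfl⟩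
  apply Subgroup.subset_closure
  fin_cases i <;> fin_cases j
  · exact absurd rfl hij
  · left
    exact ⟨c, transvection01_eq c⟩
  · right
    refine ⟨c, ?_⟩
    apply Subtype.ext
    ext i j
    fin_cases i <;> fin_cases j <;> simp [transvection_coe, Matrix.single]
  · exact absurd rfl hij

/-- The range of a homomorphism out of `SL₂(F)` is generated by the images of the unitriangular matrices. -/
theorem range_eq (φ : SL(2, F) →* K) (hX : ∀ t, φ (uu t) = X t) (hY : ∀ t, φ (yy t) = Y t) :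
    φ.range = Subgroup.closure (Set.range X) ⊔ Subgroup.closure (Set.range Y) := by
  rw [MonoidHom.range_eq_map, ← closure_uu_yy, MonoidHom.map_closure, ← Subgroup.closure_union]
  congr 1
  ext k
  constructor
  · rintro ⟨g, hg, rfl⟩
    rcases hg with ⟨t, rfl⟩ | ⟨t, rfl⟩
    · left; exact ⟨t, (hX t).symm⟩
    · right; exact ⟨t, (hY t).symm⟩
  · rintro (⟨t, rfl⟩ | ⟨t, rfl⟩)
    · exact ⟨uu t, Or.inl ⟨t, rfl⟩, hX t⟩
    · exact ⟨yy t, Or.inr ⟨t, rfl⟩, hY t⟩

/-- Steinberg's relations for the (possibly sign-twisted) pair of root maps of a rank one situation, from the usual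
relations between `x_r`, `x_{-r}`, `n_r` and `h_r`. -/
theorem rel_of_rank_one {x x' : F → K} (hx : ∀ t u, x (t + u) = x t * x u)
    (hx' : ∀ t u, x' (t + u) = x' t * x' u) (n h : F → K)
    (hn : ∀ t, n t = x t * x' (-t⁻¹) * x t) (hh : ∀ t, h t = n t * n (-1))
    (h1 : ∀ v, n 1 * x v = x' (-v) * n 1)
    (h2 : ∀ c v, c ≠ 0 → h c * x' v = x' (c⁻¹ * c⁻¹ * v) * h c)
    (h3 : ∀ c, c ≠ 0 → n c = h c * n 1)
    (h4 : ∀ a b, a ≠ 0 → b ≠ 0 → h (a * b) = h a * h b)
    (h5 : ∀ t, t ≠ 0 → n (-t) * n 1 = h t)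
    (ε : F) (hε : ε = 1 ∨ ε = -1) : Rel (fun t => x (ε * t)) (fun t => x' (ε * t)) := by
  have hε2 : ε * ε = 1 := by
    rcases hε with rfl | rfl <;> norm_num
  have hε0 : ε ≠ 0 := by
    rcases hε with rfl | rfl <;> norm_num
  have hεi : ε⁻¹ = ε := by
    rw [inv_eq_iff_eq_inv]
    exact eq_inv_of_mul_eq_one_left hε2
  have hN : ∀ t, Nn (fun t => x (ε * t)) (fun t => x' (ε * t)) t = n (ε * t) := by
    intro t
    unfold Nn
    rw [hn]
    have e : ε * -t⁻¹ = -(ε * t)⁻¹ := by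
      rw [_root_.mul_inv, hεi]
      ring
    simp only [e]
  have hH : ∀ t, t ≠ 0 → Hh (fun t => x (ε * t)) (fun t => x' (ε * t)) t = h t := by
    intro t ht
    unfold Hh
    rw [hN, hN]
    rcases hε with rfl | rfl
    · rw [one_mul, one_mul, hh]
    · rw [neg_one_mul, neg_one_mul, neg_neg, h5 t ht]
  refine ⟨fun t u => ?_, fun t u => ?_, fun t u ht => ?_, fun t u ht hu => ?_⟩
  · show x (ε * (t + u)) = x (ε * t) * x (ε * u)
    rw [mul_add, hx]
  · show x' (ε * (t + u)) = x' (ε * t) * x' (ε * u)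
    rw [mul_add, hx']
  · rw [hN]
    show n (ε * t) * x (ε * u) * (n (ε * t))⁻¹ = x' (ε * -(t⁻¹ * t⁻¹ * u))
    have hc : ε * t ≠ 0 := mul_ne_zero hε0 ht
    rw [mul_inv_eq_iff_eq_mul]
    calc n (ε * t) * x (ε * u) = h (ε * t) * (n 1 * x (ε * u)) := by rw [h3 _ hc, mul_assoc]
      _ = h (ε * t) * x' (-(ε * u)) * n 1 := by rw [h1, mul_assoc]
      _ = x' ((ε * t)⁻¹ * (ε * t)⁻¹ * -(ε * u)) * (h (ε * t) * n 1) := by rw [h2 _ _ hc, mul_assoc]
      _ = x' (ε * -(t⁻¹ * t⁻¹ * u)) * n (ε * t) := by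
        rw [← h3 _ hc]
        congr 2
        rw [_root_.mul_inv, hεi]
        linear_combination (-(t⁻¹ * t⁻¹ * u * ε)) * hε2
  · rw [hH _ (mul_ne_zero ht hu), hH _ ht, hH _ hu, h4 _ _ ht hu]

end Hom

end Cfsg.Agent.Lib.Helper17.SL2Pres
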