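/-
helper17: for every root `r` of a Chevalley group of type G₂, B₂, D₄, F₄, E₆, E₇, E₈ there is a homomorphism
`SL₂(F) → GL` with `[[1,t],[0,1]] ↦ x_r(t)` and `[[1,0],[t,1]] ↦ x_{-r}(t)`.  Steinberg's relations are checked for the
fundamental roots (with helper18's relations between `x_{±p}`, `n_p`, `h_p`), then transported to all roots by
conjugation with words in the `n_p`.
-/
import Cfsg.Agent.Lib.Helper17.SL2Pres
import Cfsg.Agent.Lib.Helper18.HMul
import Cfsg.Agent.S1032
import Cfsg.Agent.S1095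

set_option autoImplicit false

namespace Cfsg.Agent.Lib.Helper17.ChevSL2

open Cfsg.Lie Cfsg.Agent.Lib.Helper18 Cfsg.Agent.Lib.Helper17.SL2Pres
open Cfsg.Agent.Lib.Helper19.NatSL2
open scoped MatrixGroups

universe u

variable {F : Type u} [Field F] {D : ChevalleyDatum}

/-- The sign of `n_p x_p(t) n_p⁻¹ = x_{-p}(-t)`, read from the check `npOK`. -/
theorem eta_simple (C : ChevData.{u} D) (hOK : C.T.npOK C.tabs C.simples = true) (i : ℕ) (hi : i < D.rank) :
    C.eta i (D.simple i) = -1 := by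
  have hl := C.T.rank_eq D C.hag
  unfold FastDatum.npOK at hOK
  rw [List.all_eq_true] at hOK
  have h0 := hOK i (List.mem_range.mpr (hl ▸ hi))
  rw [← C.hsimple i hi, Bool.and_eq_true] at h0
  obtain ⟨-, hS⟩ := h0
  unfold FastDatum.npSigns at hS
  simp only [Bool.and_eq_true, beq_iff_eq, List.all_eq_true, List.mem_range] at hS
  exact hS.1.1.2

theorem exists_chevData_npOK (D : ChevalleyDatum)
    (hD : D ∈ [chevG2, chevB2, chevD4, chevF4, chevE6, chevE7, chevE8]) :
    ∃ C : ChevData.{u} D, C.T.npOK C.tabs C.simples = true := by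
  simp only [List.mem_cons, List.not_mem_nil, or_false] at hD
  rcases hD with rfl | rfl | rfl | rfl | rfl | rfl | rfl
  · exact ⟨chevData_G2, Cfsg.Agent.S1095.npOK_G2⟩
  · exact ⟨chevData_B2, Cfsg.Agent.S1095.npOK_B2⟩
  · exact ⟨chevData_D4, Cfsg.Agent.S1095.npOK_D4⟩
  · exact ⟨chevData_F4, Cfsg.Agent.S1095.npOK_F4⟩
  · exact ⟨chevData_E6, Cfsg.Agent.S1095.npOK_E6⟩
  · exact ⟨chevData_E7, Cfsg.Agent.S1095.npOK_E7⟩
  · exact ⟨chevData_E8, Cfsg.Agent.S1095.npOK_E8⟩

set_option maxRecDepth 100000 in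
theorem cartan_simple (D : ChevalleyDatum)
    (hD : D ∈ [chevG2, chevB2, chevD4, chevF4, chevE6, chevE7, chevE8]) (i : ℕ) (hi : i < D.rank) :
    D.cartan i (D.simple i) = 2 := by
  simp only [List.mem_cons, List.not_mem_nil, or_false] at hD
  rcases hD with rfl | rfl | rfl | rfl | rfl | rfl | rfl
  all_goals (revert i; decide)

theorem cartan_neg_simple (D : ChevalleyDatum)
    (hD : D ∈ [chevG2, chevB2, chevD4, chevF4, chevE6, chevE7, chevE8]) (C : ChevData.{u} D) (i : ℕ)
    (hi : i < D.rank) : D.cartan i (D.neg (D.simple i)) = -2 := by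
  have h1 := (Cfsg.Agent.S1032.cartan_facts D hD i hi).1 (D.simple i) (C.simple_lt i hi)
  unfold ChevalleyDatum.neg
  rw [h1, cartan_simple D hD i hi]

/-- `n_r(t)` as an element of the general linear group. -/
noncomputable def nGt (hD : D ∈ [chevG2, chevB2, chevD4, chevF4, chevE6, chevE7, chevE8]) (r : ℕ) (t : F) :
    GL D.Idx F := xG hD r t * xG hD (D.neg r) (-t⁻¹) * xG hD r t

theorem coe_nGt (hD : D ∈ [chevG2, chevB2, chevD4, chevF4, chevE6, chevE7, chevE8]) (r : ℕ) (t : F) :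
    ((nGt hD r t : GL D.Idx F) : Matrix D.Idx D.Idx F) = D.nMat F r t := by
  unfold nGt
  rw [Units.val_mul, Units.val_mul, coe_xG, coe_xG, nMat_eq]

theorem coe_nGt_mul (hD : D ∈ [chevG2, chevB2, chevD4, chevF4, chevE6, chevE7, chevE8]) (r : ℕ) (t : F) :
    ((nGt hD r t : GL D.Idx F) : Matrix D.Idx D.Idx F) * ((nGt hD r (-1) : GL D.Idx F) : Matrix D.Idx D.Idx F) =
      D.hMat F r t := by
  rw [coe_nGt, coe_nGt, hMat_eq_nMat_mul']

/-- Steinberg's relations for the (sign-twisted) root maps of a fundamental root. -/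
theorem rel_simple (hD : D ∈ [chevG2, chevB2, chevD4, chevF4, chevE6, chevE7, chevE8]) (C : ChevData.{u} D)
    (hOK : C.T.npOK C.tabs C.simples = true) (i : ℕ) (hi : i < D.rank) (ε : F) (hε : ε = 1 ∨ ε = -1) :
    Rel (fun t : F => xG hD (D.simple i) (ε * t)) (fun t : F => xG hD (D.neg (D.simple i)) (ε * t)) := by
  have hp : D.simple i < D.nroots := C.simple_lt i hi
  have hp' : D.neg (D.simple i) < D.nroots := neg_lt_nroots D hD _ hp
  refine rel_of_rank_one (x := fun t : F => xG hD (D.simple i) t)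
    (x' := fun t : F => xG hD (D.neg (D.simple i)) t) (fun t u => (xG_mul hD _ t u).symm)
    (fun t u => (xG_mul hD _ t u).symm) (fun t => nGt hD (D.simple i) t)
    (fun t => nGt hD (D.simple i) t * nGt hD (D.simple i) (-1)) (fun t => rfl) (fun t => rfl) ?_ ?_ ?_ ?_ ?_ ε hε
  · -- n_p x_p(v) = x_{-p}(-v) n_p
    intro v
    apply Units.ext
    rw [Units.val_mul, Units.val_mul, coe_nGt, coe_xG, coe_xG]
    have h1 := C.n_mul_x i (D.simple i) hi hp v
    rw [w_simple C i hi, ← C.neg_eq _ hp, eta_simple C hOK i hi] at h1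
    rw [h1]
    congr 2
    push_cast
    ring
  · -- h_p(c) x_{-p}(v) = x_{-p}(c⁻² v) h_p(c)
    intro c v hc
    apply Units.ext
    simp only [Units.val_mul]
    rw [coe_nGt_mul, coe_xG, coe_xG]
    have h1 := Cfsg.Agent.S1032.result D hD i (D.neg (D.simple i)) hi hp' c hc v
    rw [cartan_neg_simple D hD C i hi] at h1
    rw [h1]
    congr 2
    rw [zpow_neg, zpow_ofNat, pow_two, _root_.mul_inv]
  · -- n_p(c) = h_p(c) n_p(1)
    intro c _
    apply Units.ext
    simp only [Units.val_mul]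
    rw [coe_nGt_mul, coe_nGt, coe_nGt]
    exact nMat_eq_hMat_mul hD _ hp c
  · -- h_p multiplicative
    intro a b ha hb
    apply Units.ext
    simp only [Units.val_mul]
    rw [coe_nGt_mul, coe_nGt_mul, coe_nGt_mul]
    exact hMat_mul hD _ hp a b ha hb
  · -- n_p(-t) n_p(1) = h_p(t)
    intro t ht
    apply Units.ext
    simp only [Units.val_mul]
    rw [coe_nGt_mul, coe_nGt, coe_nGt]
    exact nMat_neg_mul_nMat_one hD _ hp t ht

/-- The homomorphism `SL₂(F) → GL` attached to an arbitrary root. -/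
theorem exists_hom_root (D : ChevalleyDatum)
    (hD : D ∈ [chevG2, chevB2, chevD4, chevF4, chevE6, chevE7, chevE8]) (r : ℕ) (hr : r < D.nroots) :
    ∃ φ : SL(2, F) →* GL D.Idx F, (∀ t, φ (uu t) = xG hD r t) ∧ (∀ t, φ (yy t) = xG hD (D.neg r) t) := by
  obtain ⟨C, hOK⟩ := exists_chevData_npOK.{u} D hD
  obtain ⟨ws, j, hws, hj, hwr⟩ := C.hword r hr
  rw [← C.hsimple j hj] at hwr
  have hp : D.simple j < D.nroots := C.simple_lt j hj
  have hp' : D.neg (D.simple j) < D.nroots := neg_lt_nroots D hD _ hp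
  have hε : ((wordSignF C.tabs ws (D.simple j) : ℤ) : F) = 1 ∨ ((wordSignF C.tabs ws (D.simple j) : ℤ) : F) = -1 := by
    rcases wordSignF_cases C.tabs ws (D.simple j) with h | h <;> rw [h]
    · left; norm_num
    · right; norm_num
  have hε2 : ((wordSignF C.tabs ws (D.simple j) : ℤ) : F) * ((wordSignF C.tabs ws (D.simple j) : ℤ) : F) = 1 := by
    rcases hε with h | h <;> rw [h] <;> norm_num
  obtain ⟨φ, hφ1, hφ2⟩ := exists_hom (rel_simple hD C hOK j hj _ hε)
  refine ⟨(MulAut.conj (nW hD C ws)).toMonoidHom.comp φ, fun t => ?_, fun t => ?_⟩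
  · rw [MonoidHom.comp_apply, hφ1]
    show MulAut.conj (nW hD C ws) (xG hD (D.simple j) _) = _
    rw [MulAut.conj_apply, nW_conj_xG hD C ws hws _ hp, hwr, ← mul_assoc, hε2, one_mul]
  · rw [MonoidHom.comp_apply, hφ2]
    show MulAut.conj (nW hD C ws) (xG hD (D.neg (D.simple j)) _) = _
    rw [MulAut.conj_apply, nW_conj_xG hD C ws hws _ hp', C.neg_eq _ hp, wordRootF_neg C ws hws _ hp,
      wordSignF_neg C ws hws _ hp, hwr, ← C.neg_eq _ hr, ← mul_assoc, hε2, one_mul]

end Cfsg.Agent.Lib.Helper17.ChevSL2
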