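import Mathlib.GroupTheory.Sylow
import Mathlib.GroupTheory.PGroup
import Mathlib.GroupTheory.Subgroup.Centralizer
import Mathlib.GroupTheory.SpecificGroups.Cyclic

set_option autoImplicit false

namespace Cfsg.Agent.Lib.Helper17

open Subgroup

/-- If an element `x` of prime order `ℓ` normalizes a subgroup `P`, then `|P| ≡ |C_P(x)|` modulo `ℓ`. -/
theorem card_modEq_card_centralizer_of_normalizes {G : Type*} [Group G] [Finite G] {ℓ : ℕ}
    [hl : Fact ℓ.Prime] (P : Subgroup G) (x : G) (hx : x ∈ normalizer (P : Set G))
    (hox : orderOf x = ℓ) :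
    Nat.card P ≡ Nat.card ((centralizer ({x} : Set G)).subgroupOf P) [MOD ℓ] := by
  let x' : normalizer (P : Set G) := ⟨x, hx⟩
  let A : Subgroup (normalizer (P : Set G)) := zpowers x'
  have hox' : orderOf x' = ℓ := by
    rw [← hox]
    exact (Subgroup.orderOf_mk x hx)
  have hA : IsPGroup ℓ A := IsPGroup.of_card (n := 1) (by rw [Nat.card_zpowers, pow_one, hox'])
  have hmod := hA.card_modEq_card_fixedPoints (α := P)
  have hfix : (MulAction.fixedPoints A P) =
      (((centralizer ({x} : Set G)).subgroupOf P : Subgroup P) : Set P) := by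
    ext g
    rw [MulAction.mem_fixedPoints, SetLike.mem_coe, mem_subgroupOf, mem_centralizer_iff]
    constructor
    · intro h y hy
      rw [Set.mem_singleton_iff] at hy
      subst hy
      have h1 := h ⟨x', mem_zpowers x'⟩
      have h2 : (y * (g : G) * y⁻¹ : G) = g := congrArg Subtype.val h1
      calc y * (g : G) = (y * (g : G) * y⁻¹) * y := by group
        _ = (g : G) * y := by rw [h2]
    · intro h a
      obtain ⟨k, hk⟩ := mem_zpowers_iff.1 a.2
      have hc : Commute x (g : G) := h x rfl
      have hc' : Commute (x ^ k) (g : G) := hc.zpow_left k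
      apply Subtype.ext
      show ((a : normalizer (P : Set G)) : G) * (g : G) * ((a : normalizer (P : Set G)) : G)⁻¹ = g
      have ha : ((a : normalizer (P : Set G)) : G) = x ^ k := by
        rw [← hk]
        simp [x']
      rw [ha, hc'.eq, mul_assoc, mul_inv_cancel, mul_one]
  rw [hfix] at hmod
  exact hmod

end Cfsg.Agent.Lib.Helper17
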