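import Mathlib
import Cfsg.Agent.S3224

/-!
# A 2-group with an involution whose centralizer has order 4 has a cyclic maximal subgroup

(helper17)  Extracted from the proof of S3224 (helper54): if `S` is a 2-group of order `≠ 4` with an
involution `x` such that `|C_S(x)| = 4`, then `S` has a cyclic subgroup `⟨a⟩` of index 2 not
containing `x`, and the unique involution of `⟨a⟩` is central in `S`.
-/

set_option autoImplicit false

namespace Cfsg.Agent.Lib.Helper17

open Cfsg

/-- A 2-group of order `≠ 4` with an involution `x` with `|C_S(x)| = 4` has a cyclic subgroup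
`⟨a⟩` of index 2 with `x ∉ ⟨a⟩`; the order of `a` is `2 ^ (m + 1)` with `1 ≤ m`. -/
theorem exists_cyclic_index_two_of_centralizer_four {S : Type*} [Group S] [Finite S]
    (hS : IsPGroup 2 S) (x : S) (hx : orderOf x = 2)
    (hC : Nat.card ↥(Subgroup.centralizer ({x} : Set S)) = 4) (h4 : Nat.card S ≠ 4) :
    ∃ (a : S) (m : ℕ), 1 ≤ m ∧ orderOf a = 2 ^ (m + 1) ∧ (Subgroup.zpowers a).index = 2 ∧
      x ∉ Subgroup.zpowers a := by
  have : Fact (Nat.Prime 2) := ⟨Nat.prime_two⟩
  obtain ⟨n, hn⟩ := IsPGroup.iff_card.mp hS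
  have hx1 : x ≠ 1 := by
    rintro rfl
    rw [orderOf_one] at hx
    omega
  have hxx : x * x = 1 := by
    rw [← pow_two, ← hx]; exact pow_orderOf_eq_one x
  have hmemC : ∀ g, g ∈ Subgroup.centralizer ({x} : Set S) ↔ g * x = x * g := by
    intro g
    rw [Subgroup.mem_centralizer_iff]
    constructor
    · intro h; exact (h x rfl).symm
    · intro h y hy
      rw [Set.mem_singleton_iff] at hy
      subst hy
      exact h.symm
  have hdvd : 4 ∣ 2 ^ n := by
    rw [← hn, ← hC]; exact Subgroup.card_subgroup_dvd_card _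
  have hn3 : 3 ≤ n := by
    by_contra hlt
    rw [not_le] at hlt
    interval_cases n
    · omega
    · omega
    · exact h4 (by rw [hn]; norm_num)
  have hna : ∃ u v : S, u * v ≠ v * u := by
    by_contra hab
    push Not at hab
    apply h4
    have htop : Subgroup.centralizer ({x} : Set S) = ⊤ := by
      rw [eq_top_iff]
      intro g _
      rw [hmemC]
      exact hab g x
    rw [← hC, htop, Subgroup.card_top]
  have hnc : ¬ IsMulCommutative S := by
    intro h
    obtain ⟨u, v, huv⟩ := hna
    exact huv (h.is_comm.comm u v)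
  have hidx_gt : 2 < (commutator S).index :=
    Cfsg.Agent.Lib.Helper73.two_lt_index_of_forall_index_two_le hS hnc _
      (fun K hK => Cfsg.Agent.S3224.commutator_le_of_index_two K hK)
  have hidx_le : (commutator S).index ≤ 4 := by
    have h1 := Subgroup.card_eq_card_quotient_mul_card_subgroup
      (Subgroup.centralizer ({x} : Set S))
    have h2 := Cfsg.Agent.S3224.card_quotient_centralizer_le x
    have h3 := Subgroup.index_mul_card (commutator S)
    rw [hC] at h1
    have hpos : 0 < Nat.card (commutator S) := Nat.card_pos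
    by_contra hcon
    rw [not_le] at hcon
    nlinarith
  have hidx : (commutator S).index = 4 := by
    have hd : (commutator S).index ∣ 2 ^ n := hn ▸ Subgroup.index_dvd_card (commutator S)
    obtain ⟨k, -, hk⟩ := (Nat.dvd_prime_pow Nat.prime_two).mp hd
    rw [hk] at hidx_gt hidx_le ⊢
    have hk2 : k = 2 := by
      rcases k with _ | _ | _ | k
      · simp at hidx_gt
      · simp at hidx_gt
      · rfl
      · exfalso
        have : 2 ^ 3 ≤ 2 ^ (k + 1 + 1 + 1) := Nat.pow_le_pow_right (by norm_num) (by omega)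
        omega
    rw [hk2]; norm_num
  obtain ⟨a, ha⟩ :=
    Cfsg.Agent.Lib.Helper73.exists_orderOf_of_index_commutator_four n S hn hna hidx
  obtain ⟨m, rfl⟩ : ∃ m, n = m + 2 := ⟨n - 2, by omega⟩
  have hoa : orderOf a = 2 ^ (m + 1) := by
    have h1 : 2 * orderOf a = 2 * 2 ^ (m + 1) := by rw [ha]; ring
    omega
  have hm1 : 1 ≤ m := by omega
  have hcardA : Nat.card (Subgroup.zpowers a) = 2 ^ (m + 1) := by rw [Nat.card_zpowers, hoa]
  have hidxA : (Subgroup.zpowers a).index = 2 := by
    have h1 := Subgroup.index_mul_card (Subgroup.zpowers a)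
    rw [hcardA, hn] at h1
    have h2 : 2 ^ (m + 2) = 2 * 2 ^ (m + 1) := by ring
    rw [h2] at h1
    exact Nat.eq_of_mul_eq_mul_right (pow_pos (by norm_num) _) h1
  have hAn : (Subgroup.zpowers a).Normal := Subgroup.normal_of_index_eq_two hidxA
  have hAcomm : ∀ u ∈ Subgroup.zpowers a, ∀ v ∈ Subgroup.zpowers a, u * v = v * u := by
    intro u hu v hv
    obtain ⟨i, rfl⟩ := Subgroup.mem_zpowers_iff.mp hu
    obtain ⟨j, rfl⟩ := Subgroup.mem_zpowers_iff.mp hv
    exact ((Commute.refl a).zpow_zpow i j).eq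
  have hxA : x ∉ Subgroup.zpowers a := by
    intro hxA
    have hAC : Subgroup.zpowers a ≤ Subgroup.centralizer ({x} : Set S) :=
      fun u hu => (hmemC u).mpr (hAcomm u hu x hxA)
    have hle := Subgroup.card_le_of_le hAC
    rw [hcardA, hC] at hle
    have hm : m = 1 := by
      by_contra hne
      have h2 : 2 ^ 3 ≤ 2 ^ (m + 1) := Nat.pow_le_pow_right (by norm_num) (by omega)
      omega
    subst hm
    have hAeqC : Subgroup.zpowers a = Subgroup.centralizer ({x} : Set S) :=
      Subgroup.eq_of_le_of_card_ge hAC (by rw [hcardA, hC]; norm_num)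
    have hne : Subgroup.zpowers a ≠ ⊤ := by
      intro h
      rw [h, Subgroup.index_top] at hidxA
      omega
    obtain ⟨g, hg⟩ : ∃ g, g ∉ Subgroup.zpowers a := by
      by_contra h
      push Not at h
      exact hne (eq_top_iff.mpr fun g _ => h g)
    have h1 : x = a ^ 2 ^ 1 := Cfsg.Agent.S3224.eq_pow_of_sq_eq_one hoa hxA hxx hx1
    have hgx : g * x * g⁻¹ ∈ Subgroup.zpowers a := hAn.conj_mem x hxA g
    have h2 : g * x * g⁻¹ = a ^ 2 ^ 1 := by
      apply Cfsg.Agent.S3224.eq_pow_of_sq_eq_one hoa hgx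
      · calc g * x * g⁻¹ * (g * x * g⁻¹) = g * (x * x) * g⁻¹ := by group
          _ = 1 := by rw [hxx]; group
      · intro h
        apply hx1
        calc x = g⁻¹ * (g * x * g⁻¹) * g := by group
          _ = 1 := by rw [h]; group
    apply hg
    rw [hAeqC, hmemC]
    calc g * x = (g * x * g⁻¹) * g := by group
      _ = x * g := by rw [h2, ← h1]
  exact ⟨a, m, hm1, hoa, hidxA, hxA⟩

/-- The unique involution of a normal cyclic 2-subgroup `⟨a⟩` is central: any involution `y ∈ ⟨a⟩`
commutes with every element of the group when `⟨a⟩` is normal. -/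
theorem involution_of_normal_cyclic_central {S : Type*} [Group S] [Finite S] {a y : S} {m : ℕ}
    (ha : orderOf a = 2 ^ (m + 1)) (hn : (Subgroup.zpowers a).Normal)
    (hy : y ∈ Subgroup.zpowers a) (hy2 : y * y = 1) (hy1 : y ≠ 1) (s : S) :
    s * y * s⁻¹ = y := by
  have h1 : y = a ^ 2 ^ m := Cfsg.Agent.S3224.eq_pow_of_sq_eq_one ha hy hy2 hy1
  have hsy : s * y * s⁻¹ ∈ Subgroup.zpowers a := hn.conj_mem y hy s
  have h2 : s * y * s⁻¹ = a ^ 2 ^ m := by
    apply Cfsg.Agent.S3224.eq_pow_of_sq_eq_one ha hsy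
    · calc s * y * s⁻¹ * (s * y * s⁻¹) = s * (y * y) * s⁻¹ := by group
        _ = 1 := by rw [hy2]; group
    · intro h
      apply hy1
      calc y = s⁻¹ * (s * y * s⁻¹) * s := by group
        _ = 1 := by rw [h]; group
  rw [h2, ← h1]

end Cfsg.Agent.Lib.Helper17
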