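import Mathlib
import Cfsg.Agent.Lib.Helper17.Burnside

set_option autoImplicit false

/-!
# The focal subgroup theorem in simple groups

In a non-abelian simple group every Sylow subgroup equals its focal subgroup.  For an abelian Sylow
subgroup `Q` this means that `Q` is generated by the elements `q * (n * q * n⁻¹)⁻¹` with `q ∈ Q`
and `n ∈ N(Q)` (Burnside's fusion lemma).
-/

namespace Cfsg.Agent.Lib.Helper17

open Subgroup
open scoped commutatorElement

theorem commutator_eq_top_of_simple {G : Type*} [Group G] [IsSimpleGroup G]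
    (hG : ¬ IsMulCommutative G) : commutator G = ⊤ := by
  have hn : (commutator G).Normal := by
    rw [commutator_def]
    exact Subgroup.commutator_normal ⊤ ⊤
  rcases hn.eq_bot_or_eq_top with h0 | h0
  · exfalso
    apply hG
    rw [commutator_def, Subgroup.commutator_eq_bot_iff_le_centralizer] at h0
    refine ⟨⟨fun a b => ?_⟩⟩
    have ha : a ∈ centralizer ((⊤ : Subgroup G) : Set G) := h0 (Subgroup.mem_top a)
    exact (ha b (Subgroup.mem_top b)).symm
  · exact h0

theorem focalSubgroup_eq_of_simple {G : Type*} [Group G] [Finite G] [IsSimpleGroup G]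
    (hG : ¬ IsMulCommutative G) {p : ℕ} [Fact p.Prime] (Q : Sylow p G) :
    (Q : Subgroup G).focalSubgroup = (Q : Subgroup G) := by
  rw [← Subgroup.commutator_inf_eq_focalSubgroup Q, commutator_eq_top_of_simple hG, top_inf_eq]

/-- If `Q` is an abelian Sylow subgroup of a non-abelian simple group and `R` contains all
`q * (n * q * n⁻¹)⁻¹` with `q ∈ Q`, `n ∈ N(Q)`, then `Q ≤ R`. -/
theorem sylow_le_of_forall_mem {G : Type*} [Group G] [Finite G] [IsSimpleGroup G]
    (hG : ¬ IsMulCommutative G) {p : ℕ} [Fact p.Prime] (Q : Sylow p G)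
    (hQ : ∀ a b : G, a ∈ (Q : Subgroup G) → b ∈ (Q : Subgroup G) → a * b = b * a)
    (R : Subgroup G)
    (hR : ∀ q ∈ (Q : Subgroup G), ∀ n ∈ normalizer ((Q : Subgroup G) : Set G),
      q * (n * q * n⁻¹)⁻¹ ∈ R) : (Q : Subgroup G) ≤ R := by
  have hcomm : IsMulCommutative Q := ⟨⟨fun a b => Subtype.ext (hQ a b a.2 b.2)⟩⟩
  rw [← focalSubgroup_eq_of_simple hG Q, Subgroup.focalSubgroup_def, Subgroup.closure_le]
  rintro g ⟨hgQ, x, hxQ, u, rfl⟩
  -- `⁅x, u⁆ = x * (u * x⁻¹ * u⁻¹)`
  have h1 : ⁅x, u⁆ = x * (u * x⁻¹ * u⁻¹) := by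
    rw [commutatorElement_def]; group
  have hx' : x⁻¹ ∈ (Q : Subgroup G) := (Q : Subgroup G).inv_mem hxQ
  have h2 : u * x⁻¹ * u⁻¹ ∈ (Q : Subgroup G) := by
    have : u * x⁻¹ * u⁻¹ = x⁻¹ * ⁅x, u⁆ := by rw [h1]; group
    rw [this]
    exact (Q : Subgroup G).mul_mem hx' hgQ
  have h3 : (u⁻¹)⁻¹ * x⁻¹ * u⁻¹ ∈ Q := by
    rw [inv_inv]
    exact h2
  obtain ⟨n, hn, hn'⟩ := Q.conj_eq_normalizer_conj_of_mem x⁻¹ u⁻¹ hx' h3
  rw [inv_inv] at hn'
  have h4 := hR x hxQ n⁻¹ ((normalizer ((Q : Subgroup G) : Set G)).inv_mem hn)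
  have h5 : x * (n⁻¹ * x * n⁻¹⁻¹)⁻¹ = ⁅x, u⁆ := by
    rw [h1, hn']; group
  show ⁅x, u⁆ ∈ R
  rw [← h5]
  exact h4

/-- If `Q` is a Sylow subgroup of a non-abelian simple group such that every element of
odd order of `N(Q)` centralizes `Q`, then some non-identity element of `Q` is inverted by an
element of `N(Q)`. -/
theorem exists_inverted_of_odd_mem_centralizer {G : Type*} [Group G] [Finite G] [IsSimpleGroup G]
    (hG : ¬ IsMulCommutative G) {p : ℕ} [Fact p.Prime] (Q : Sylow p G) (hdvd : p ∣ Nat.card G)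
    (hodd : ∀ n ∈ normalizer ((Q : Subgroup G) : Set G), Odd (orderOf n) →
      n ∈ centralizer ((Q : Subgroup G) : Set G)) :
    ∃ n ∈ normalizer ((Q : Subgroup G) : Set G), ∃ r ∈ (Q : Subgroup G),
      r ≠ 1 ∧ n * r * n⁻¹ = r⁻¹ := by
  set N := normalizer ((Q : Subgroup G) : Set G) with hN
  set C := centralizer ((Q : Subgroup G) : Set G) with hC
  obtain ⟨n₀, hn₀N, hn₀C⟩ := SetLike.not_le_iff_exists.1
    (not_normalizer_le_centralizer_of_simple hG Q hdvd)
  have key : ∀ k : ℕ, ∀ n ∈ N, n ∉ C → orderOf n = k → ∃ n' ∈ N, n' ∉ C ∧ n' * n' ∈ C := by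
    intro k
    induction k using Nat.strong_induction_on with
    | _ k ih =>
      intro n hnN hnC hk
      by_cases h2 : n * n ∈ C
      · exact ⟨n, hnN, hnC, h2⟩
      · refine ih (orderOf (n * n)) ?_ (n * n) (N.mul_mem hnN hnN) h2 rfl
        have hpos : 0 < orderOf n := orderOf_pos n
        have heven : Even (orderOf n) := by
          rcases Nat.even_or_odd (orderOf n) with he | ho
          · exact he
          · exact absurd (hodd n hnN ho) hnC
        have h3 : orderOf (n * n) = orderOf n / Nat.gcd (orderOf n) 2 := by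
          rw [← pow_two]
          exact orderOf_pow n
        have h4 : Nat.gcd (orderOf n) 2 = 2 := Nat.gcd_eq_right heven.two_dvd
        rw [h3, h4, ← hk]
        omega
  obtain ⟨n, hnN, hnC, hnn⟩ := key _ n₀ hn₀N hn₀C rfl
  have hex : ∃ q ∈ (Q : Subgroup G), n * q * n⁻¹ ≠ q := by
    by_contra hall
    push Not at hall
    apply hnC
    rw [hC, Subgroup.mem_centralizer_iff]
    intro q hq
    have := hall q hq
    calc q * n = (n * q * n⁻¹) * n := by rw [this]
      _ = n * q := by group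
  obtain ⟨q, hq, hnq⟩ := hex
  have hconj : n * q * n⁻¹ ∈ (Q : Subgroup G) := (Subgroup.mem_normalizer_iff.1 hnN q).1 hq
  refine ⟨n, hnN, q * (n * q * n⁻¹)⁻¹, (Q : Subgroup G).mul_mem hq ((Q : Subgroup G).inv_mem hconj),
    ?_, ?_⟩
  · intro h1
    apply hnq
    have := eq_of_mul_inv_eq_one h1
    exact this.symm
  · have h5 : (n * n) * q * (n * n)⁻¹ = q := by
      rw [hC, Subgroup.mem_centralizer_iff] at hnn
      have := hnn q hq
      calc (n * n) * q * (n * n)⁻¹ = (q * (n * n)) * (n * n)⁻¹ := by rw [this]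
        _ = q := by group
    have h6 : n * (q * (n * q * n⁻¹)⁻¹) * n⁻¹ = (n * q * n⁻¹) * ((n * n) * q * (n * n)⁻¹)⁻¹ := by
      group
    rw [h6, h5, mul_inv_rev, inv_inv]

end Cfsg.Agent.Lib.Helper17
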