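import Mathlib
import Cfsg.Agent.Lib.Helper17.CosetAction
import Cfsg.Agent.Lib.Helper17.SylowCard

set_option autoImplicit false

namespace Cfsg.Agent.Lib.Helper17

open MulAction Subgroup

section inverted

variable {G : Type*} [Group G] [Finite G] {p : ℕ} [hp : Fact p.Prime] (P : Sylow p G)
  (hP : Nat.card (P : Subgroup G) = p)

include hP

/-- The number of elements of order `p` inverted by `t` is at most `(p - 1)` times the number
of cosets of `N(P)` fixed by `t`, when `|P| = p`. -/
theorem card_inverted_le (t : G) :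
    Nat.card {d : G // orderOf d = p ∧ t * d * t⁻¹ = d⁻¹} ≤
      (p - 1) * Nat.card (fixedBy (G ⧸ normalizer ((P : Subgroup G) : Set G)) t) := by
  classical
  have := Fintype.ofFinite G
  set N := normalizer ((P : Subgroup G) : Set G) with hN
  have hex : ∀ d : G, orderOf d = p → ∃ g : G, g⁻¹ * d * g ∈ (P : Subgroup G) := by
    intro d hd
    obtain ⟨Q, hQ⟩ := exists_sylow_mem_of_orderOf_eq d hd
    obtain ⟨g, hg⟩ := MulAction.exists_smul_eq G P Q
    refine ⟨g, ?_⟩
    rw [← mem_smul_sylow_iff, hg]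
    exact hQ
  let γ : G → G := fun d => if h : orderOf d = p then Classical.choose (hex d h) else 1
  have hγ : ∀ d : G, orderOf d = p → (γ d)⁻¹ * d * γ d ∈ (P : Subgroup G) := by
    intro d hd
    simp only [γ, dif_pos hd]
    exact Classical.choose_spec (hex d hd)
  have hne1 : ∀ d g : G, orderOf d = p → g⁻¹ * d * g ≠ 1 := by
    intro d g hdp h1
    have h2 : d = 1 := by
      have : d = g * (g⁻¹ * d * g) * g⁻¹ := by group
      rw [this, h1]; group
    rw [h2, orderOf_one] at hdp
    exact hp.out.one_lt.ne hdp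
  let φ : G → G ⧸ N := fun d => ((γ d : G) : G ⧸ N)
  set D : Finset G := Finset.univ.filter (fun d : G => orderOf d = p ∧ t * d * t⁻¹ = d⁻¹) with hD
  have hcardD : Nat.card {d : G // orderOf d = p ∧ t * d * t⁻¹ = d⁻¹} = D.card := by
    rw [Nat.card_eq_fintype_card, Fintype.card_subtype]
  rw [hcardD]
  set U : Finset G := Finset.univ.filter (fun u : G => u ∈ (P : Subgroup G) ∧ u ≠ 1) with hU
  have hUcard : U.card = p - 1 := by
    have h1 : (Finset.univ.filter (fun u : G => u ∈ (P : Subgroup G))).card = p := by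
      have h0 : Nat.card (P : Subgroup G) =
          (Finset.univ.filter (fun u : G => u ∈ (P : Subgroup G))).card := by
        rw [Nat.card_eq_fintype_card, Fintype.card_subtype]
      rw [← h0, hP]
    have h2 : U = (Finset.univ.filter (fun u : G => u ∈ (P : Subgroup G))).erase 1 := by
      ext u
      simp only [hU, Finset.mem_filter, Finset.mem_univ, true_and, Finset.mem_erase]
      tauto
    rw [h2, Finset.card_erase_of_mem, h1]
    simp only [Finset.mem_filter, Finset.mem_univ, true_and]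
    exact one_mem _
  have hfib : ∀ a ∈ D.image φ, (D.filter (fun d => φ d = a)).card ≤ p - 1 := by
    intro a ha
    obtain ⟨d₀, hd₀, rfl⟩ := Finset.mem_image.1 ha
    rw [← hUcard]
    have hsub : D.filter (fun d => φ d = φ d₀) ⊆ U.image (fun u => γ d₀ * u * (γ d₀)⁻¹) := by
      intro d hd
      rw [Finset.mem_filter] at hd
      obtain ⟨hdD, hdφ⟩ := hd
      rw [hD, Finset.mem_filter] at hdD
      have hdp := hdD.2.1
      have hu := hγ d hdp
      have hn : (γ d₀)⁻¹ * γ d ∈ N := QuotientGroup.eq.1 hdφ.symm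
      rw [Finset.mem_image]
      refine ⟨(γ d₀)⁻¹ * d * γ d₀, ?_, by group⟩
      rw [hU, Finset.mem_filter]
      refine ⟨Finset.mem_univ _, ?_, hne1 d _ hdp⟩
      have h3 := (Subgroup.mem_normalizer_iff.1 hn ((γ d)⁻¹ * d * γ d)).1 hu
      have h4 : (γ d₀)⁻¹ * γ d * ((γ d)⁻¹ * d * γ d) * ((γ d₀)⁻¹ * γ d)⁻¹ =
          (γ d₀)⁻¹ * d * γ d₀ := by group
      rwa [h4] at h3
    exact (Finset.card_le_card hsub).trans Finset.card_image_le
  have h1 := Finset.card_le_mul_card_image D (p - 1) hfib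
  refine h1.trans ?_
  apply Nat.mul_le_mul_left
  have hsub : ((D.image φ : Finset (G ⧸ N)) : Set (G ⧸ N)) ⊆ fixedBy (G ⧸ N) t := by
    intro a ha
    rw [Finset.mem_coe, Finset.mem_image] at ha
    obtain ⟨d, hd, rfl⟩ := ha
    rw [hD, Finset.mem_filter] at hd
    obtain ⟨-, hdp, hdt⟩ := hd
    show ((γ d : G) : G ⧸ N) ∈ fixedBy (G ⧸ N) t
    rw [mk_mem_fixedBy_iff]
    have hu := hγ d hdp
    apply mem_normalizer_of_mem_smul_of_card_prime P hP (z := ((γ d)⁻¹ * d * γ d)⁻¹) (inv_mem hu)
    · intro h1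
      rw [inv_eq_one] at h1
      exact hne1 d _ hdp h1
    · have h4 : ((γ d)⁻¹ * t * γ d)⁻¹ * ((γ d)⁻¹ * d * γ d)⁻¹ * ((γ d)⁻¹ * t * γ d) =
          (γ d)⁻¹ * (t⁻¹ * d⁻¹ * t) * γ d := by group
      rw [h4]
      have h5 : t⁻¹ * d⁻¹ * t = d := by
        rw [← hdt]; group
      rw [h5]
      exact hu
  rw [Nat.card_coe_set_eq]
  have := Set.ncard_le_ncard hsub (Set.toFinite _)
  rwa [Set.ncard_coe_finset] at this

end inverted

/-- Brauer–Fowler type bound: the involutions `s ≠ t` with `t * s` of even order are controlled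
by the involutions `z ≠ t` of `C(t)` and the involutions of their centralizers. -/
theorem card_even_prod_le {G : Type*} [Group G] [Finite G] (t : G) (ht : orderOf t = 2) (B : ℕ)
    (hB : ∀ z : G, orderOf z = 2 → z * t = t * z → z ≠ t →
      Nat.card {s : G // s * z = z * s ∧ orderOf s = 2 ∧ s ≠ z ∧ s ≠ t} ≤ B) :
    Nat.card {s : G // orderOf s = 2 ∧ s ≠ t ∧ Even (orderOf (t * s))} ≤
      B * Nat.card {z : G // z * t = t * z ∧ orderOf z = 2 ∧ z ≠ t} := by
  classical
  have := Fintype.ofFinite G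
  set F : Finset G :=
    Finset.univ.filter (fun s : G => orderOf s = 2 ∧ s ≠ t ∧ Even (orderOf (t * s))) with hF
  set Z : Finset G :=
    Finset.univ.filter (fun z : G => z * t = t * z ∧ orderOf z = 2 ∧ z ≠ t) with hZ
  have hFc : Nat.card {s : G // orderOf s = 2 ∧ s ≠ t ∧ Even (orderOf (t * s))} = F.card := by
    rw [Nat.card_eq_fintype_card, Fintype.card_subtype]
  have hZc : Nat.card {z : G // z * t = t * z ∧ orderOf z = 2 ∧ z ≠ t} = Z.card := by
    rw [Nat.card_eq_fintype_card, Fintype.card_subtype]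
  rw [hFc, hZc]
  let ζ : G → G := fun s => (t * s) ^ (orderOf (t * s) / 2)
  have ht2 : t * t = 1 := by
    have := pow_orderOf_eq_one t
    rwa [ht, pow_two] at this
  have htinv : t⁻¹ = t := inv_eq_of_mul_eq_one_right ht2
  have key : ∀ s ∈ F, ζ s * t = t * ζ s ∧ orderOf (ζ s) = 2 ∧ ζ s ≠ t ∧ s * ζ s = ζ s * s ∧
      s ≠ ζ s := by
    intro s hs
    rw [hF, Finset.mem_filter] at hs
    obtain ⟨-, hs2, hst, hev⟩ := hs
    have hss : s * s = 1 := by
      have := pow_orderOf_eq_one s
      rwa [hs2, pow_two] at this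
    have hsinv : s⁻¹ = s := inv_eq_of_mul_eq_one_right hss
    set d := t * s with hd
    have hdinv : d⁻¹ = s * t := by rw [hd, mul_inv_rev, hsinv, htinv]
    have hpos : 0 < orderOf d := orderOf_pos d
    have h2dvd : 2 ∣ orderOf d := hev.two_dvd
    have hz2 : orderOf (ζ s) = 2 := orderOf_pow_orderOf_div hpos.ne' h2dvd
    have hzz : ζ s * ζ s = 1 := by
      have := pow_orderOf_eq_one (ζ s)
      rwa [hz2, pow_two] at this
    have hzinv : (ζ s)⁻¹ = ζ s := inv_eq_of_mul_eq_one_right hzz
    have hct : t * d * t⁻¹ = d⁻¹ := by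
      rw [hdinv, hd, htinv]
      calc t * (t * s) * t = (t * t) * s * t := by group
        _ = s * t := by rw [ht2, one_mul]
    have hcs : s * d * s⁻¹ = d⁻¹ := by
      rw [hdinv, hd, hsinv]
      calc s * (t * s) * s = s * t * (s * s) := by group
        _ = s * t := by rw [hss, mul_one]
    have hctz : t * ζ s * t⁻¹ = ζ s := by
      show t * d ^ (orderOf d / 2) * t⁻¹ = ζ s
      rw [← conj_pow, hct, inv_pow]
      exact hzinv
    have hcsz : s * ζ s * s⁻¹ = ζ s := by
      show s * d ^ (orderOf d / 2) * s⁻¹ = ζ s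
      rw [← conj_pow, hcs, inv_pow]
      exact hzinv
    have hzd : ζ s * d = d * ζ s := by
      show d ^ (orderOf d / 2) * d = d * d ^ (orderOf d / 2)
      rw [← pow_succ, ← pow_succ']
    -- if `d` is inverted and centralized by the same element, then `d = ζ s`
    have hd2 : d⁻¹ = d → ζ s = d := by
      intro hinv
      have hdd : d ^ 2 = 1 := by
        rw [pow_two]
        calc d * d = d⁻¹ * d := by rw [hinv]
          _ = 1 := inv_mul_cancel d
      have h1 : orderOf d ∣ 2 := orderOf_dvd_of_pow_eq_one hdd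
      have h2 : orderOf d = 2 := Nat.dvd_antisymm h1 h2dvd
      show d ^ (orderOf d / 2) = d
      rw [h2]
      norm_num
    refine ⟨?_, hz2, ?_, ?_, ?_⟩
    · calc ζ s * t = (t * ζ s * t⁻¹) * t := by rw [hctz]
        _ = t * ζ s := by group
    · intro hzt
      have h1 : t * d * t⁻¹ = d := by
        rw [← hzt]
        calc ζ s * d * (ζ s)⁻¹ = d * ζ s * (ζ s)⁻¹ := by rw [hzd]
          _ = d := by group
      have h2 : d⁻¹ = d := by rw [← hct, h1]
      have h3 := hd2 h2
      rw [hzt, hd] at h3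
      have : s = 1 := by
        have : t * s = t * 1 := by rw [mul_one]; exact h3.symm
        exact mul_left_cancel this
      rw [this, orderOf_one] at hs2
      omega
    · calc s * ζ s = (s * ζ s * s⁻¹) * s := by group
        _ = ζ s * s := by rw [hcsz]
    · intro hzs
      have h1 : s * d * s⁻¹ = d := by
        rw [hzs]
        calc ζ s * d * (ζ s)⁻¹ = d * ζ s * (ζ s)⁻¹ := by rw [hzd]
          _ = d := by group
      have h2 : d⁻¹ = d := by rw [← hcs, h1]
      have h3 := hd2 h2
      rw [← hzs, hd] at h3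
      have : t = 1 := by
        have : t * s = 1 * s := by rw [one_mul]; exact h3.symm
        exact mul_right_cancel this
      rw [this, orderOf_one] at ht
      omega
  have himg : F.image ζ ⊆ Z := by
    intro a ha
    obtain ⟨s, hs, rfl⟩ := Finset.mem_image.1 ha
    obtain ⟨h1, h2, h3, -, -⟩ := key s hs
    rw [hZ, Finset.mem_filter]
    exact ⟨Finset.mem_univ _, h1, h2, h3⟩
  have hfib : ∀ a ∈ F.image ζ, (F.filter (fun s => ζ s = a)).card ≤ B := by
    intro a ha
    obtain ⟨s₀, hs₀, rfl⟩ := Finset.mem_image.1 ha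
    obtain ⟨h1, h2, h3, -, -⟩ := key s₀ hs₀
    have hb := hB (ζ s₀) h2 h1 h3
    rw [Nat.card_eq_fintype_card, Fintype.card_subtype] at hb
    refine (Finset.card_le_card ?_).trans hb
    intro s hs
    rw [Finset.mem_filter] at hs
    obtain ⟨hsF, hsz⟩ := hs
    obtain ⟨-, -, -, k4, k5⟩ := key s hsF
    have hsF' := hsF
    rw [hF, Finset.mem_filter] at hsF'
    rw [Finset.mem_filter]
    refine ⟨Finset.mem_univ _, ?_, hsF'.2.1, ?_, hsF'.2.2.1⟩
    · rw [← hsz]; exact k4
    · rw [← hsz]; exact k5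
  calc F.card ≤ B * (F.image ζ).card := Finset.card_le_mul_card_image F B hfib
    _ ≤ B * Z.card := Nat.mul_le_mul_left _ (Finset.card_le_card himg)

/-- A group of order `96` has at most `64` solutions of `s ^ 2 = 1`. -/
theorem card_sq_eq_one_le_of_card_96 {H : Type*} [Group H] [Finite H] (h : Nat.card H = 96) :
    Nat.card {s : H // s ^ 2 = 1} ≤ 64 := by
  classical
  have := Fintype.ofFinite H
  have hp2 : Fact (Nat.Prime 2) := ⟨by norm_num⟩
  have hp3 : Fact (Nat.Prime 3) := ⟨by norm_num⟩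
  obtain ⟨S⟩ := (Sylow.nonempty : Nonempty (Sylow 2 H))
  have hcard : Nat.card H = 2 ^ 5 * 3 := by rw [h]; norm_num
  have hS : Nat.card (S : Subgroup H) = 32 := by
    rw [sylow_card_of_card_eq S hcard (by norm_num)]; norm_num
  have hSidx : (S : Subgroup H).index = 3 := sylow_index_of_card_eq S hcard (by norm_num)
  set K : Subgroup H := (S : Subgroup H).normalCore with hK
  have hKS : K ≤ (S : Subgroup H) := Subgroup.normalCore_le _
  have hKn : K.Normal := Subgroup.normalCore_normal _
  have hKidx : K.index ∣ 6 := by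
    have h1 : K.index ∣ ((S : Subgroup H).index).factorial := by
      rw [hK, Subgroup.normalCore_eq_ker, Subgroup.index_ker, Subgroup.index_eq_card,
        ← Nat.card_perm]
      exact Subgroup.card_subgroup_dvd_card (MulAction.toPermHom H (H ⧸ (S : Subgroup H))).range
    rw [hSidx] at h1
    exact h1
  have hKcard : 16 ≤ Nat.card K := by
    have h1 := K.card_mul_index
    rw [h] at h1
    have h2 : K.index ≤ 6 := Nat.le_of_dvd (by norm_num) hKidx
    nlinarith
  obtain ⟨x, hx⟩ := exists_prime_orderOf_dvd_card' (G := H) 3 (by rw [h]; norm_num)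
  have hx3 : x ^ 3 = 1 := by rw [← hx]; exact pow_orderOf_eq_one x
  have hxK : x ∉ K := by
    intro hxK
    have h1 : orderOf x ∣ Nat.card (S : Subgroup H) := Subgroup.orderOf_dvd_natCard _ (hKS hxK)
    rw [hx, hS] at h1
    revert h1
    decide
  have hx4 : x ^ 4 = x := by
    calc x ^ 4 = x ^ 3 * x := by rw [← pow_succ]
      _ = x := by rw [hx3, one_mul]
  set A : Finset H := Finset.univ.filter (fun s : H => s ^ 2 = 1) with hA
  set Kf : Finset H := Finset.univ.filter (fun k : H => k ∈ K) with hKf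
  have hKfc : Kf.card = Nat.card K := by
    rw [Nat.card_eq_fintype_card, Fintype.card_subtype]
  set B₁ : Finset H := Kf.image (fun k => x * k) with hB₁
  set B₂ : Finset H := Kf.image (fun k => x ^ 2 * k) with hB₂
  have hB₁c : B₁.card = Nat.card K := by
    rw [hB₁, Finset.card_image_of_injective _ (mul_right_injective x), hKfc]
  have hB₂c : B₂.card = Nat.card K := by
    rw [hB₂, Finset.card_image_of_injective _ (mul_right_injective (x ^ 2)), hKfc]
  have hmemK : ∀ k : H, k ∈ Kf ↔ k ∈ K := by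
    intro k
    rw [hKf, Finset.mem_filter]
    simp
  have hAB₁ : Disjoint A B₁ := by
    rw [Finset.disjoint_left]
    intro s hsA hsB
    rw [hA, Finset.mem_filter] at hsA
    obtain ⟨k, hk, rfl⟩ := Finset.mem_image.1 hsB
    rw [hmemK] at hk
    have h1 : (x * k) ^ 2 = x ^ 2 * ((x⁻¹ * k * x) * k) := by
      rw [pow_two, pow_two]; group
    have h2 : (x⁻¹ * k * x) * k ∈ K := by
      apply K.mul_mem _ hk
      have := hKn.conj_mem k hk x⁻¹
      simpa using this
    have h3 : x ^ 2 ∈ K := by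
      have h4 : x ^ 2 = ((x⁻¹ * k * x) * k)⁻¹ := by
        rw [eq_inv_iff_mul_eq_one, ← h1]
        exact hsA.2
      rw [h4]
      exact K.inv_mem h2
    apply hxK
    rw [← hx4]
    have : x ^ 4 = x ^ 2 * x ^ 2 := by group
    rw [this]
    exact K.mul_mem h3 h3
  have hAB₂ : Disjoint A B₂ := by
    rw [Finset.disjoint_left]
    intro s hsA hsB
    rw [hA, Finset.mem_filter] at hsA
    obtain ⟨k, hk, rfl⟩ := Finset.mem_image.1 hsB
    rw [hmemK] at hk
    have h1 : (x ^ 2 * k) ^ 2 = x ^ 4 * (((x ^ 2)⁻¹ * k * x ^ 2) * k) := by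
      rw [pow_two (x ^ 2 * k)]; group
    have h2 : ((x ^ 2)⁻¹ * k * x ^ 2) * k ∈ K := by
      apply K.mul_mem _ hk
      have := hKn.conj_mem k hk (x ^ 2)⁻¹
      simpa using this
    apply hxK
    have h4 : x ^ 4 = (((x ^ 2)⁻¹ * k * x ^ 2) * k)⁻¹ := by
      rw [eq_inv_iff_mul_eq_one, ← h1]
      exact hsA.2
    rw [← hx4, h4]
    exact K.inv_mem h2
  have hB₁B₂ : Disjoint B₁ B₂ := by
    rw [Finset.disjoint_left]
    intro s hs1 hs2
    obtain ⟨k, hk, rfl⟩ := Finset.mem_image.1 hs1
    obtain ⟨k', hk', hkk⟩ := Finset.mem_image.1 hs2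
    rw [hmemK] at hk hk'
    apply hxK
    have h1 : x = k * k'⁻¹ := by
      have h2 : x ^ 2 * k' = x * k := hkk
      have h3 : x * k' = k := by
        have : x * (x * k') = x * k := by rw [← h2, pow_two, mul_assoc]
        exact mul_left_cancel this
      rw [← h3]; group
    rw [h1]
    exact K.mul_mem hk (K.inv_mem hk')
  have hunion : (A ∪ B₁ ∪ B₂).card = A.card + B₁.card + B₂.card := by
    rw [Finset.card_union_of_disjoint, Finset.card_union_of_disjoint hAB₁]
    rw [Finset.disjoint_union_left]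
    exact ⟨hAB₂, hB₁B₂⟩
  have hle : (A ∪ B₁ ∪ B₂).card ≤ 96 := by
    have := Finset.card_le_univ (A ∪ B₁ ∪ B₂)
    rwa [← Nat.card_eq_fintype_card, h] at this
  have hAc : Nat.card {s : H // s ^ 2 = 1} = A.card := by
    rw [Nat.card_eq_fintype_card, Fintype.card_subtype]
  rw [hAc]
  rw [hunion, hB₁c, hB₂c] at hle
  omega

end Cfsg.Agent.Lib.Helper17
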