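import Mathlib
import Cfsg.Agent.S0111
import Cfsg.Agent.Lib.Helper17.CycMax
import Cfsg.Agent.Lib.Helper17.Misc

/-!
# Thompson transfer for an involution with `|C_P(x)| = 4`

(helper17)  If `P` is a Sylow 2-subgroup of `G` of order `≠ 4`, `x ∈ P` an involution with
`|C_P(x)| = 4` and `8 ∤ |C_G(x)|`, then `G` has a normal subgroup of index 2 not containing `x`.
-/

set_option autoImplicit false

namespace Cfsg.Agent.Lib.Helper17

open Cfsg

theorem card_centralizer_conj_eq {G : Type*} [Group G] [Finite G] (g x : G) :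
    Nat.card ↥(Subgroup.centralizer ({g * x * g⁻¹} : Set G)) =
      Nat.card ↥(Subgroup.centralizer ({x} : Set G)) := by
  have hmap : (Subgroup.centralizer ({x} : Set G)).map (MulAut.conj g).toMonoidHom =
      Subgroup.centralizer ({g * x * g⁻¹} : Set G) := by
    ext y
    simp only [Subgroup.mem_map, MulEquiv.coe_toMonoidHom, MulAut.conj_apply,
      Subgroup.mem_centralizer_iff, Set.mem_singleton_iff, forall_eq]
    constructor
    · rintro ⟨c, hc, rfl⟩
      calc g * x * g⁻¹ * (g * c * g⁻¹) = g * (x * c) * g⁻¹ := by group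
        _ = g * (c * x) * g⁻¹ := by rw [hc]
        _ = g * c * g⁻¹ * (g * x * g⁻¹) := by group
    · intro hy
      refine ⟨g⁻¹ * y * g, ?_, by group⟩
      calc x * (g⁻¹ * y * g) = g⁻¹ * ((g * x * g⁻¹) * y) * g := by group
        _ = g⁻¹ * (y * (g * x * g⁻¹)) * g := by rw [hy]
        _ = g⁻¹ * y * g * x := by group
  rw [← hmap]
  exact Subgroup.card_map_of_injective (MulAut.conj g).injective

theorem exists_normal_index_two_of_centralizer_four {G : Type*} [Group G] [Finite G]
    (P : Sylow 2 G) (x : G) (hx : orderOf x = 2) (hxP : x ∈ (P : Subgroup G))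
    (hCP : Nat.card ↥((P : Subgroup G) ⊓ Subgroup.centralizer ({x} : Set G)) = 4)
    (h4 : Nat.card (P : Subgroup G) ≠ 4)
    (hC : ¬ 8 ∣ Nat.card ↥(Subgroup.centralizer ({x} : Set G))) :
    ∃ M : Subgroup G, M.Normal ∧ M.index = 2 ∧ x ∉ M := by
  have : Fact (Nat.Prime 2) := ⟨Nat.prime_two⟩
  set x' : ↥(P : Subgroup G) := ⟨x, hxP⟩ with hx'
  have hox' : orderOf x' = 2 := by
    have h1 : orderOf (x' : G) = orderOf x' := Subgroup.orderOf_coe x'
    rw [← h1]
    exact hx
  have hmapC : (Subgroup.centralizer ({x'} : Set ↥(P : Subgroup G))).map (P : Subgroup G).subtype =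
      (P : Subgroup G) ⊓ Subgroup.centralizer ({x} : Set G) := by
    ext y
    simp only [Subgroup.mem_map, Subgroup.mem_inf, Subgroup.mem_centralizer_iff,
      Set.mem_singleton_iff, forall_eq, Subgroup.coe_subtype]
    constructor
    · rintro ⟨c, hc, rfl⟩
      refine ⟨c.2, ?_⟩
      have := congrArg Subtype.val hc
      simpa [hx'] using this
    · rintro ⟨hyP, hy⟩
      refine ⟨⟨y, hyP⟩, ?_, rfl⟩
      apply Subtype.ext
      simpa [hx'] using hy
  have hC' : Nat.card ↥(Subgroup.centralizer ({x'} : Set ↥(P : Subgroup G))) = 4 := by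
    rw [← hCP, ← hmapC]
    exact (Subgroup.card_map_of_injective (P : Subgroup G).subtype_injective).symm
  have hPg : IsPGroup 2 ↥(P : Subgroup G) := P.isPGroup'
  obtain ⟨a, m, hm1, hoa, hidx, hxa⟩ :=
    exists_cyclic_index_two_of_centralizer_four hPg x' hox' hC' h4
  set Q : Subgroup G := (Subgroup.zpowers a).map (P : Subgroup G).subtype with hQ
  have hQP : Q ≤ (P : Subgroup G) := Subgroup.map_subtype_le _
  have hQsub : Q.subgroupOf (P : Subgroup G) = Subgroup.zpowers a := by
    rw [hQ, Subgroup.subgroupOf]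
    exact Subgroup.comap_map_eq_self_of_injective (P : Subgroup G).subtype_injective _
  have hQi : Q.relIndex (P : Subgroup G) = 2 := by
    rw [Subgroup.relIndex, hQsub, hidx]
  have hxQ : x ∉ Q := by
    intro h
    obtain ⟨b, hb, hbx⟩ := Subgroup.mem_map.mp h
    apply hxa
    have : b = x' := Subtype.ext hbx
    rwa [← this]
  rcases Cfsg.Agent.S0111.result P Q hQP hQi x hx hxP hxQ with h | ⟨g, hg⟩
  · exact h
  · exfalso
    obtain ⟨b, hb, hbx⟩ := Subgroup.mem_map.mp hg
    have hbx' : (b : G) = g * x * g⁻¹ := hbx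
    have hxx : x * x = 1 := by
      rw [← pow_two, ← hx]; exact pow_orderOf_eq_one x
    have hx1 : x ≠ 1 := by
      rintro rfl
      rw [orderOf_one] at hx
      omega
    have hbb : b * b = 1 := by
      apply Subtype.ext
      rw [Subgroup.coe_mul, hbx', Subgroup.coe_one]
      calc g * x * g⁻¹ * (g * x * g⁻¹) = g * (x * x) * g⁻¹ := by group
        _ = 1 := by rw [hxx]; group
    have hb1 : b ≠ 1 := by
      intro h
      apply hx1
      have h1 : g * x * g⁻¹ = 1 := by rw [← hbx', h, Subgroup.coe_one]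
      calc x = g⁻¹ * (g * x * g⁻¹) * g := by group
        _ = 1 := by rw [h1]; group
    have hn : (Subgroup.zpowers a).Normal := Subgroup.normal_of_index_eq_two hidx
    have hcent : (P : Subgroup G) ≤ Subgroup.centralizer ({g * x * g⁻¹} : Set G) := by
      intro s hs
      rw [Subgroup.mem_centralizer_iff]
      intro y hy
      rw [Set.mem_singleton_iff] at hy
      subst hy
      have h1 := involution_of_normal_cyclic_central hoa hn hb hbb hb1 ⟨s, hs⟩
      have h2 := congrArg Subtype.val h1
      simp only [Subgroup.coe_mul, Subgroup.coe_inv] at h2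
      rw [hbx'] at h2
      calc g * x * g⁻¹ * s = (s * (g * x * g⁻¹) * s⁻¹) * s := by rw [h2]
        _ = s * (g * x * g⁻¹) := by group
    have hdvd : Nat.card (P : Subgroup G) ∣ Nat.card ↥(Subgroup.centralizer ({x} : Set G)) := by
      rw [← card_centralizer_conj_eq g x]
      exact Subgroup.card_dvd_of_le hcent
    obtain ⟨n, hn2⟩ := IsPGroup.iff_card.mp hPg
    have h4dvd : 4 ∣ Nat.card (P : Subgroup G) := by
      rw [← hCP]
      exact Subgroup.card_dvd_of_le inf_le_left
    have hn3 : 3 ≤ n := by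
      by_contra hlt
      rw [not_le] at hlt
      rw [hn2] at h4dvd h4
      interval_cases n
      · norm_num at h4dvd
      · norm_num at h4dvd
      · exact h4 (by norm_num)
    apply hC
    refine dvd_trans ?_ hdvd
    rw [hn2]
    exact pow_dvd_pow 2 hn3

end Cfsg.Agent.Lib.Helper17
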