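import Mathlib
import Cfsg.Agent.S0948
import Cfsg.Agent.S4479
import Cfsg.Agent.Lib.Helper75.PQRDegree
import Cfsg.Agent.Lib.Helper17.TransferFour
import Cfsg.Agent.Lib.Helper17.Burnside
import Cfsg.Agent.Lib.Helper17.SimpleIndex
import Cfsg.Agent.Lib.Helper17.SylowCard

/-!
# Simple groups with an involution whose centralizer has a normal Klein four Sylow 2-subgroup

(helper17)  If `G` is simple, `x` an involution, `S₀ ≤ C_G(x)` a Klein four-group of odd index in
`C_G(x)` and normal in `C_G(x)`, then `|G| = 60`.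

Proof: `x ∈ S₀`; Thompson transfer forces `S₀` to be a Sylow 2-subgroup of `G`; `C_G(x) = C_G(S₀)`;
Brauer's order formula for Klein four Sylow 2-subgroups (landed S0948 and S4479) gives
`|G| < 18 |C_G(x)|`, and counting Sylow 2-subgroups gives `|G| = 60`.
-/

set_option autoImplicit false

namespace Cfsg.Agent.Lib.Helper17

open Cfsg

theorem card_mul_relIndex_of_le {G : Type*} [Group G] {H K : Subgroup G} (h : H ≤ K) :
    Nat.card H * H.relIndex K = Nat.card K := by
  have := Subgroup.relIndex_mul_relIndex ⊥ H K bot_le h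
  rwa [Subgroup.relIndex_bot_left, Subgroup.relIndex_bot_left] at this

/-- Local analysis: `x ∈ S₀` and `C_G(S₀) = C_G(x)`. -/
theorem klein_normal_in_centralizer {G : Type*} [Group G] [Finite G] (x : G) (hx : orderOf x = 2)
    (S₀ : Subgroup G) (hle : S₀ ≤ Subgroup.centralizer ({x} : Set G)) (hK : IsKleinFour ↥S₀)
    (hodd : ¬ 2 ∣ S₀.relIndex (Subgroup.centralizer ({x} : Set G)))
    (hn : (S₀.subgroupOf (Subgroup.centralizer ({x} : Set G))).Normal) :
    x ∈ S₀ ∧ Subgroup.centralizer (S₀ : Set G) = Subgroup.centralizer ({x} : Set G) := by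
  have hxx : x * x = 1 := by rw [← pow_two, ← hx]; exact pow_orderOf_eq_one x
  have hx1 : x ≠ 1 := by
    rintro rfl
    rw [orderOf_one] at hx
    omega
  have hxC : x ∈ Subgroup.centralizer ({x} : Set G) := by
    rw [Subgroup.mem_centralizer_iff]
    intro y hy
    rw [Set.mem_singleton_iff] at hy
    rw [hy]
  have hpow : ∀ c ∈ Subgroup.centralizer ({x} : Set G),
      c ^ (S₀.relIndex (Subgroup.centralizer ({x} : Set G))) ∈ S₀ := by
    intro c hc
    have h1 := Subgroup.pow_index_mem (S₀.subgroupOf (Subgroup.centralizer ({x} : Set G)))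
      (⟨c, hc⟩ : ↥(Subgroup.centralizer ({x} : Set G)))
    rw [Subgroup.mem_subgroupOf] at h1
    simpa [Subgroup.relIndex] using h1
  obtain ⟨j, hj⟩ : ∃ j, S₀.relIndex (Subgroup.centralizer ({x} : Set G)) = 2 * j + 1 := by
    have : Odd (S₀.relIndex (Subgroup.centralizer ({x} : Set G))) :=
      Nat.not_even_iff_odd.mp (fun h => hodd (even_iff_two_dvd.mp h))
    exact this
  have hxS : x ∈ S₀ := by
    have h1 := hpow x hxC
    rw [hj, pow_succ, pow_mul, pow_two, hxx, one_pow, one_mul] at h1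
    exact h1
  refine ⟨hxS, ?_⟩
  have hconj : ∀ c ∈ Subgroup.centralizer ({x} : Set G), ∀ u ∈ S₀, c * u * c⁻¹ ∈ S₀ := by
    intro c hc u hu
    have h1 := hn.conj_mem (⟨u, hle hu⟩ : ↥(Subgroup.centralizer ({x} : Set G)))
      (by rw [Subgroup.mem_subgroupOf]; exact hu) (⟨c, hc⟩ : ↥(Subgroup.centralizer ({x} : Set G)))
    rw [Subgroup.mem_subgroupOf] at h1
    simpa using h1
  have hcomm : ∀ a ∈ S₀, ∀ b ∈ S₀, a * b = b * a := by
    intro a ha b hb
    have := mul_comm_of_exponent_two hK.exponent_two (⟨a, ha⟩ : ↥S₀) ⟨b, hb⟩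
    exact congrArg Subtype.val this
  have hcx : ∀ c ∈ Subgroup.centralizer ({x} : Set G), c * x = x * c := by
    intro c hc
    exact ((Subgroup.mem_centralizer_iff.mp hc) x (Set.mem_singleton x)).symm
  have hcase : ∀ c ∈ Subgroup.centralizer ({x} : Set G), ∀ u ∈ S₀,
      c * u * c⁻¹ = u ∨ c * u * c⁻¹ = x * u := by
    intro c hc u hu
    have hcx' := hcx c hc
    by_cases hu1 : u = 1
    · left
      rw [hu1]
      group
    by_cases hux : u = x
    · left
      rw [hux, hcx']
      group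
    by_cases hvu : c * u * c⁻¹ = u
    · left
      exact hvu
    right
    have hv := hconj c hc u hu
    have hv1 : c * u * c⁻¹ ≠ 1 := by
      intro h
      apply hu1
      calc u = c⁻¹ * (c * u * c⁻¹) * c := by group
        _ = 1 := by rw [h]; group
    have hvx : c * u * c⁻¹ ≠ x := by
      intro h
      apply hux
      calc u = c⁻¹ * (c * u * c⁻¹) * c := by group
        _ = c⁻¹ * x * c := by rw [h]
        _ = c⁻¹ * (x * c) := by group
        _ = c⁻¹ * (c * x) := by rw [hcx']
        _ = x := by group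
    have := @IsKleinFour.eq_mul_of_ne_all ↥S₀ _ hK ⟨x, hxS⟩ ⟨u, hu⟩ ⟨c * u * c⁻¹, hv⟩
      (fun h => hx1 (congrArg Subtype.val h)) (fun h => hu1 (congrArg Subtype.val h))
      (fun h => hux (congrArg Subtype.val h).symm) (fun h => hv1 (congrArg Subtype.val h))
      (fun h => hvx (congrArg Subtype.val h)) (fun h => hvu (congrArg Subtype.val h))
    exact congrArg Subtype.val this
  have hsq : ∀ c ∈ Subgroup.centralizer ({x} : Set G), ∀ u ∈ S₀,
      c ^ 2 ∈ Subgroup.centralizer ({u} : Set G) := by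
    intro c hc u hu
    rw [Subgroup.mem_centralizer_iff]
    intro y hy
    rw [Set.mem_singleton_iff] at hy
    subst hy
    have hcx' := hcx c hc
    rcases hcase c hc y hu with h | h
    · have h' : c * y = y * c := by
        calc c * y = (c * y * c⁻¹) * c := by group
          _ = y * c := by rw [h]
      rw [pow_two]
      calc y * (c * c) = (y * c) * c := by group
        _ = (c * y) * c := by rw [h']
        _ = c * (y * c) := by group
        _ = c * (c * y) := by rw [h']
        _ = c * c * y := by group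
    · have h' : c * y = x * y * c := by
        calc c * y = (c * y * c⁻¹) * c := by group
          _ = x * y * c := by rw [h]
      rw [pow_two]
      symm
      calc c * c * y = c * (c * y) := by group
        _ = c * (x * y * c) := by rw [h']
        _ = (c * x) * (y * c) := by group
        _ = (x * c) * (y * c) := by rw [hcx']
        _ = x * (c * y) * c := by group
        _ = x * (x * y * c) * c := by rw [h']
        _ = (x * x) * (y * (c * c)) := by group
        _ = y * (c * c) := by rw [hxx, one_mul]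
  apply le_antisymm
  · intro c hc
    rw [Subgroup.mem_centralizer_iff]
    intro y hy
    rw [Set.mem_singleton_iff] at hy
    subst hy
    exact (Subgroup.mem_centralizer_iff.mp hc) y hxS
  · intro c hc
    rw [Subgroup.mem_centralizer_iff]
    intro u hu
    have h1 : c ^ (S₀.relIndex (Subgroup.centralizer ({x} : Set G))) ∈
        Subgroup.centralizer ({u} : Set G) := by
      rw [Subgroup.mem_centralizer_iff]
      intro y hy
      rw [Set.mem_singleton_iff] at hy
      subst hy
      exact hcomm y hu _ (hpow c hc)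
    have h2 : (c ^ 2) ^ j ∈ Subgroup.centralizer ({u} : Set G) :=
      Subgroup.pow_mem _ (hsq c hc u hu) j
    have h3 : c = ((c ^ 2) ^ j)⁻¹ * c ^ (S₀.relIndex (Subgroup.centralizer ({x} : Set G))) := by
      rw [hj, pow_succ c (2 * j), pow_mul]
      exact (inv_mul_cancel_left _ _).symm
    have h4 : c ∈ Subgroup.centralizer ({u} : Set G) := by
      rw [h3]
      exact Subgroup.mul_mem _ (Subgroup.inv_mem _ h2) h1
    exact (Subgroup.mem_centralizer_iff.mp h4) u (Set.mem_singleton u)

/-- In a simple group, a Klein four-group of odd index in the centralizer of one of its involutions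
is a Sylow 2-subgroup. -/
theorem sylow_eq_of_klein_centralizer {G : Type*} [Group G] [Finite G] [IsSimpleGroup G] (x : G)
    (hx : orderOf x = 2) (S₀ : Subgroup G) (hle : S₀ ≤ Subgroup.centralizer ({x} : Set G))
    (hK : IsKleinFour ↥S₀) (hodd : ¬ 2 ∣ S₀.relIndex (Subgroup.centralizer ({x} : Set G)))
    (hxS : x ∈ S₀) : ∃ P : Sylow 2 G, (P : Subgroup G) = S₀ := by
  have : Fact (Nat.Prime 2) := ⟨Nat.prime_two⟩
  have hS4 : Nat.card S₀ = 4 := hK.card_four
  have hSp : IsPGroup 2 ↥S₀ := IsPGroup.of_card (n := 2) (by rw [hS4]; norm_num)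
  obtain ⟨P, hSP⟩ := hSp.exists_le_sylow
  refine ⟨P, ?_⟩
  have hcardC := card_mul_relIndex_of_le hle
  have hC8 : ¬ 8 ∣ Nat.card ↥(Subgroup.centralizer ({x} : Set G)) := by
    rw [← hcardC, hS4]
    intro h
    apply hodd
    omega
  have hPC : Nat.card ↥((P : Subgroup G) ⊓ Subgroup.centralizer ({x} : Set G)) = 4 := by
    have h1 : Nat.card S₀ ∣ Nat.card ↥((P : Subgroup G) ⊓ Subgroup.centralizer ({x} : Set G)) :=
      Subgroup.card_dvd_of_le (le_inf hSP hle)
    have h2 : Nat.card ↥((P : Subgroup G) ⊓ Subgroup.centralizer ({x} : Set G)) ∣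
        Nat.card ↥(Subgroup.centralizer ({x} : Set G)) :=
      Subgroup.card_dvd_of_le inf_le_right
    have h3 : IsPGroup 2 ↥((P : Subgroup G) ⊓ Subgroup.centralizer ({x} : Set G)) :=
      P.isPGroup'.to_le inf_le_left
    obtain ⟨n, hn⟩ := IsPGroup.iff_card.mp h3
    rw [hn] at h1 h2 ⊢
    rw [hS4] at h1
    have hn2 : 2 ≤ n := by
      by_contra hlt
      rw [not_le] at hlt
      interval_cases n
      · norm_num at h1
      · norm_num at h1
    have hn3 : n ≤ 2 := by
      by_contra hlt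
      rw [not_le] at hlt
      apply hC8
      exact dvd_trans (pow_dvd_pow 2 hlt : 2 ^ 3 ∣ 2 ^ n) h2
    have : n = 2 := le_antisymm hn3 hn2
    rw [this]
    norm_num
  have hxP : x ∈ (P : Subgroup G) := hSP hxS
  have hP4 : Nat.card (P : Subgroup G) = 4 := by
    by_contra h4
    obtain ⟨M, hMn, hMi, hxM⟩ :=
      exists_normal_index_two_of_centralizer_four P x hx hxP hPC h4 hC8
    rcases hMn.eq_bot_or_eq_top with hb | ht
    · rw [hb, Subgroup.index_bot] at hMi
      have : Nat.card S₀ ∣ Nat.card G := Subgroup.card_subgroup_dvd_card S₀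
      rw [hS4, hMi] at this
      omega
    · rw [ht, Subgroup.index_top] at hMi
      omega
  exact (Subgroup.eq_of_le_of_card_ge hSP (by rw [hP4, hS4])).symm

/-- The numerical consequence of Brauer's order formula used below. -/
theorem card_lt_of_order_formula (g c a b d : ℕ) (ε₁ ε ε₃ : ℤ) (h1 : ε₁ = 1) (h3 : ε₃ = -1)
    (hε : ε = 1 ∨ ε = -1) (hc : 0 < c)
    (hb : (4 : ℤ) ∣ (b : ℤ) - ε) (hd : (4 : ℤ) ∣ (d : ℤ) + 1)
    (h : (g : ℚ) = 8 * (((a : ℚ) * b * d) / (((a : ℚ) + ε₁) * ((b : ℚ) + ε) * ((d : ℚ) + ε₃))) *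
      (c : ℚ) ^ 3 / (c : ℚ) ^ 2) :
    g < 18 * c := by
  subst h1 h3
  obtain ⟨m, hm⟩ := hd
  have hd3 : 3 ≤ d := by omega
  have hcq : (0 : ℚ) < c := by exact_mod_cast hc
  have hc32 : (c : ℚ) ^ 3 / (c : ℚ) ^ 2 = c := by
    field_simp
  have hdq : (0 : ℚ) ≤ (d : ℚ) - 3 := by
    have : (3 : ℚ) ≤ d := by exact_mod_cast hd3
    linarith
  have haq : (0 : ℚ) ≤ a := Nat.cast_nonneg a
  have hbq : (0 : ℚ) ≤ b := Nat.cast_nonneg b
  have key : (a : ℚ) * b * d / (((a : ℚ) + ((1 : ℤ) : ℚ)) * ((b : ℚ) + ε) * ((d : ℚ) + ((-1 : ℤ) : ℚ)))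
      < 9 / 4 := by
    push_cast
    rcases hε with rfl | rfl
    · push_cast
      have hpos : (0 : ℚ) < ((a : ℚ) + 1) * ((b : ℚ) + 1) * ((d : ℚ) + -1) := by
        have h1 : (0 : ℚ) < (a : ℚ) + 1 := by linarith
        have h2 : (0 : ℚ) < (b : ℚ) + 1 := by linarith
        have h3 : (0 : ℚ) < (d : ℚ) + -1 := by linarith
        positivity
      rw [div_lt_iff₀ hpos]
      nlinarith [mul_nonneg (mul_nonneg haq hbq) hdq, mul_nonneg haq hbq, mul_nonneg haq hdq,
        mul_nonneg hbq hdq]
    · obtain ⟨m', hm'⟩ := hb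
      have hb3 : 3 ≤ b := by omega
      have hbq' : (0 : ℚ) ≤ (b : ℚ) - 3 := by
        have : (3 : ℚ) ≤ b := by exact_mod_cast hb3
        linarith
      push_cast
      have hpos : (0 : ℚ) < ((a : ℚ) + 1) * ((b : ℚ) + -1) * ((d : ℚ) + -1) := by
        have h1 : (0 : ℚ) < (a : ℚ) + 1 := by linarith
        have h2 : (0 : ℚ) < (b : ℚ) + -1 := by linarith
        have h3 : (0 : ℚ) < (d : ℚ) + -1 := by linarith
        positivity
      rw [div_lt_iff₀ hpos]
      nlinarith [mul_nonneg (mul_nonneg haq hbq') hdq, mul_nonneg haq hbq', mul_nonneg haq hdq,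
        mul_nonneg hbq' hdq]
  rw [mul_div_assoc, hc32] at h
  have hlt : (g : ℚ) < 18 * c := by
    rw [h]
    have := mul_lt_mul_of_pos_right key hcq
    linarith
  exact_mod_cast hlt

/-- The order of a simple group with a normal Klein four Sylow 2-subgroup in an involution
centralizer is 60. -/
theorem card_eq_sixty_of_klein_centralizer {G : Type*} [Group G] [Finite G] [IsSimpleGroup G]
    (x : G) (hx : orderOf x = 2) (S₀ : Subgroup G)
    (hle : S₀ ≤ Subgroup.centralizer ({x} : Set G)) (hK : IsKleinFour ↥S₀)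
    (hodd : ¬ 2 ∣ S₀.relIndex (Subgroup.centralizer ({x} : Set G)))
    (hn : (S₀.subgroupOf (Subgroup.centralizer ({x} : Set G))).Normal) :
    Nat.card G = 60 := by
  have : Fact (Nat.Prime 2) := ⟨Nat.prime_two⟩
  obtain ⟨hxS, hcent⟩ := klein_normal_in_centralizer x hx S₀ hle hK hodd hn
  obtain ⟨P, hPS⟩ := sylow_eq_of_klein_centralizer x hx S₀ hle hK hodd hxS
  have hP4 : Nat.card (P : Subgroup G) = 4 := by
    rw [hPS]
    exact hK.card_four
  obtain ⟨g₀, hg₀def⟩ : ∃ g₀, g₀ = (P : Subgroup G).index := ⟨_, rfl⟩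
  have hG : Nat.card G = 4 * g₀ := by
    rw [← hP4, hg₀def]
    exact (Subgroup.card_mul_index _).symm
  have hg₀ : Odd g₀ := by
    rw [← Nat.not_even_iff_odd, even_iff_two_dvd, hg₀def]
    exact P.not_dvd_index
  have hg₀pos : 0 < g₀ := hg₀.pos
  have hnp : ¬ (Nat.card G).Prime := by
    rw [hG]
    intro hp
    have := (Nat.prime_dvd_prime_iff_eq Nat.prime_two hp).mp ⟨2 * g₀, by ring⟩
    omega
  have hncomm : ¬ IsMulCommutative G := not_comm_of_simple_of_not_prime hnp
  have hnc : ¬ ∃ N : Subgroup G, N.Normal ∧ Nat.card N = g₀ := by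
    rintro ⟨N, hN, hNc⟩
    rcases hN.eq_bot_or_eq_top with hb | ht
    · rw [hb, Subgroup.card_bot] at hNc
      apply not_isPGroup_of_simple hncomm 2
      apply IsPGroup.of_card (n := 2)
      rw [hG, ← hNc]
      norm_num
    · rw [ht, Subgroup.card_top, hG] at hNc
      omega
  obtain ⟨hPK, hone⟩ :=
    Cfsg.Agent.Lib.Helper74.isKleinFour_and_one_class_of_no_complement g₀ hg₀ hG hnc P
  obtain ⟨M, hM⟩ := Cfsg.Agent.Lib.Helper75.exists_isPModular 2 Nat.prime_two
  obtain ⟨ζ₂, ζ₃, ζ₄, ε, hε, h21, h31, h23, h24, h34, hB, hval, hd2, hd3, hd4, -⟩ :=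
    Cfsg.Agent.S0948.result M hM P hPK hone
  have hxP : x ∈ (P : Subgroup G) := by
    rw [hPS]
    exact hxS
  obtain ⟨hv2, hv3, hv4⟩ := hval x hx
  have h41 : (ζ₄ : G → ℂ) ≠ (fun _ => 1) := by
    intro h
    rw [h] at hv4
    norm_num at hv4
  have hform := Cfsg.Agent.S4479.result M hM g₀ hg₀ hG hnc P x hxP hx ζ₂ ζ₃ ζ₄ 1 ε (-1) hB
    ⟨h21, h31, h41, h23, h24, h34⟩ ⟨Or.inl rfl, hε, Or.inr rfl⟩
    ⟨by rw [hv2]; norm_num, hv3, by rw [hv4]; norm_num⟩
  have hcentP : Subgroup.centralizer ((P : Subgroup G) : Set G) =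
      Subgroup.centralizer ({x} : Set G) := by
    rw [hPS]
    exact hcent
  rw [hcentP] at hform
  have hcpos : 0 < Nat.card ↥(Subgroup.centralizer ({x} : Set G)) := Nat.card_pos
  have hlt : Nat.card G < 18 * Nat.card ↥(Subgroup.centralizer ({x} : Set G)) :=
    card_lt_of_order_formula _ _ _ _ _ 1 ε (-1) rfl rfl hε hcpos hd3 hd4 hform
  -- Sylow counting
  have hNcard := card_sylow_mul_card_normalizer P
  have hCN : Subgroup.centralizer ((P : Subgroup G) : Set G) ≤
      Subgroup.normalizer ((P : Subgroup G) : Set G) := Subgroup.centralizer_le_normalizer _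
  have hrc := card_mul_relIndex_of_le hCN
  have h2G : 2 ∣ Nat.card G := by
    rw [hG]
    exact ⟨2 * g₀, by ring⟩
  have hr1 : (Subgroup.centralizer ((P : Subgroup G) : Set G)).relIndex
      (Subgroup.normalizer ((P : Subgroup G) : Set G)) ≠ 1 := by
    intro h
    rw [Subgroup.relIndex_eq_one] at h
    exact not_normalizer_le_centralizer_of_simple hncomm P h2G h
  have hPab : (P : Subgroup G) ≤ Subgroup.centralizer ((P : Subgroup G) : Set G) := by
    rw [Subgroup.le_centralizer_iff_isMulCommutative]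
    exact @IsKleinFour.isMulCommutative _ _ hPK
  have hrodd : ¬ 2 ∣ (Subgroup.centralizer ((P : Subgroup G) : Set G)).relIndex
      (Subgroup.normalizer ((P : Subgroup G) : Set G)) := by
    intro h
    apply P.not_dvd_index
    exact dvd_trans h (dvd_trans (Subgroup.relIndex_dvd_of_le_left _ hPab)
      (Subgroup.relIndex_dvd_index_of_le Subgroup.le_normalizer))
  rw [hcentP] at hrc hr1 hrodd hPab
  obtain ⟨r, hr⟩ : ∃ r, r = (Subgroup.centralizer ({x} : Set G)).relIndex
      (Subgroup.normalizer ((P : Subgroup G) : Set G)) := ⟨_, rfl⟩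
  obtain ⟨c, hc⟩ : ∃ c, c = Nat.card ↥(Subgroup.centralizer ({x} : Set G)) := ⟨_, rfl⟩
  obtain ⟨n₂, hn₂⟩ : ∃ n₂, n₂ = Nat.card (Sylow 2 G) := ⟨_, rfl⟩
  rw [← hr] at hrc hr1 hrodd
  rw [← hc] at hrc hlt hcpos
  have hmod : Nat.card (Sylow 2 G) ≡ 1 [MOD 2] := card_sylow_modEq_one 2 G
  have hn1 : Nat.card (Sylow 2 G) ≠ 1 := by
    intro h
    have hnorm := sylow_normal_of_card_eq_one h P
    rcases hnorm.eq_bot_or_eq_top with hb | ht
    · have : Nat.card (P : Subgroup G) = 1 := by rw [hb, Subgroup.card_bot]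
      omega
    · apply not_isPGroup_of_simple hncomm 2
      apply IsPGroup.of_card (n := 2)
      rw [← Subgroup.card_top (G := G), ← ht, hP4]
      norm_num
  have hfact := two_mul_card_dvd_factorial_card_sylow_of_simple hncomm (p := 2) hn1
  rw [← hn₂] at hNcard hmod hn1 hfact
  have hr3 : 3 ≤ r := by
    have hr0 : r ≠ 0 := by
      rintro rfl
      have : 0 < Nat.card ↥(Subgroup.normalizer ((P : Subgroup G) : Set G)) := Nat.card_pos
      omega
    omega
  have hc4 : 4 ≤ c := by
    have h1 : Nat.card (P : Subgroup G) ∣ c := by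
      rw [hc]
      exact Subgroup.card_dvd_of_le hPab
    have := Nat.le_of_dvd hcpos h1
    rw [hP4] at this
    exact this
  have hn6 : n₂ < 6 := by
    have h1 : n₂ * (c * r) < 18 * c := by
      rw [hrc, hNcard]
      exact hlt
    have h2 : n₂ * r * c < 18 * c := by
      calc n₂ * r * c = n₂ * (c * r) := by ring
        _ < 18 * c := h1
    have h3 : n₂ * r < 18 := Nat.lt_of_mul_lt_mul_right h2
    nlinarith
  have hmod' : n₂ % 2 = 1 := hmod
  have hn35 : n₂ = 3 ∨ n₂ = 5 := by omega
  rcases hn35 with h3 | h5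
  · exfalso
    rw [h3] at hfact
    have h6 : 2 * Nat.card G ∣ 6 := by simpa [Nat.factorial] using hfact
    have := Nat.le_of_dvd (by norm_num) h6
    omega
  · rw [h5] at hfact
    have h120 : 2 * Nat.card G ∣ 2 * 60 := by simpa [Nat.factorial] using hfact
    have h60 : Nat.card G ∣ 60 := Nat.dvd_of_mul_dvd_mul_left (by norm_num) h120
    have hge : 60 ≤ Nat.card G := by
      rw [← hNcard, h5, ← hrc]
      nlinarith
    exact le_antisymm (Nat.le_of_dvd (by norm_num) h60) hge

end Cfsg.Agent.Lib.Helper17
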