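import Mathlib.GroupTheory.Sylow
import Mathlib.GroupTheory.Index
import Cfsg.Agent.Lib.Helper17.SylowCard

set_option autoImplicit false

namespace Cfsg.Agent.Lib.Helper17

/-- `|HN| = |N| * [H : H ∩ N]` for a normal subgroup `N`. -/
theorem card_sup_normal {G : Type*} [Group G] (H N : Subgroup G) [N.Normal] :
    Nat.card (H ⊔ N : Subgroup G) = Nat.card N * N.relIndex H := by
  have h1 := Subgroup.relIndex_mul_relIndex (⊥ : Subgroup G) N (H ⊔ N) bot_le le_sup_right
  rw [Subgroup.relIndex_bot_left, Subgroup.relIndex_bot_left, Subgroup.relIndex_sup_right] at h1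
  exact h1.symm

/-- A divisor of a product of two primes. -/
theorem dvd_prime_mul_prime {p q d : ℕ} (hp : p.Prime) (hq : q.Prime) (h : d ∣ p * q) :
    d = 1 ∨ d = p ∨ d = q ∨ d = p * q := by
  obtain ⟨a, b, ha, hb, rfl⟩ := (Nat.dvd_mul).1 h
  rcases (Nat.dvd_prime hp).1 ha with rfl | rfl <;> rcases (Nat.dvd_prime hq).1 hb with rfl | rfl
  · left; rfl
  · right; right; left; simp
  · right; left; simp
  · right; right; right; rfl

/-- If `N` is a normal subgroup of prime order `s < r` and `R` is a Sylow `r`-subgroup of order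
`r`, then `s * r` divides the order of the normalizer of `R`. -/
theorem mul_dvd_card_normalizer_of_normal_prime {G : Type*} [Group G] [Finite G] {r : ℕ}
    [hr : Fact r.Prime] (R : Sylow r G) (hR : Nat.card (R : Subgroup G) = r)
    (N : Subgroup G) [N.Normal] {s : ℕ} (hs : s.Prime) (hsr : s < r) (hN : Nat.card N = s) :
    s * r ∣ Nat.card (Subgroup.normalizer ((R : Subgroup G) : Set G)) := by
  set M : Subgroup G := (R : Subgroup G) ⊔ N with hM
  have hcardM0 : Nat.card M = s * N.relIndex (R : Subgroup G) := by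
    rw [hM, card_sup_normal, hN]
  have hrel : N.relIndex (R : Subgroup G) ∣ r := by
    have := Subgroup.relIndex_dvd_card N (R : Subgroup G)
    rwa [hR] at this
  have hrM : r ∣ Nat.card M := by
    have := Subgroup.card_dvd_of_le (le_sup_left : (R : Subgroup G) ≤ M)
    rwa [hR] at this
  have hnrs : ¬ r ∣ s := fun h => by
    have := Nat.le_of_dvd hs.pos h
    omega
  have hcardM : Nat.card M = r ^ 1 * s := by
    rcases (Nat.dvd_prime hr.out).1 hrel with h1 | h1
    · rw [hcardM0, h1, mul_one] at hrM
      exact (hnrs hrM).elim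
    · rw [hcardM0, h1, pow_one, mul_comm]
  have hdvd : Nat.card (Sylow r M) ∣ s := card_sylow_dvd_of_card_eq hcardM hnrs
  have hmod : Nat.card (Sylow r M) % r = 1 % r := card_sylow_modEq_one r M
  have hone : Nat.card (Sylow r M) = 1 := by
    rcases (Nat.dvd_prime hs).1 hdvd with h1 | h1
    · exact h1
    · rw [h1, Nat.mod_eq_of_lt hsr, Nat.mod_eq_of_lt hr.out.one_lt] at hmod
      exact hmod ▸ h1
  have hnorm : ((R.subtype (le_sup_left : (R : Subgroup G) ≤ M) : Sylow r M) : Subgroup M).Normal :=
    sylow_normal_of_card_eq_one hone _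
  rw [Sylow.coe_subtype, Subgroup.normal_subgroupOf_iff_le_normalizer le_sup_left] at hnorm
  have := Subgroup.card_dvd_of_le hnorm
  rw [hcardM, pow_one, mul_comm] at this
  exact this

end Cfsg.Agent.Lib.Helper17
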