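import Mathlib
import Cfsg.Agent.Lib.Helper17.ConjCount
import Cfsg.Agent.Lib.Helper17.Misc

set_option autoImplicit false

namespace Cfsg.Agent.Lib.Helper17

open Subgroup

/-- The fibres of a function over finitely many distinct values have at most `|α|` elements in
total. -/
theorem sum_card_fiber_le {α : Type*} [Finite α] (f : α → ℕ) (s : Finset ℕ) :
    ∑ n ∈ s, Nat.card {a : α // f a = n} ≤ Nat.card α := by
  classical
  have := Fintype.ofFinite α
  have h1 : ∀ n, Nat.card {a : α // f a = n} =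
      (Finset.univ.filter (fun a : α => f a = n)).card := by
    intro n
    rw [Nat.card_eq_fintype_card, Fintype.card_subtype]
  simp only [h1]
  rw [← Finset.card_biUnion]
  · rw [Nat.card_eq_fintype_card]
    exact Finset.card_le_univ _
  · intro a _ b _ hab
    rw [Function.onFun, Finset.disjoint_left]
    intro g hga hgb
    rw [Finset.mem_filter] at hga hgb
    exact hab (hga.2.symm.trans hgb.2)

/-- **Counting by parts.** Let `x₀` have order `r`, let `K` be a subgroup of `C_G(x₀)` of order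
`q`, and let `e` be a multiple of `q` with `e ≡ 1 (mod r)`. Then the elements `g` with
`orderOf (g ^ e) = r` number at least `|x₀^G| * q`, i.e. `|G| * q ≤ #{g | o(g^e) = r} * |C(x₀)|`. -/
theorem card_mul_le_card_pow_orderOf_mul_card_centralizer {G : Type*} [Group G] [Finite G]
    (x₀ : G) (K : Subgroup G) (hK : K ≤ centralizer ({x₀} : Set G)) (e : ℕ)
    (hqe : Nat.card K ∣ e) (he : e ≡ 1 [MOD orderOf x₀]) :
    Nat.card G * Nat.card K ≤
      Nat.card {g : G // orderOf (g ^ e) = orderOf x₀} * Nat.card (centralizer ({x₀} : Set G)) := by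
  classical
  -- choose conjugators
  have hex : ∀ x : {y : G // IsConj x₀ y}, ∃ g : G, g * x₀ * g⁻¹ = x.1 := fun x =>
    isConj_iff.1 x.2
  choose γ hγ using hex
  have hpow_x : ∀ x : G, orderOf x = orderOf x₀ → x ^ e = x := by
    intro x hx
    have : x ^ e = x ^ 1 := by
      rw [pow_eq_pow_iff_modEq, hx]
      exact he
    rwa [pow_one] at this
  have hpow_c : ∀ c : G, c ∈ K → c ^ e = 1 := by
    intro c hc
    have h1 : orderOf c ∣ Nat.card K := Subgroup.orderOf_dvd_natCard K hc
    exact orderOf_dvd_iff_pow_eq_one.1 (dvd_trans h1 hqe)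
  have hord : ∀ x : {y : G // IsConj x₀ y}, orderOf x.1 = orderOf x₀ := fun x =>
    orderOf_eq_of_isConj x.2
  have hcomm : ∀ (x : {y : G // IsConj x₀ y}) (c : K),
      Commute x.1 (γ x * (c : G) * (γ x)⁻¹) := by
    intro x c
    have hc : (c : G) * x₀ = x₀ * c := by
      have := hK c.2
      rw [Subgroup.mem_centralizer_singleton_iff] at this
      exact this
    show x.1 * (γ x * (c : G) * (γ x)⁻¹) = (γ x * (c : G) * (γ x)⁻¹) * x.1
    rw [← hγ x]
    calc γ x * x₀ * (γ x)⁻¹ * (γ x * ↑c * (γ x)⁻¹) = γ x * (x₀ * ↑c) * (γ x)⁻¹ := by group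
      _ = γ x * (↑c * x₀) * (γ x)⁻¹ := by rw [hc]
      _ = _ := by group
  have hkey : ∀ (x : {y : G // IsConj x₀ y}) (c : K),
      (x.1 * (γ x * (c : G) * (γ x)⁻¹)) ^ e = x.1 := by
    intro x c
    rw [(hcomm x c).mul_pow, hpow_x x.1 (hord x)]
    have : (γ x * (c : G) * (γ x)⁻¹) ^ e = 1 := by
      rw [conj_pow, hpow_c c c.2]
      group
    rw [this, mul_one]
  let φ : {y : G // IsConj x₀ y} × K → {g : G // orderOf (g ^ e) = orderOf x₀} := fun xc =>
    ⟨xc.1.1 * (γ xc.1 * (xc.2 : G) * (γ xc.1)⁻¹), by rw [hkey xc.1 xc.2]; exact hord xc.1⟩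
  have hφ : Function.Injective φ := by
    rintro ⟨x, c⟩ ⟨x', c'⟩ h
    have h1 : x.1 * (γ x * (c : G) * (γ x)⁻¹) = x'.1 * (γ x' * (c' : G) * (γ x')⁻¹) :=
      congrArg Subtype.val h
    have h2 : x.1 = x'.1 := by
      rw [← hkey x c, ← hkey x' c', h1]
    have h3 : x = x' := Subtype.ext h2
    subst h3
    have h4 : γ x * (c : G) * (γ x)⁻¹ = γ x * (c' : G) * (γ x)⁻¹ := mul_left_cancel h1
    have h5 : (c : G) = c' := by
      have := congrArg (fun z => (γ x)⁻¹ * z * γ x) h4
      simpa [mul_assoc] using this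
    rw [Subtype.ext h5]
  have hle := Nat.card_le_card_of_injective φ hφ
  rw [Nat.card_prod] at hle
  have hcl := card_conj_mul_card_centralizer x₀
  calc Nat.card G * Nat.card K
      = Nat.card {y : G // IsConj x₀ y} * Nat.card K * Nat.card (centralizer ({x₀} : Set G)) := by
        rw [← hcl]; ring
    _ ≤ _ := Nat.mul_le_mul_right _ hle

end Cfsg.Agent.Lib.Helper17
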