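import Mathlib.GroupTheory.Sylow
import Mathlib.GroupTheory.Transfer
import Mathlib.GroupTheory.GroupAction.Primitive
import Mathlib.Data.Finite.Perm
import Mathlib.Data.Nat.Prime.Factorial

set_option autoImplicit false

namespace Cfsg.Agent.Lib.Helper17

open MulAction Subgroup

section

variable {Γ : Type*} [Group Γ] [Finite Γ] {α : Type*} [MulAction Γ α] {p : ℕ} [hp : Fact p.Prime]

/-- A group acting transitively on a set of cardinality `p` has order divisible by `p`. -/
theorem dvd_card_of_pretransitive [IsPretransitive Γ α] (hα : Nat.card α = p) :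
    p ∣ Nat.card Γ := by
  have hne : Nonempty α := by
    have : Nat.card α ≠ 0 := by rw [hα]; exact hp.out.ne_zero
    exact (Nat.card_ne_zero.1 this).1
  obtain ⟨x⟩ := hne
  have h1 := MulAction.index_stabilizer_of_transitive Γ x
  rw [hα] at h1
  rw [← h1]
  exact Subgroup.index_dvd_card _

/-- A group acting faithfully on a set of prime cardinality `p` has order not divisible by `p²`. -/
theorem not_sq_dvd_card_of_faithful [FaithfulSMul Γ α] (hα : Nat.card α = p) :
    ¬ p * p ∣ Nat.card Γ := by
  intro h
  have : Finite α := Nat.finite_of_card_ne_zero (by rw [hα]; exact hp.out.ne_zero)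
  have h1 : Nat.card Γ ∣ Nat.card (Equiv.Perm α) :=
    Subgroup.card_dvd_of_injective (MulAction.toPermHom Γ α) MulAction.toPerm_injective
  rw [Nat.card_perm, hα] at h1
  have h2 : p * p ∣ p.factorial := h.trans h1
  obtain ⟨k, hk⟩ : ∃ k, p = k + 1 := ⟨p - 1, by have := hp.out.pos; omega⟩
  rw [hk, Nat.factorial_succ, ← hk] at h2
  have h3 : p ∣ k.factorial := Nat.dvd_of_mul_dvd_mul_left hp.out.pos h2
  have := (Nat.Prime.dvd_factorial hp.out).1 h3
  omega

/-- Sylow `p`-subgroups of a faithful transitive group of degree `p` have order `p`. -/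
theorem sylow_card_of_prime_degree [FaithfulSMul Γ α] [IsPretransitive Γ α]
    (hα : Nat.card α = p) (P : Sylow p Γ) : Nat.card (P : Subgroup Γ) = p := by
  obtain ⟨k, hk⟩ := IsPGroup.iff_card.mp P.isPGroup'
  have h1 : p ∣ Nat.card (P : Subgroup Γ) := P.dvd_card_of_dvd_card (dvd_card_of_pretransitive hα)
  have h2 : Nat.card (P : Subgroup Γ) ∣ Nat.card Γ := (P : Subgroup Γ).card_subgroup_dvd_card
  have h3 := not_sq_dvd_card_of_faithful (Γ := Γ) hα
  rw [hk] at h1 h2 ⊢
  have hk1 : k ≠ 0 := by
    intro h0
    rw [h0, pow_zero] at h1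
    exact hp.out.one_lt.ne' (Nat.dvd_one.1 h1)
  have hk2 : k < 2 := by
    by_contra hcon
    apply h3
    have : p ^ 2 ∣ p ^ k := pow_dvd_pow p (by omega)
    rw [sq] at this
    exact this.trans h2
  have : k = 1 := by omega
  rw [this, pow_one]

/-- A non-trivial normal subgroup of a faithful transitive group of prime degree is transitive. -/
theorem isPretransitive_of_normal_of_prime_degree [FaithfulSMul Γ α] [IsPretransitive Γ α]
    (hα : Nat.card α = p) (H : Subgroup Γ) [H.Normal] (hH : H ≠ ⊥) : IsPretransitive H α := by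
  have hprim : IsPreprimitive Γ α := IsPreprimitive.of_prime_card (by rw [hα]; exact hp.out)
  apply IsQuasiPreprimitive.isPretransitive_of_normal (G := Γ) (X := α)
  intro hfix
  apply hH
  rw [Subgroup.eq_bot_iff_forall]
  intro h hh
  apply FaithfulSMul.eq_of_smul_eq_smul (α := α)
  intro a
  rw [one_smul]
  have ha : a ∈ fixedPoints H α := by rw [hfix]; trivial
  exact ha ⟨h, hh⟩

/-- In a faithful transitive group of prime degree `p`, if `N(P) ≤ C(P)` for a Sylow
`p`-subgroup `P`, then `P` is the whole group. -/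
theorem sylow_eq_top_of_normalizer_le_centralizer [FaithfulSMul Γ α] [IsPretransitive Γ α]
    (hα : Nat.card α = p) (P : Sylow p Γ)
    (h : normalizer ((P : Subgroup Γ) : Set Γ) ≤ centralizer ((P : Subgroup Γ) : Set Γ)) :
    (P : Subgroup Γ) = ⊤ := by
  have hcomp := MonoidHom.ker_transferSylow_isComplement' P h
  have hcard := hcomp.card_mul_card
  set K := (MonoidHom.transferSylow P h).ker with hK
  have hKn : K.Normal := MonoidHom.normal_ker _
  have hPc := sylow_card_of_prime_degree hα P
  by_cases hKb : K = ⊥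
  · rw [hKb, Subgroup.card_bot, one_mul] at hcard
    exact Subgroup.eq_top_of_card_eq _ hcard
  · exfalso
    have htr : IsPretransitive K α := isPretransitive_of_normal_of_prime_degree hα K hKb
    have hdvd : p ∣ Nat.card K := dvd_card_of_pretransitive (Γ := K) hα
    apply not_sq_dvd_card_of_faithful (Γ := Γ) hα
    rw [← hcard, hPc]
    exact Nat.mul_dvd_mul_right hdvd p

end

end Cfsg.Agent.Lib.Helper17
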