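import Mathlib
import Cfsg.Agent.S0991
import Cfsg.Agent.Lib.Helper17.KleinCent
import Cfsg.Agent.Lib.Helper17.SylowInter
import Cfsg.Agent.Lib.Helper17.SylowBasic
import Cfsg.Agent.Lib.Helper17.Misc

/-!
# Groups with a self-centralizing Klein four Sylow 2-subgroup

(helper17)  If an involution `x` of the finite group `G` has `C_G(x)` a Sylow 2-subgroup of order 4,
`G` has no normal 2-complement and `C_G(x)` is not normal in `G`, then `G ≅ A₅`.
-/

set_option autoImplicit false

namespace Cfsg.Agent.Lib.Helper17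

open Cfsg

theorem card_centralizer_eq_of_isConj {G : Type*} [Group G] [Finite G] {s t : G}
    (h : IsConj s t) :
    Nat.card ↥(Subgroup.centralizer ({t} : Set G)) =
      Nat.card ↥(Subgroup.centralizer ({s} : Set G)) := by
  obtain ⟨c, hc⟩ := isConj_iff.1 h
  rw [← hc]
  exact card_centralizer_conj_eq c s

/-- An injective hom from a group of order 60 into `Perm (Fin 5)` gives an isomorphism with `A₅`. -/
theorem iso_alt5_of_injective_perm {G : Type*} [Group G] [Finite G] (h60 : Nat.card G = 60)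
    (n : ℕ) (hn : n = 5) (f : G →* Equiv.Perm (Fin n)) (hf : Function.Injective f) :
    Nonempty (G ≃* alternatingGroup (Fin 5)) := by
  subst hn
  have hr : Nat.card f.range = 60 := by
    rw [← h60]
    exact (Nat.card_congr (MonoidHom.ofInjective hf).toEquiv).symm
  have hidx : f.range.index = 2 := by
    have h1 := f.range.index_mul_card
    rw [hr, Nat.card_perm, Nat.card_fin] at h1
    have : (5 : ℕ).factorial = 120 := by decide
    omega
  have := Equiv.Perm.eq_alternatingGroup_of_index_eq_two hidx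
  exact ⟨(MonoidHom.ofInjective hf).trans (MulEquiv.subgroupCongr this)⟩

theorem iso_alt5_of_self_centralizing_sylow {G : Type*} [Group G] [Finite G] (x : G)
    (hx : orderOf x = 2) (hC4 : Nat.card ↥(Subgroup.centralizer ({x} : Set G)) = 4)
    (hnc : ¬ Cfsg.HasNormalPComplement 2 G) (P : Sylow 2 G)
    (hPV : (P : Subgroup G) = Subgroup.centralizer ({x} : Set G))
    (hnP : ¬ (P : Subgroup G).Normal) :
    Nonempty (G ≃* alternatingGroup (Fin 5)) := by
  have : Fact (Nat.Prime 2) := ⟨Nat.prime_two⟩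
  have hP4 : Nat.card (P : Subgroup G) = 4 := by
    rw [hPV]
    exact hC4
  obtain ⟨g₀, hg₀def⟩ : ∃ g₀, g₀ = (P : Subgroup G).index := ⟨_, rfl⟩
  have hG : Nat.card G = 4 * g₀ := by
    rw [← hP4, hg₀def]
    exact (Subgroup.card_mul_index _).symm
  have hg₀ : Odd g₀ := by
    rw [← Nat.not_even_iff_odd, even_iff_two_dvd, hg₀def]
    exact P.not_dvd_index
  have hg₀pos : 0 < g₀ := hg₀.pos
  have hnc' : ¬ ∃ N : Subgroup G, N.Normal ∧ Nat.card N = g₀ := by
    rintro ⟨N, hN, hNc⟩
    apply hnc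
    refine ⟨P, N, hN, ?_⟩
    apply Subgroup.isComplement'_of_coprime
    · rw [hNc, hP4, hG]
      ring
    · rw [hNc, hP4]
      have : Nat.Coprime g₀ (2 ^ 2) := Nat.Coprime.pow_right 2 (Nat.coprime_two_right.mpr hg₀)
      simpa using this
  have hKlein : ∀ R : Sylow 2 G, IsKleinFour (R : Subgroup G) := fun R =>
    (Cfsg.Agent.Lib.Helper74.isKleinFour_and_one_class_of_no_complement g₀ hg₀ hG hnc' R).1
  have hone :=
    (Cfsg.Agent.Lib.Helper74.isKleinFour_and_one_class_of_no_complement g₀ hg₀ hG hnc' P).2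
  have hPK := hKlein P
  have hord : ∀ R : Sylow 2 G, ∀ t ∈ (R : Subgroup G), t ≠ 1 → orderOf t = 2 := by
    intro R t ht ht1
    have h1 := @IsKleinFour.mul_self _ _ (hKlein R) (⟨t, ht⟩ : ↥(R : Subgroup G))
    have h2 : t * t = 1 := congrArg Subtype.val h1
    exact orderOf_eq_prime (by rw [pow_two]; exact h2) ht1
  have hcomm : ∀ R : Sylow 2 G, ∀ a ∈ (R : Subgroup G), ∀ b ∈ (R : Subgroup G),
      a * b = b * a := by
    intro R a ha b hb
    have := mul_comm_of_exponent_two (hKlein R).exponent_two (⟨a, ha⟩ : ↥(R : Subgroup G)) ⟨b, hb⟩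
    exact congrArg Subtype.val this
  have hcentT : ∀ R : Sylow 2 G, ∀ t ∈ (R : Subgroup G), t ≠ 1 →
      (R : Subgroup G) = Subgroup.centralizer ({t} : Set G) := by
    intro R t ht ht1
    have hot := hord R t ht ht1
    have hc4 : Nat.card ↥(Subgroup.centralizer ({t} : Set G)) = 4 := by
      rw [card_centralizer_eq_of_isConj (hone x t hx hot), hC4]
    have hle : (R : Subgroup G) ≤ Subgroup.centralizer ({t} : Set G) := by
      intro a ha
      rw [Subgroup.mem_centralizer_iff]
      intro y hy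
      rw [Set.mem_singleton_iff] at hy
      subst hy
      exact hcomm R y ht a ha
    have hR4 : Nat.card (R : Subgroup G) = 4 := (hKlein R).card_four
    exact Subgroup.eq_of_le_of_card_ge hle (by rw [hc4, hR4])
  have hTI : ∀ R₁ R₂ : Sylow 2 G, ∀ t, t ∈ (R₁ : Subgroup G) → t ∈ (R₂ : Subgroup G) →
      t ≠ 1 → R₁ = R₂ := by
    intro R₁ R₂ t h1 h2 ht1
    apply Sylow.ext
    rw [hcentT R₁ t h1 ht1, hcentT R₂ t h2 ht1]
  obtain ⟨M, hM⟩ := Cfsg.Agent.Lib.Helper75.exists_isPModular 2 Nat.prime_two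
  obtain ⟨ζ₂, ζ₃, ζ₄, ε, hε, h21, h31, h23, h24, h34, hB, hval, hd2, hd3, hd4, -⟩ :=
    Cfsg.Agent.S0948.result M hM P hPK hone
  have hxC : x ∈ Subgroup.centralizer ({x} : Set G) := by
    rw [Subgroup.mem_centralizer_iff]
    intro y hy
    rw [Set.mem_singleton_iff] at hy
    rw [hy]
  have hxP : x ∈ (P : Subgroup G) := by
    rw [hPV]
    exact hxC
  obtain ⟨hv2, hv3, hv4⟩ := hval x hx
  have h41 : (ζ₄ : G → ℂ) ≠ (fun _ => 1) := by
    intro h
    rw [h] at hv4
    norm_num at hv4
  have hform := Cfsg.Agent.S4479.result M hM g₀ hg₀ hG hnc' P x hxP hx ζ₂ ζ₃ ζ₄ 1 ε (-1) hB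
    ⟨h21, h31, h41, h23, h24, h34⟩ ⟨Or.inl rfl, hε, Or.inr rfl⟩
    ⟨by rw [hv2]; norm_num, hv3, by rw [hv4]; norm_num⟩
  have hPab : (P : Subgroup G) ≤ Subgroup.centralizer ((P : Subgroup G) : Set G) := by
    rw [Subgroup.le_centralizer_iff_isMulCommutative]
    exact @IsKleinFour.isMulCommutative _ _ hPK
  have hcentP : Subgroup.centralizer ((P : Subgroup G) : Set G) =
      Subgroup.centralizer ({x} : Set G) := by
    apply le_antisymm
    · intro c hc
      rw [Subgroup.mem_centralizer_iff]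
      intro y hy
      rw [Set.mem_singleton_iff] at hy
      subst hy
      exact (Subgroup.mem_centralizer_iff.mp hc) y hxP
    · intro c hc
      rw [← hPV] at hc
      exact hPab hc
  rw [hcentP] at hform
  have hcpos : 0 < Nat.card ↥(Subgroup.centralizer ({x} : Set G)) := Nat.card_pos
  have hlt : Nat.card G < 18 * Nat.card ↥(Subgroup.centralizer ({x} : Set G)) :=
    card_lt_of_order_formula _ _ _ _ _ 1 ε (-1) rfl rfl hε hcpos hd3 hd4 hform
  rw [hC4] at hlt
  -- the normalizer of `P`
  have hNcard := card_sylow_mul_card_normalizer P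
  have hCN : Subgroup.centralizer ((P : Subgroup G) : Set G) ≤
      Subgroup.normalizer ((P : Subgroup G) : Set G) := Subgroup.centralizer_le_normalizer _
  have hrc := card_mul_relIndex_of_le hCN
  have hr1 : (Subgroup.centralizer ((P : Subgroup G) : Set G)).relIndex
      (Subgroup.normalizer ((P : Subgroup G) : Set G)) ≠ 1 := by
    intro h
    rw [Subgroup.relIndex_eq_one] at h
    apply hnc
    exact ⟨P, _, MonoidHom.normal_ker _, MonoidHom.ker_transferSylow_isComplement' P h⟩
  have hrodd : ¬ 2 ∣ (Subgroup.centralizer ((P : Subgroup G) : Set G)).relIndex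
      (Subgroup.normalizer ((P : Subgroup G) : Set G)) := by
    intro h
    apply P.not_dvd_index
    exact dvd_trans h (dvd_trans (Subgroup.relIndex_dvd_of_le_left _ hPab)
      (Subgroup.relIndex_dvd_index_of_le Subgroup.le_normalizer))
  rw [hcentP] at hrc hr1 hrodd
  rw [hC4] at hrc
  have hmod4 : Nat.card (Sylow 2 G) ≡ 1 [MOD 2 ^ 2] := by
    by_contra hmod
    obtain ⟨P', R', hPR, -, -, hcard⟩ := exists_sylow_pair_normalizing_inter hmod
    have hP'4 : Nat.card (P' : Subgroup G) = 4 := (hKlein P').card_four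
    rw [hP'4] at hcard
    have h2 : Nat.card ↥((P' : Subgroup G) ⊓ (R' : Subgroup G)) = 2 := by omega
    have hnt : Nontrivial ↥((P' : Subgroup G) ⊓ (R' : Subgroup G)) := by
      rw [← Finite.one_lt_card_iff_nontrivial, h2]
      norm_num
    obtain ⟨a, ha⟩ := exists_ne (1 : ↥((P' : Subgroup G) ⊓ (R' : Subgroup G)))
    have ha1 : (a : G) ≠ 1 := fun e => ha (Subtype.ext e)
    exact hPR (hTI P' R' a (Subgroup.mem_inf.mp a.2).1 (Subgroup.mem_inf.mp a.2).2 ha1)
  have hn1 : Nat.card (Sylow 2 G) ≠ 1 := fun h => hnP (sylow_normal_of_card_eq_one h P)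
  have hidx5 : Nat.card (Sylow 2 G) =
      (Subgroup.normalizer ((P : Subgroup G) : Set G)).index := P.card_eq_index_normalizer
  obtain ⟨r, hr⟩ : ∃ r, r = (Subgroup.centralizer ({x} : Set G)).relIndex
      (Subgroup.normalizer ((P : Subgroup G) : Set G)) := ⟨_, rfl⟩
  obtain ⟨n₂, hn₂⟩ : ∃ n₂, n₂ = Nat.card (Sylow 2 G) := ⟨_, rfl⟩
  rw [← hr] at hrc hr1 hrodd
  rw [← hn₂] at hNcard hmod4 hn1 hidx5
  have hr3 : 3 ≤ r := by
    have hr0 : r ≠ 0 := by
      rintro rfl
      have : 0 < Nat.card ↥(Subgroup.normalizer ((P : Subgroup G) : Set G)) := Nat.card_pos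
      omega
    omega
  have hn6 : n₂ < 6 := by
    have h1 : n₂ * (4 * r) < 18 * 4 := by
      rw [hrc, hNcard]
      exact hlt
    nlinarith
  have hmod' : n₂ % 4 = 1 := by
    have h := hmod4
    unfold Nat.ModEq at h
    norm_num at h
    exact h
  have hn5 : n₂ = 5 := by omega
  have hr3' : r = 3 := by
    rw [hn5, ← hrc] at hNcard
    omega
  have h60 : Nat.card G = 60 := by
    rw [← hNcard, hn5, ← hrc, hr3']
  -- the action on the cosets of the normalizer
  have hidx : (Subgroup.normalizer ((P : Subgroup G) : Set G)).index = 5 := by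
    rw [← hidx5, hn5]
  have hKn : (Cfsg.Agent.S0991.permRep
      (Subgroup.normalizer ((P : Subgroup G) : Set G))).ker.Normal := MonoidHom.normal_ker _
  have hKP : ∀ t, t ∈ (Cfsg.Agent.S0991.permRep
      (Subgroup.normalizer ((P : Subgroup G) : Set G))).ker → t ∈ (P : Subgroup G) → t = 1 := by
    intro t htK htP
    by_contra ht1
    obtain ⟨R, hRP⟩ : ∃ R : Sylow 2 G, R ≠ P := by
      by_contra hall
      push Not at hall
      apply hn1
      rw [hn₂]
      exact Nat.card_eq_one_iff_unique.mpr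
        ⟨⟨fun a b => (hall a).trans (hall b).symm⟩, ⟨P⟩⟩
    obtain ⟨g, hg⟩ := MulAction.exists_smul_eq G P R
    have h1 : g⁻¹ * t * g ∈ (Cfsg.Agent.S0991.permRep
        (Subgroup.normalizer ((P : Subgroup G) : Set G))).ker := by
      have := hKn.conj_mem t htK g⁻¹
      simpa using this
    have h2 : g⁻¹ * t * g ∈ Subgroup.normalizer ((P : Subgroup G) : Set G) :=
      Cfsg.Agent.S0991.permRep_ker_le _ h1
    have h3 : orderOf (g⁻¹ * t * g) = 2 := by
      have := orderOf_conj_eq g⁻¹ t
      rw [inv_inv] at this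
      rw [this]
      exact hord P t htP ht1
    have h4 : g⁻¹ * t * g ∈ (P : Subgroup G) :=
      mem_sylow_of_mem_normalizer P _ (isPGroup_zpowers_of_orderOf_eq _ h3) h2
    have h5 : t ∈ (R : Subgroup G) := by
      rw [← hg, mem_smul_sylow_iff]
      exact h4
    exact hRP (hTI R P t h5 htP ht1)
  have hker : (Cfsg.Agent.S0991.permRep
      (Subgroup.normalizer ((P : Subgroup G) : Set G))).ker = ⊥ := by
    rw [eq_bot_iff]
    intro k hk
    have hkH : k ∈ Subgroup.normalizer ((P : Subgroup G) : Set G) :=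
      Cfsg.Agent.S0991.permRep_ker_le _ hk
    have hkc : k ∈ Subgroup.centralizer ((P : Subgroup G) : Set G) := by
      rw [Subgroup.mem_centralizer_iff]
      intro u hu
      have h1 : k * u * k⁻¹ * u⁻¹ ∈ (Cfsg.Agent.S0991.permRep
          (Subgroup.normalizer ((P : Subgroup G) : Set G))).ker := by
        have h' := hKn.conj_mem k⁻¹ (inv_mem hk) u
        have := mul_mem hk h'
        have e : k * (u * k⁻¹ * u⁻¹) = k * u * k⁻¹ * u⁻¹ := by group
        rwa [e] at this
      have h2 : k * u * k⁻¹ * u⁻¹ ∈ (P : Subgroup G) := by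
        have h' : k * u * k⁻¹ ∈ (P : Subgroup G) :=
          (Subgroup.mem_normalizer_iff.mp hkH u).mp hu
        exact mul_mem h' (inv_mem hu)
      have h3 := hKP _ h1 h2
      calc u * k = (k * u * k⁻¹ * u⁻¹)⁻¹ * (k * u) := by group
        _ = k * u := by rw [h3]; group
    rw [hcentP, ← hPV] at hkc
    rw [Subgroup.mem_bot]
    exact hKP k hk hkc
  have hinj : Function.Injective (Cfsg.Agent.S0991.permRep
      (Subgroup.normalizer ((P : Subgroup G) : Set G))) := (MonoidHom.ker_eq_bot_iff _).1 hker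
  exact iso_alt5_of_injective_perm h60 _ hidx _ hinj

end Cfsg.Agent.Lib.Helper17
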