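import Mathlib
import Cfsg.Agent.Lib.Helper17.InvolutionCount
import Cfsg.Agent.Lib.Helper17.InvolutionParity
import Cfsg.Agent.Lib.Helper17.PrimeSylow
import Cfsg.Agent.Lib.Helper17.SimpleTools
import Cfsg.Agent.Lib.Helper17.SimpleTools2
import Cfsg.Agent.Lib.Helper17.SimpleIndex
import Cfsg.Agent.Lib.Helper17.SylowInter
import Cfsg.Agent.Lib.Helper17.SylowSub
import Cfsg.Agent.Lib.Helper17.Burnside

set_option autoImplicit false

namespace Cfsg.Agent.Lib.Helper17.Simple1440

open MulAction Subgroup

variable {G : Type*} [Group G] [Finite G] [IsSimpleGroup G]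

theorem fact5 : Fact (Nat.Prime 5) := ⟨by norm_num⟩
theorem fact3 : Fact (Nat.Prime 3) := ⟨by norm_num⟩
theorem fact2 : Fact (Nat.Prime 2) := ⟨by norm_num⟩

attribute [local instance] fact5 fact3 fact2

theorem not_comm (h : Nat.card G = 1440) : ¬ IsMulCommutative G :=
  not_comm_of_simple_of_not_prime (by rw [h]; norm_num)

theorem index_ge_seven (h : Nat.card G = 1440) (H : Subgroup G) (hH : H ≠ ⊤) : 7 ≤ H.index := by
  have hfact := two_mul_card_dvd_factorial_index_of_simple (not_comm h) H hH
  rw [h] at hfact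
  by_contra hlt
  have hle : H.index ≤ 6 := by omega
  have h0 : H.index ≠ 0 := Subgroup.index_ne_zero_of_finite
  generalize H.index = k at *
  interval_cases k <;> revert hfact <;> decide

theorem center_eq_bot (h : Nat.card G = 1440) : center G = ⊥ := by
  have hnorm : (center G).Normal := inferInstance
  rcases hnorm.eq_bot_or_eq_top with hb | ht
  · exact hb
  · exfalso
    apply not_comm h
    refine ⟨⟨fun a b => ?_⟩⟩
    have ha : a ∈ center G := by rw [ht]; trivial
    exact ((Subgroup.mem_center_iff.1 ha) b).symm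

/-- The centralizer of a nontrivial subgroup is a proper subgroup. -/
theorem centralizer_ne_top (h : Nat.card G = 1440) (D : Subgroup G) (hD : D ≠ ⊥) :
    centralizer (D : Set G) ≠ ⊤ := by
  intro htop
  apply hD
  rw [eq_bot_iff, ← center_eq_bot h]
  intro d hd
  rw [Subgroup.mem_center_iff]
  intro g
  have hg : g ∈ centralizer (D : Set G) := by rw [htop]; trivial
  exact (Subgroup.mem_centralizer_iff.1 hg d hd).symm

theorem card_sylow5 (h : Nat.card G = 1440) (P : Sylow 5 G) :
    Nat.card (P : Subgroup G) = 5 := by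
  have hcard : Nat.card G = 5 ^ 1 * 288 := by rw [h]; norm_num
  rw [sylow_card_of_card_eq P hcard (by norm_num)]; norm_num

theorem card_sylow3 (h : Nat.card G = 1440) (Q : Sylow 3 G) :
    Nat.card (Q : Subgroup G) = 9 := by
  have hcard : Nat.card G = 3 ^ 2 * 160 := by rw [h]; norm_num
  rw [sylow_card_of_card_eq Q hcard (by norm_num)]; norm_num

theorem card_sylow5_cases (h : Nat.card G = 1440) :
    Nat.card (Sylow 5 G) = 16 ∨ Nat.card (Sylow 5 G) = 36 := by
  have hG := not_comm h
  have hcard : Nat.card G = 5 ^ 1 * 288 := by rw [h]; norm_num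
  have hdvd : Nat.card (Sylow 5 G) ∣ 288 := card_sylow_dvd_of_card_eq hcard (by norm_num)
  have hmod : Nat.card (Sylow 5 G) % 5 = 1 := card_sylow_modEq_one 5 G
  have hne1 : Nat.card (Sylow 5 G) ≠ 1 :=
    card_sylow_ne_one_of_simple hcard (by norm_num) (by norm_num) (by norm_num)
  have hfact := two_mul_card_dvd_factorial_card_sylow_of_simple hG hne1
  rw [h] at hfact
  obtain ⟨P⟩ := (Sylow.nonempty : Nonempty (Sylow 5 G))
  have hN := card_sylow_mul_card_normalizer P
  rw [h] at hN
  have h2 := mul_relIndex_cent_norm_dvd_of_card_prime P (card_sylow5 h P)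
  have h1 := relIndex_cent_norm_dvd_pred_of_card_prime P (card_sylow5 h P)
  have h3 := relIndex_cent_norm_ne_one_of_simple hG P (by rw [h]; norm_num)
  have hle : Nat.card (Sylow 5 G) ≤ 288 := Nat.le_of_dvd (by norm_num) hdvd
  have hcases : Nat.card (Sylow 5 G) = 6 ∨ Nat.card (Sylow 5 G) = 16 ∨
      Nat.card (Sylow 5 G) = 36 ∨ Nat.card (Sylow 5 G) = 96 := by
    generalize Nat.card (Sylow 5 G) = c at *
    interval_cases c <;> omega
  rcases hcases with hc | hc | hc | hc
  · exfalso
    rw [hc] at hfact
    revert hfact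
    decide
  · exact Or.inl hc
  · exact Or.inr hc
  · exfalso
    rw [hc] at hN
    have hN15 : Nat.card (normalizer ((P : Subgroup G) : Set G)) = 15 := by omega
    rw [hN15] at h2
    generalize (centralizer ((P : Subgroup G) : Set G)).relIndex
      (normalizer ((P : Subgroup G) : Set G)) = r at *
    have hr3 : r ∣ 3 := Nat.dvd_of_mul_dvd_mul_left (by norm_num : 0 < 5) h2
    have hr4 : r ∣ 4 := h1
    have hle3 : r ≤ 3 := Nat.le_of_dvd (by norm_num) hr3
    interval_cases r <;> omega


/-- If `Q ≤ C(P)` then `g • Q ≤ C(g • P)`. -/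
theorem smul_le_centralizer_smul {p q : ℕ} (P : Sylow p G) (Q : Sylow q G)
    (hQP : (Q : Subgroup G) ≤ centralizer ((P : Subgroup G) : Set G)) (g : G) :
    ((g • Q : Sylow q G) : Subgroup G) ≤
      centralizer (((g • P : Sylow p G) : Subgroup G) : Set G) := by
  intro x hx
  rw [mem_smul_sylow_iff] at hx
  rw [Subgroup.mem_centralizer_iff]
  intro y hy
  have hy' : g⁻¹ * y * g ∈ (P : Subgroup G) := (mem_smul_sylow_iff P g y).1 hy
  have hc := Subgroup.mem_centralizer_iff.1 (hQP hx) _ hy'
  have h1 : y * x = g * ((g⁻¹ * y * g) * (g⁻¹ * x * g)) * g⁻¹ := by group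
  have h2 : x * y = g * ((g⁻¹ * x * g) * (g⁻¹ * y * g)) * g⁻¹ := by group
  rw [h1, h2, hc]

/-- The case `n_5 = 16`. -/
theorem false_of_card_sylow5_eq_16 (h : Nat.card G = 1440) (hn : Nat.card (Sylow 5 G) = 16) :
    False := by
  have hG := not_comm h
  have h5dvd : 5 ∣ Nat.card G := by rw [h]; norm_num
  have hN : ∀ P : Sylow 5 G, Nat.card (normalizer ((P : Subgroup G) : Set G)) = 90 := by
    intro P
    have := card_sylow_mul_card_normalizer P
    rw [hn, h] at this
    omega
  have hrel : ∀ P : Sylow 5 G, (centralizer ((P : Subgroup G) : Set G)).relIndex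
      (normalizer ((P : Subgroup G) : Set G)) = 2 := by
    intro P
    have h1 := relIndex_cent_norm_dvd_pred_of_card_prime P (card_sylow5 h P)
    have h2 := mul_relIndex_cent_norm_dvd_of_card_prime P (card_sylow5 h P)
    have h3 := relIndex_cent_norm_ne_one_of_simple hG P h5dvd
    rw [hN P] at h2
    generalize (centralizer ((P : Subgroup G) : Set G)).relIndex
      (normalizer ((P : Subgroup G) : Set G)) = r at *
    have hr18 : r ∣ 18 := Nat.dvd_of_mul_dvd_mul_left (by norm_num : 0 < 5) h2
    have hr4 : r ∣ 4 := h1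
    have hle : r ≤ 4 := Nat.le_of_dvd (by norm_num) hr4
    interval_cases r <;> omega
  have hC : ∀ P : Sylow 5 G, Nat.card (centralizer ((P : Subgroup G) : Set G)) = 45 := by
    intro P
    have := card_mul_relIndex_of_le
      (Subgroup.centralizer_le_normalizer (s := ((P : Subgroup G) : Set G)))
    rw [hrel P, hN P] at this
    omega
  -- a Sylow 3-subgroup centralizing a Sylow 5-subgroup
  obtain ⟨P⟩ := (Sylow.nonempty : Nonempty (Sylow 5 G))
  obtain ⟨Q, hQP⟩ : ∃ Q : Sylow 3 G,
      (Q : Subgroup G) ≤ centralizer ((P : Subgroup G) : Set G) := by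
    set C := centralizer ((P : Subgroup G) : Set G) with hCdef
    obtain ⟨K', hK'⟩ := Sylow.exists_subgroup_card_pow_prime 3 (n := 2) (G := C)
      (by rw [hC P]; norm_num)
    set K : Subgroup G := K'.map C.subtype with hKdef
    have hKcard : Nat.card K = 9 := by rw [card_map_subtype, hK']; norm_num
    have hKC : K ≤ C := map_subtype_le' C K'
    have hK3 : IsPGroup 3 K := IsPGroup.of_card (n := 2) (by rw [hKcard]; norm_num)
    obtain ⟨Q, hQ⟩ := hK3.exists_le_sylow
    have hKQ : K = (Q : Subgroup G) := by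
      apply Subgroup.eq_of_le_of_card_ge hQ
      rw [hKcard, card_sylow3 h Q]
    exact ⟨Q, hKQ ▸ hKC⟩
  have hall : ∀ Q' : Sylow 3 G, ∃ P' : Sylow 5 G,
      (Q' : Subgroup G) ≤ centralizer ((P' : Subgroup G) : Set G) := by
    intro Q'
    obtain ⟨g, hg⟩ := MulAction.exists_smul_eq G Q Q'
    refine ⟨g • P, ?_⟩
    rw [← hg]
    exact smul_le_centralizer_smul P Q hQP g
  -- the number of Sylow 3-subgroups
  have hn3 : ¬ Nat.card (Sylow 3 G) ≡ 1 [MOD 3 ^ 2] := by
    have hNQ := card_sylow_mul_card_normalizer Q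
    rw [h] at hNQ
    have h9 : 9 ∣ Nat.card (normalizer ((Q : Subgroup G) : Set G)) := by
      have := Subgroup.card_dvd_of_le (le_normalizer : (Q : Subgroup G) ≤
        normalizer ((Q : Subgroup G) : Set G))
      rwa [card_sylow3 h Q] at this
    have h5 : 5 ∣ Nat.card (normalizer ((Q : Subgroup G) : Set G)) := by
      have hPQ : (P : Subgroup G) ≤ normalizer ((Q : Subgroup G) : Set G) :=
        (Subgroup.le_centralizer_iff.1 hQP).trans (Subgroup.centralizer_le_normalizer _)
      have := Subgroup.card_dvd_of_le hPQ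
      rwa [card_sylow5 h P] at this
    have h45 : 45 ∣ Nat.card (normalizer ((Q : Subgroup G) : Set G)) :=
      Nat.Coprime.mul_dvd_of_dvd_of_dvd (by norm_num : Nat.Coprime 9 5) h9 h5
    have hmod : Nat.card (Sylow 3 G) % 3 = 1 := card_sylow_modEq_one 3 G
    have hcard : Nat.card G = 3 ^ 2 * 160 := by rw [h]; norm_num
    have hne1 : Nat.card (Sylow 3 G) ≠ 1 :=
      card_sylow_ne_one_of_simple hcard (by norm_num) (by norm_num) (by norm_num)
    obtain ⟨c, hc⟩ := h45
    rw [hc] at hNQ
    have h32 : Nat.card (Sylow 3 G) * c = 32 := by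
      have : 45 * (Nat.card (Sylow 3 G) * c) = 45 * 32 := by
        have e : 45 * (Nat.card (Sylow 3 G) * c) = Nat.card (Sylow 3 G) * (45 * c) := by ring
        rw [e, hNQ]
      exact Nat.eq_of_mul_eq_mul_left (by norm_num) this
    have hd : Nat.card (Sylow 3 G) ∣ 32 := Dvd.intro _ h32
    have hle : Nat.card (Sylow 3 G) ≤ 32 := Nat.le_of_dvd (by norm_num) hd
    unfold Nat.ModEq
    generalize Nat.card (Sylow 3 G) = n3 at *
    interval_cases n3 <;> omega
  obtain ⟨Q1, Q2, hne, hQ1N, hQ2N, hDcard⟩ := exists_sylow_pair_normalizing_inter hn3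
  rw [card_sylow3 h Q1] at hDcard
  set D : Subgroup G := (Q1 : Subgroup G) ⊓ (Q2 : Subgroup G) with hD
  have hD3 : Nat.card D = 3 := by omega
  have hDbot : D ≠ ⊥ := by
    intro hb
    rw [hb, Subgroup.card_bot] at hD3
    omega
  set H := centralizer (D : Set G) with hH
  have hHtop : H ≠ ⊤ := centralizer_ne_top h D hDbot
  have hcommQ : ∀ Q' : Sylow 3 G, ∀ a ∈ (Q' : Subgroup G), ∀ b ∈ (Q' : Subgroup G),
      a * b = b * a := by
    intro Q' a ha b hb
    have hc : IsMulCommutative (Q' : Subgroup G) :=
      IsPGroup.isMulCommutative_of_card_eq_prime_sq (p := 3) (by rw [card_sylow3 h Q']; norm_num)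
    have := hc.is_comm.comm (⟨a, ha⟩ : (Q' : Subgroup G)) ⟨b, hb⟩
    exact congrArg Subtype.val this
  have hQ1H : (Q1 : Subgroup G) ≤ H := by
    intro x hx
    rw [hH, Subgroup.mem_centralizer_iff]
    intro d hd
    exact hcommQ Q1 d hd.1 x hx
  have hQ2H : (Q2 : Subgroup G) ≤ H := by
    intro x hx
    rw [hH, Subgroup.mem_centralizer_iff]
    intro d hd
    exact hcommQ Q2 d hd.2 x hx
  obtain ⟨P1, hP1⟩ := hall Q1
  obtain ⟨P2, hP2⟩ := hall Q2
  have hP1H : (P1 : Subgroup G) ≤ H :=
    (Subgroup.le_centralizer_iff.1 hP1).trans (Subgroup.centralizer_le inf_le_left)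
  have hP2H : (P2 : Subgroup G) ≤ H :=
    (Subgroup.le_centralizer_iff.1 hP2).trans (Subgroup.centralizer_le inf_le_right)
  by_cases hPP : P1 = P2
  · -- both `Q1` and `Q2` lie in `C(P1)` of order `45`
    set C' := centralizer ((P1 : Subgroup G) : Set G) with hC'
    have hQ2C : (Q2 : Subgroup G) ≤ C' := by rw [hC', hPP]; exact hP2
    have h4 : 3 + 1 ≤ Nat.card (Sylow 3 C') := succ_le_card_sylow_subgroup C' Q1 Q2 hne hP1 hQ2C
    have hdvd := card_sylow_subgroup_mul_card_dvd C' Q1 hP1
    rw [card_sylow3 h Q1, hC P1] at hdvd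
    have hmod : Nat.card (Sylow 3 C') % 3 = 1 := card_sylow_modEq_one 3 C'
    have h5 : Nat.card (Sylow 3 C') ∣ 5 :=
      Nat.dvd_of_mul_dvd_mul_right (by norm_num : 0 < 9) (by simpa using hdvd)
    have hle : Nat.card (Sylow 3 C') ≤ 5 := Nat.le_of_dvd (by norm_num) h5
    generalize Nat.card (Sylow 3 C') = m at *
    interval_cases m <;> omega
  · have h6 : 5 + 1 ≤ Nat.card (Sylow 5 H) := succ_le_card_sylow_subgroup H P1 P2 hPP hP1H hP2H
    have hmulH := card_sylow_mul_card_normalizer (P1.subtype hP1H)
    have h45 : 45 ∣ Nat.card (normalizer (((P1.subtype hP1H : Sylow 5 H) : Subgroup H) :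
        Set H)) := by
      rw [Sylow.coe_subtype, ← Subgroup.subgroupOf_normalizer_eq hP1H,
        card_subgroupOf_eq_card_inf']
      have h5 : 5 ∣ Nat.card (normalizer ((P1 : Subgroup G) : Set G) ⊓ H : Subgroup G) := by
        have := Subgroup.card_dvd_of_le
          (le_inf (le_normalizer : (P1 : Subgroup G) ≤ normalizer ((P1 : Subgroup G) : Set G))
            hP1H)
        rwa [card_sylow5 h P1] at this
      have h9 : 9 ∣ Nat.card (normalizer ((P1 : Subgroup G) : Set G) ⊓ H : Subgroup G) := by
        have := Subgroup.card_dvd_of_le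
          (le_inf (hP1.trans (Subgroup.centralizer_le_normalizer _)) hQ1H)
        rwa [card_sylow3 h Q1] at this
      exact Nat.Coprime.mul_dvd_of_dvd_of_dvd (by norm_num : Nat.Coprime 5 9) h5 h9
    have hidx := index_ge_seven h H hHtop
    have hHc := H.index_mul_card
    rw [h] at hHc
    obtain ⟨c, hc⟩ := h45
    rw [hc] at hmulH
    have hcpos : 0 < c := by
      rcases Nat.eq_zero_or_pos c with h0 | h0
      · rw [h0, mul_zero] at hc
        have : 0 < Nat.card (normalizer (((P1.subtype hP1H : Sylow 5 H) : Subgroup H) :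
            Set H)) := Nat.card_pos
        omega
      · exact h0
    nlinarith


omit [Finite G] [IsSimpleGroup G] in
/-- A set closed under conjugation by an element `y` with `y ^ p = 1`, without fixed points, has
cardinality divisible by `p`. -/
theorem dvd_card_of_conj_invariant (p : ℕ) [hp : Fact p.Prime] (y : G) (hy : y ^ p = 1)
    (S : Set G) [Finite S] (hS : ∀ s ∈ S, y * s * y⁻¹ ∈ S) (hS' : ∀ s ∈ S, y⁻¹ * s * y ∈ S)
    (hfix : ∀ s ∈ S, y * s * y⁻¹ ≠ s) : p ∣ Nat.card S := by
  classical
  have := Fintype.ofFinite S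
  let σ : Equiv.Perm S :=
    { toFun := fun s => ⟨y * s.1 * y⁻¹, hS s.1 s.2⟩
      invFun := fun s => ⟨y⁻¹ * s.1 * y, hS' s.1 s.2⟩
      left_inv := fun s => Subtype.ext (by simp [mul_assoc])
      right_inv := fun s => Subtype.ext (by simp [mul_assoc]) }
  have hpow : ∀ (k : ℕ) (s : S), ((σ ^ k) s).1 = y ^ k * s.1 * (y ^ k)⁻¹ := by
    intro k
    induction k with
    | zero => intro s; simp
    | succ k ih =>
      intro s
      rw [pow_succ', Equiv.Perm.mul_apply]
      show y * ((σ ^ k) s).1 * y⁻¹ = _
      rw [ih s, pow_succ']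
      group
  have hσ : σ ^ p ^ 1 = 1 := by
    rw [pow_one]
    ext s
    rw [hpow p s, hy]
    simp
  by_contra hdvd
  rw [Nat.card_eq_fintype_card] at hdvd
  obtain ⟨a, ha⟩ := Equiv.Perm.exists_fixed_point_of_prime hdvd hσ
  exact hfix a.1 a.2 (congrArg Subtype.val ha)

omit [IsSimpleGroup G] in
/-- An involution normalizing but not centralizing a Sylow subgroup of prime order inverts it. -/
theorem conj_eq_inv_of_involution {p : ℕ} [hp : Fact p.Prime] (P : Sylow p G)
    (hP : Nat.card (P : Subgroup G) = p) (s : G) (hsN : s ∈ normalizer ((P : Subgroup G) : Set G))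
    (hsC : s ∉ centralizer ((P : Subgroup G) : Set G)) (hss : s * s = 1) :
    ∀ x ∈ (P : Subgroup G), s * x * s⁻¹ = x⁻¹ := by
  intro x hx
  have hsinv : s⁻¹ = s := inv_eq_of_mul_eq_one_right hss
  have hc : IsCyclic (P : Subgroup G) := isCyclic_of_prime_card hP
  have hcomm : ∀ a ∈ (P : Subgroup G), ∀ b ∈ (P : Subgroup G), a * b = b * a := by
    intro a ha b hb
    have := IsCyclic.commGroup.mul_comm (⟨a, ha⟩ : (P : Subgroup G)) ⟨b, hb⟩
    exact congrArg Subtype.val this
  have hx' : s * x * s⁻¹ ∈ (P : Subgroup G) := (Subgroup.mem_normalizer_iff.1 hsN x).1 hx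
  set z := x * (s * x * s⁻¹) with hz
  have hzP : z ∈ (P : Subgroup G) := (P : Subgroup G).mul_mem hx hx'
  have hsz : s * z = z * s := by
    have h1 : s * z * s⁻¹ = z := by
      rw [hz]
      calc s * (x * (s * x * s⁻¹)) * s⁻¹ = (s * x * s⁻¹) * ((s * s) * x * (s⁻¹ * s⁻¹)) := by group
        _ = (s * x * s⁻¹) * x := by rw [hss, hsinv, hss]; group
        _ = x * (s * x * s⁻¹) := hcomm _ hx' _ hx
    calc s * z = (s * z * s⁻¹) * s := by group
      _ = z * s := by rw [h1]
  by_cases hz1 : z = 1
  · have : x * (s * x * s⁻¹) = 1 := hz1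
    exact (eq_inv_of_mul_eq_one_right this)
  · exact absurd (mem_centralizer_of_commute_of_card_prime (P : Subgroup G) hp.out hP hzP hz1 hsz)
      hsC


/-- The case `n_5 = 36`, `|C(P)| = 10`. -/
theorem false_of_relIndex_four (h : Nat.card G = 1440) (hn : Nat.card (Sylow 5 G) = 36)
    (P : Sylow 5 G) (hr : (centralizer ((P : Subgroup G) : Set G)).relIndex
      (normalizer ((P : Subgroup G) : Set G)) = 4) : False := by
  classical
  have hG := not_comm h
  have hP := card_sylow5 h P
  set N := normalizer ((P : Subgroup G) : Set G) with hNdef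
  set C := centralizer ((P : Subgroup G) : Set G) with hCdef
  have hCN : C ≤ N := Subgroup.centralizer_le_normalizer _
  have hNcard : Nat.card N = 40 := by
    have : Nat.card (Sylow 5 G) * Nat.card N = Nat.card G := card_sylow_mul_card_normalizer P
    rw [hn, h] at this
    omega
  have hCcard : Nat.card C = 10 := by
    have := card_mul_relIndex_of_le hCN
    rw [hr, hNcard] at this
    omega
  have hPC : (P : Subgroup G) ≤ C := by
    have hc : IsCyclic (P : Subgroup G) := isCyclic_of_prime_card hP
    intro a ha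
    rw [hCdef, Subgroup.mem_centralizer_iff]
    intro b hb
    have := IsCyclic.commGroup.mul_comm (⟨b, hb⟩ : (P : Subgroup G)) ⟨a, ha⟩
    exact congrArg Subtype.val this
  -- the involution of `C`
  obtain ⟨u, huC, hu⟩ := exists_mem_orderOf_eq_of_dvd_card C 2 (by rw [hCcard]; norm_num)
  have huu : u * u = 1 := by
    have := pow_orderOf_eq_one u
    rwa [hu, pow_two] at this
  have huinv : u⁻¹ = u := inv_eq_of_mul_eq_one_right huu
  have hnotP : ∀ s : G, orderOf s = 2 → s ∉ (P : Subgroup G) := by
    intro s hs hsP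
    have := Subgroup.orderOf_dvd_natCard _ hsP
    rw [hs, hP] at this
    revert this
    decide
  have huniq : ∀ s ∈ C, orderOf s = 2 → s = u := by
    intro s hsC hs
    have hidx : ((P : Subgroup G).subgroupOf C).index = 2 := by
      have h1 := card_mul_relIndex_of_le hPC
      rw [hP, hCcard] at h1
      have : (P : Subgroup G).relIndex C = 2 := by omega
      exact this
    have hmem := Subgroup.mul_mem_iff_of_index_two hidx (a := (⟨s, hsC⟩ : C)) (b := ⟨u, huC⟩)
    have hzP : s * u ∈ (P : Subgroup G) := by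
      have : (⟨s, hsC⟩ : C) * ⟨u, huC⟩ ∈ (P : Subgroup G).subgroupOf C := by
        rw [hmem]
        constructor
        · intro h1
          exact absurd (Subgroup.mem_subgroupOf.1 h1) (hnotP s hs)
        · intro h1
          exact absurd (Subgroup.mem_subgroupOf.1 h1) (hnotP u hu)
      exact Subgroup.mem_subgroupOf.1 this
    set z := s * u with hz
    have hzu : z * u = u * z := (Subgroup.mem_centralizer_iff.1 huC z hzP)
    have hs' : s = z * u := by rw [hz, mul_assoc, huu, mul_one]
    have hss : s * s = 1 := by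
      have := pow_orderOf_eq_one s
      rwa [hs, pow_two] at this
    have hzz : z * z = 1 := by
      calc z * z = z * z * (u * u) := by rw [huu, mul_one]
        _ = (z * u) * (z * u) := by
          calc z * z * (u * u) = z * (z * u) * u := by group
            _ = z * (u * z) * u := by rw [hzu]
            _ = (z * u) * (z * u) := by group
        _ = s * s := by rw [← hs']
        _ = 1 := hss
    have hz1 : z = 1 := by
      by_contra hz1
      have h2 : orderOf z = 2 := orderOf_eq_prime (by rw [pow_two]; exact hzz) hz1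
      exact hnotP z h2 hzP
    rw [hs', hz1, one_mul]
  -- `N` centralizes `u`
  have hNu : ∀ n ∈ N, n * u = u * n := by
    intro n hn'
    have hconjC : n * u * n⁻¹ ∈ C := by
      rw [hCdef, Subgroup.mem_centralizer_iff]
      intro x hx
      have hx' : n⁻¹ * x * n ∈ (P : Subgroup G) := by
        have := (Subgroup.mem_normalizer_iff.1 (N.inv_mem hn') x).1 hx
        simpa using this
      have hc := Subgroup.mem_centralizer_iff.1 huC _ hx'
      calc x * (n * u * n⁻¹) = n * ((n⁻¹ * x * n) * u) * n⁻¹ := by group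
        _ = n * (u * (n⁻¹ * x * n)) * n⁻¹ := by rw [hc]
        _ = n * u * n⁻¹ * x := by group
    have hord : orderOf (n * u * n⁻¹) = 2 := by rw [orderOf_conj_eq, hu]
    have := huniq _ hconjC hord
    calc n * u = (n * u * n⁻¹) * n := by group
      _ = u * n := by rw [this]
  set H := centralizer ({u} : Set G) with hHdef
  have hNH : N ≤ H := by
    intro n hn'
    rw [hHdef, Subgroup.mem_centralizer_singleton_iff]
    exact hNu n hn'
  have hu1 : u ≠ 1 := by
    intro h1
    rw [h1, orderOf_one] at hu
    omega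
  have hHtop : H ≠ ⊤ := by
    intro htop
    have hmem : u ∈ center G := by
      rw [Subgroup.mem_center_iff]
      intro g
      have hg : g ∈ H := by rw [htop]; trivial
      rw [hHdef, Subgroup.mem_centralizer_singleton_iff] at hg
      exact hg
    rw [center_eq_bot h, Subgroup.mem_bot] at hmem
    exact hu1 hmem
  have hPH : (P : Subgroup G) ≤ H := (le_normalizer.trans hNH)
  have hHcard : Nat.card H = 40 := by
    have hmulH := card_sylow_mul_card_normalizer (P.subtype hPH)
    have h40 : Nat.card (normalizer (((P.subtype hPH : Sylow 5 H) : Subgroup H) : Set H)) =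
        40 := by
      rw [Sylow.coe_subtype, ← Subgroup.subgroupOf_normalizer_eq hPH,
        card_subgroupOf_eq_card_inf', inf_of_le_left hNH, hNcard]
    rw [h40] at hmulH
    have hmod : Nat.card (Sylow 5 H) % 5 = 1 := card_sylow_modEq_one 5 H
    have hidx := index_ge_seven h H hHtop
    have hHc := H.index_mul_card
    rw [h] at hHc
    have hle : Nat.card (Sylow 5 H) ≤ 5 := by
      by_contra hlt
      have : 6 ≤ Nat.card (Sylow 5 H) := by omega
      nlinarith
    have hpos : 0 < Nat.card (Sylow 5 H) := Nat.card_pos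
    have : Nat.card (Sylow 5 H) = 1 := by
      generalize Nat.card (Sylow 5 H) = m at *
      interval_cases m <;> omega
    rw [this] at hmulH
    omega
  have hK : Nat.card {g : G // IsConj u g} = 36 := by
    have := card_conj_mul_card_centralizer u
    rw [hHcard, h] at this
    omega
  have hidxN : N.index = 36 := by
    have e : Nat.card (Sylow 5 G) = N.index := P.card_eq_index_normalizer
    rw [← e, hn]
  have hform := card_fixedBy_mul_card_conj N u
  rw [hK, hidxN] at hform
  have hfk : Nat.card (fixedBy (G ⧸ N) u) = Nat.card {g : G // IsConj u g ∧ g ∈ N} := by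
    have : 36 * Nat.card (fixedBy (G ⧸ N) u) = 36 * Nat.card {g : G // IsConj u g ∧ g ∈ N} := by
      rw [mul_comm, hform]
    exact Nat.eq_of_mul_eq_mul_left (by norm_num) this
  have hpar := four_dvd_index_sub_card_fixedBy_of_simple hG N u (by rw [pow_two]; exact huu)
  rw [hidxN, hfk] at hpar
  -- every conjugate of `u` in `C` is `u`
  have hconjC : ∀ g : G, IsConj u g → g ∈ C → g = u := by
    intro g hg hgC
    exact huniq g hgC (by rw [orderOf_eq_of_isConj hg, hu])
  have hinvol : ∀ g : G, IsConj u g → g * g = 1 := by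
    intro g hg
    have h2 : orderOf g = 2 := by rw [orderOf_eq_of_isConj hg, hu]
    have := pow_orderOf_eq_one g
    rwa [h2, pow_two] at this
  -- upper bound
  have hk11 : Nat.card {g : G // IsConj u g ∧ g ∈ N} ≤ 11 := by
    by_cases hex : ∃ w : G, IsConj u w ∧ w ∈ N ∧ w ∉ C
    · obtain ⟨w, hwu, hwN, hwC⟩ := hex
      have hwinv := conj_eq_inv_of_involution P hP w hwN hwC (hinvol w hwu)
      let φ : {g : G // IsConj u g ∧ g ∈ N} → Option C := fun g =>
        if hgC : g.1 ∈ C then none else some ⟨g.1 * w⁻¹, by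
          have hginv := conj_eq_inv_of_involution P hP g.1 g.2.2 hgC (hinvol g.1 g.2.1)
          rw [hCdef, Subgroup.mem_centralizer_iff]
          intro x hx
          have h1 : w⁻¹ * x * w = x⁻¹ := by
            have := hwinv x⁻¹ ((P : Subgroup G).inv_mem hx)
            rw [inv_inv] at this
            calc w⁻¹ * x * w = w⁻¹ * (w * x⁻¹ * w⁻¹) * w := by rw [this]
              _ = x⁻¹ := by group
          have h2 := hginv x⁻¹ ((P : Subgroup G).inv_mem hx)
          rw [inv_inv] at h2
          calc x * (g.1 * w⁻¹) = g.1 * (g.1⁻¹ * x * g.1) * w⁻¹ := by group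
            _ = g.1 * w⁻¹ * (w * (g.1⁻¹ * x * g.1) * w⁻¹) := by group
            _ = g.1 * w⁻¹ * x := by
              have h3 : g.1⁻¹ * x * g.1 = x⁻¹ := by
                calc g.1⁻¹ * x * g.1 = g.1⁻¹ * (g.1 * x⁻¹ * g.1⁻¹) * g.1 := by rw [h2]
                  _ = x⁻¹ := by group
              rw [h3, hwinv x⁻¹ ((P : Subgroup G).inv_mem hx), inv_inv]⟩
      have hφ : Function.Injective φ := by
        intro a b hab
        by_cases haC : a.1 ∈ C
        · by_cases hbC : b.1 ∈ C
          · apply Subtype.ext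
            rw [hconjC a.1 a.2.1 haC, hconjC b.1 b.2.1 hbC]
          · simp only [φ, dif_pos haC, dif_neg hbC] at hab
            exact absurd hab (by simp)
        · by_cases hbC : b.1 ∈ C
          · simp only [φ, dif_neg haC, dif_pos hbC] at hab
            exact absurd hab (by simp)
          · simp only [φ, dif_neg haC, dif_neg hbC, Option.some.injEq, Subtype.mk.injEq] at hab
            exact Subtype.ext (mul_right_cancel hab)
      have := Nat.card_le_card_of_injective φ hφ
      rw [Finite.card_option, hCcard] at this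
      exact this
    · push Not at hex
      have : Nat.card {g : G // IsConj u g ∧ g ∈ N} ≤ 1 := by
        rw [Finite.card_le_one_iff_subsingleton]
        refine ⟨fun a b => ?_⟩
        apply Subtype.ext
        rw [hconjC a.1 a.2.1 (hex a.1 a.2.1 a.2.2), hconjC b.1 b.2.1 (hex b.1 b.2.1 b.2.2)]
      omega
  -- congruence modulo 5
  obtain ⟨y, hyP, hy⟩ := exists_mem_orderOf_eq_of_dvd_card (P : Subgroup G) 5 (by rw [hP])
  have hy5 : y ^ 5 = 1 := by rw [← hy]; exact pow_orderOf_eq_one y
  have hy1 : y ≠ 1 := by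
    intro h1
    rw [h1, orderOf_one] at hy
    omega
  have hyu : y * u = u * y := Subgroup.mem_centralizer_iff.1 huC y hyP
  have hyN : y ∈ N := le_normalizer hyP
  set S : Set G := {g : G | IsConj u g ∧ g ∈ N ∧ g ≠ u} with hS
  have h5 : 5 ∣ Nat.card S := by
    apply dvd_card_of_conj_invariant 5 y hy5 S
    · intro s hs
      refine ⟨hs.1.trans (isConj_iff.2 ⟨y, rfl⟩), N.mul_mem (N.mul_mem hyN hs.2.1) (N.inv_mem hyN),
        ?_⟩
      intro hc
      apply hs.2.2
      calc s = y⁻¹ * (y * s * y⁻¹) * y := by group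
        _ = y⁻¹ * u * y := by rw [hc]
        _ = y⁻¹ * (u * y) := by group
        _ = y⁻¹ * (y * u) := by rw [hyu]
        _ = u := by group
    · intro s hs
      refine ⟨hs.1.trans (isConj_iff.2 ⟨y⁻¹, by rw [inv_inv]⟩),
        N.mul_mem (N.mul_mem (N.inv_mem hyN) hs.2.1) hyN, ?_⟩
      intro hc
      apply hs.2.2
      calc s = y * (y⁻¹ * s * y) * y⁻¹ := by group
        _ = y * u * y⁻¹ := by rw [hc]
        _ = u * y * y⁻¹ := by rw [hyu]
        _ = u := by group
    · intro s hs hc
      apply hs.2.2
      have hcomm : s * y = y * s := by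
        calc s * y = (y * s * y⁻¹) * y := by rw [hc]
          _ = y * s := by group
      exact hconjC s hs.1
        (mem_centralizer_of_commute_of_card_prime (P : Subgroup G) fact5.out hP hyP hy1 hcomm)
  have hk1 : Nat.card {g : G // IsConj u g ∧ g ∈ N} = Nat.card S + 1 := by
    have huN : u ∈ N := hCN huC
    have := Fintype.ofFinite G
    have e1 : Nat.card {g : G // IsConj u g ∧ g ∈ N} =
        (Finset.univ.filter (fun g : G => IsConj u g ∧ g ∈ N)).card := by
      rw [Nat.card_eq_fintype_card, Fintype.card_subtype]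
    have e2 : Nat.card S = (Finset.univ.filter (fun g : G => IsConj u g ∧ g ∈ N ∧ g ≠ u)).card := by
      rw [hS]
      rw [Nat.card_eq_fintype_card]
      exact Fintype.card_subtype _
    rw [e1, e2]
    have e3 : Finset.univ.filter (fun g : G => IsConj u g ∧ g ∈ N ∧ g ≠ u) =
        (Finset.univ.filter (fun g : G => IsConj u g ∧ g ∈ N)).erase u := by
      ext g
      simp only [Finset.mem_filter, Finset.mem_univ, true_and, Finset.mem_erase]
      tauto
    have humem : u ∈ Finset.univ.filter (fun g : G => IsConj u g ∧ g ∈ N) := by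
      rw [Finset.mem_filter]
      exact ⟨Finset.mem_univ _, IsConj.refl u, huN⟩
    rw [e3, Finset.card_erase_of_mem humem]
    have : 0 < (Finset.univ.filter (fun g : G => IsConj u g ∧ g ∈ N)).card :=
      Finset.card_pos.2 ⟨u, humem⟩
    omega
  rw [hk1] at hpar hk11
  obtain ⟨c, hc⟩ := h5
  rw [hc] at hpar hk11
  have hc2 : c ≤ 2 := by omega
  interval_cases c <;> omega


/-- A group of order `120` in which a Sylow `5`-subgroup is central in its normalizer has
commuting elements of orders `3` and `5`. -/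
theorem exists_commuting_of_card_120 {M : Type*} [Group M] [Finite M] (hM : Nat.card M = 120)
    (P : Sylow 5 M)
    (hP : normalizer ((P : Subgroup M) : Set M) ≤ centralizer ((P : Subgroup M) : Set M)) :
    ∃ x y : M, orderOf x = 3 ∧ orderOf y = 5 ∧ x * y = y * x := by
  have hcomp := MonoidHom.ker_transferSylow_isComplement' P hP
  set L := (MonoidHom.transferSylow P hP).ker with hL
  have hLn : L.Normal := MonoidHom.normal_ker _
  have hPcard : Nat.card (P : Subgroup M) = 5 := by
    have hcard : Nat.card M = 5 ^ 1 * 24 := by rw [hM]; norm_num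
    rw [sylow_card_of_card_eq P hcard (by norm_num)]; norm_num
  have hLcard : Nat.card L = 24 := by
    have := hcomp.card_mul_card
    rw [hPcard, hM] at this
    omega
  have hLidx : L.index = 5 := by
    have := L.card_mul_index
    rw [hLcard, hM] at this
    omega
  obtain ⟨R⟩ := (Sylow.nonempty : Nonempty (Sylow 3 L))
  have hRcard : Nat.card (R : Subgroup L) = 3 := by
    have hcard : Nat.card L = 3 ^ 1 * 8 := by rw [hLcard]; norm_num
    rw [sylow_card_of_card_eq R hcard (by norm_num)]; norm_num
  set R' : Subgroup M := (R : Subgroup L).map L.subtype with hR'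
  have hR'card : Nat.card R' = 3 := by rw [card_map_subtype, hRcard]
  have hfrat : normalizer (R' : Set M) ⊔ L = ⊤ := Sylow.normalizer_sup_eq_top R
  have h5 : 5 ∣ Nat.card (normalizer (R' : Set M)) := by
    have h1 : L.relIndex (normalizer (R' : Set M)) = 5 := by
      rw [← Subgroup.relIndex_sup_right, hfrat, Subgroup.relIndex_top_right, hLidx]
    rw [← h1]
    exact Subgroup.relIndex_dvd_card _ _
  obtain ⟨y, hyN, hy⟩ := exists_mem_orderOf_eq_of_dvd_card (normalizer (R' : Set M)) 5 h5
  obtain ⟨x, hxR, hx⟩ := exists_mem_orderOf_eq_of_dvd_card R' 3 (by rw [hR'card])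
  refine ⟨x, y, hx, hy, ?_⟩
  have hx1 : x ≠ 1 := by
    intro h1
    rw [h1, orderOf_one] at hx
    omega
  have hx3 : x ^ 3 = 1 := by rw [← hx]; exact pow_orderOf_eq_one x
  have hy5 : y ^ 5 = 1 := by rw [← hy]; exact pow_orderOf_eq_one y
  have hRz : R' = zpowers x := eq_zpowers_of_card_prime R' fact3.out hR'card hxR hx1
  have hc : y * x * y⁻¹ ∈ zpowers x := by
    rw [← hRz]
    exact (Subgroup.mem_normalizer_iff.1 hyN x).1 hxR
  obtain ⟨k, hk⟩ := Subgroup.mem_zpowers_iff.1 hc
  have hk' : x ^ (k % 3) = y * x * y⁻¹ := by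
    have := zpow_mod_orderOf x k
    rw [hx] at this
    rw [← hk]
    exact_mod_cast this
  have h0 : 0 ≤ k % 3 := Int.emod_nonneg _ (by norm_num)
  have h3 : k % 3 < 3 := Int.emod_lt_of_pos _ (by norm_num)
  obtain ⟨j, hj⟩ := Int.eq_ofNat_of_zero_le h0
  rw [hj, zpow_natCast] at hk'
  have hj3 : j < 3 := by omega
  interval_cases j
  · exfalso
    apply hx1
    rw [pow_zero] at hk'
    calc x = y⁻¹ * (y * x * y⁻¹) * y := by group
      _ = 1 := by rw [← hk']; group
  · rw [pow_one] at hk'
    calc x * y = (y * x * y⁻¹) * y := by rw [← hk']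
      _ = y * x := by group
  · have h2 : y ^ 2 * x * (y ^ 2)⁻¹ = x := by
      calc y ^ 2 * x * (y ^ 2)⁻¹ = y * (y * x * y⁻¹) * y⁻¹ := by rw [pow_two]; group
        _ = y * x ^ 2 * y⁻¹ := by rw [← hk']
        _ = (y * x * y⁻¹) ^ 2 := by rw [conj_pow]
        _ = (x ^ 2) ^ 2 := by rw [← hk']
        _ = x ^ 3 * x := by group
        _ = x := by rw [hx3, one_mul]
    have hcomm : Commute (y ^ 2) x := by
      show y ^ 2 * x = x * y ^ 2
      calc y ^ 2 * x = (y ^ 2 * x * (y ^ 2)⁻¹) * y ^ 2 := by group
        _ = x * y ^ 2 := by rw [h2]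
    have hy6 : (y ^ 2) ^ 3 = y := by
      calc (y ^ 2) ^ 3 = y ^ 5 * y := by group
        _ = y := by rw [hy5, one_mul]
    have := (hcomm.pow_left 3).eq
    rw [hy6] at this
    exact this.symm


/-- The case `n_5 = 36`, `|C(P)| = 20` for all Sylow `5`-subgroups. -/
theorem false_of_relIndex_two (h : Nat.card G = 1440) (hn : Nat.card (Sylow 5 G) = 36)
    (hrel : ∀ P : Sylow 5 G, (centralizer ((P : Subgroup G) : Set G)).relIndex
      (normalizer ((P : Subgroup G) : Set G)) = 2) : False := by
  classical
  have hG := not_comm h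
  have hPcard : ∀ P : Sylow 5 G, Nat.card (P : Subgroup G) = 5 := card_sylow5 h
  have hN : ∀ P : Sylow 5 G, Nat.card (normalizer ((P : Subgroup G) : Set G)) = 40 := by
    intro P
    have := card_sylow_mul_card_normalizer P
    rw [hn, h] at this
    omega
  have hCc : ∀ P : Sylow 5 G, Nat.card (centralizer ((P : Subgroup G) : Set G)) = 20 := by
    intro P
    have := card_mul_relIndex_of_le
      (Subgroup.centralizer_le_normalizer (s := ((P : Subgroup G) : Set G)))
    rw [hrel P, hN P] at this
    omega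
  -- no element of order 3 commutes with an element of order 5
  have hno15 : ∀ x y : G, orderOf x = 3 → orderOf y = 5 → x * y = y * x → False := by
    intro x y hx hy hxy
    obtain ⟨P', hyP'⟩ := exists_sylow_mem_of_orderOf_eq y hy
    have hy1 : y ≠ 1 := by
      rintro rfl
      rw [orderOf_one] at hy
      omega
    have hcy := card_centralizer_mul_relIndex P' (hPcard P') hyP' hy1
    rw [hrel P', hN P'] at hcy
    have hcy20 : Nat.card (centralizer ({y} : Set G)) = 20 := by omega
    have hxC : x ∈ centralizer ({y} : Set G) := by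
      rw [Subgroup.mem_centralizer_singleton_iff]
      exact hxy
    have := Subgroup.orderOf_dvd_natCard _ hxC
    rw [hx, hcy20] at this
    revert this
    decide
  obtain ⟨P⟩ := (Sylow.nonempty : Nonempty (Sylow 5 G))
  set C := centralizer ((P : Subgroup G) : Set G) with hCdef
  set N := normalizer ((P : Subgroup G) : Set G) with hNdef
  have hCN : C ≤ N := Subgroup.centralizer_le_normalizer _
  obtain ⟨K', hK'⟩ := Sylow.exists_subgroup_card_pow_prime 2 (n := 2)
    (G := C) (by rw [hCc P]; norm_num)
  set K : Subgroup G := K'.map C.subtype with hKdef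
  have hKcard : Nat.card K = 4 := by rw [card_map_subtype, hK']; norm_num
  have hKC : K ≤ C := map_subtype_le' C K'
  have hK2 : IsPGroup 2 K := IsPGroup.of_card (n := 2) (by rw [hKcard]; norm_num)
  have hKcomm : ∀ a ∈ K, ∀ b ∈ K, a * b = b * a := by
    intro a ha b hb
    have hc : IsMulCommutative K :=
      IsPGroup.isMulCommutative_of_card_eq_prime_sq (p := 2) (by rw [hKcard]; norm_num)
    have := hc.is_comm.comm (⟨a, ha⟩ : K) ⟨b, hb⟩
    exact congrArg Subtype.val this
  have hfix := hK2.card_modEq_card_fixedPoints (Sylow 5 G)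
  have hPfix : P ∈ MulAction.fixedPoints K (Sylow 5 G) := by
    intro k
    rw [Subgroup.smul_def, Sylow.smul_eq_iff_mem_normalizer]
    exact Subgroup.centralizer_le_normalizer _ (hKC k.2)
  obtain ⟨Q, hQfix, hQP⟩ : ∃ Q ∈ MulAction.fixedPoints K (Sylow 5 G), Q ≠ P := by
    by_contra hcon
    push Not at hcon
    have hs : MulAction.fixedPoints K (Sylow 5 G) = {P} := by
      ext Q
      constructor
      · intro hQ
        exact hcon Q hQ
      · intro hQ
        rw [Set.mem_singleton_iff] at hQ
        rw [hQ]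
        exact hPfix
    rw [hs, hn] at hfix
    have h1 : Nat.card ({P} : Set (Sylow 5 G)) = 1 := by
      rw [Nat.card_coe_set_eq, Set.ncard_singleton]
    rw [h1] at hfix
    revert hfix
    decide
  have hKNQ : K ≤ normalizer ((Q : Subgroup G) : Set G) := by
    intro k hk
    have := hQfix ⟨k, hk⟩
    rw [Subgroup.smul_def] at this
    exact Sylow.smul_eq_iff_mem_normalizer.1 this
  obtain ⟨w, hwK, hwC, hw1⟩ : ∃ w ∈ K, w ∈ centralizer ((Q : Subgroup G) : Set G) ∧ w ≠ 1 := by
    by_contra hcon
    push Not at hcon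
    have hbot : centralizer ((Q : Subgroup G) : Set G) ⊓ K = ⊥ := by
      rw [eq_bot_iff]
      intro x hx
      rw [Subgroup.mem_bot]
      exact hcon x hx.2 hx.1
    have h1 : (centralizer ((Q : Subgroup G) : Set G)).relIndex K ≤ 2 := by
      have := Subgroup.relIndex_le_of_le_right
        (H := centralizer ((Q : Subgroup G) : Set G)) hKNQ (by rw [hrel Q]; norm_num)
      rwa [hrel Q] at this
    have h2 : (centralizer ((Q : Subgroup G) : Set G)).relIndex K = 4 := by
      rw [← Subgroup.inf_relIndex_right, hbot, Subgroup.relIndex_bot_left, hKcard]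
    omega
  set M : Subgroup G := centralizer ({w} : Set G) with hMdef
  have hmemM : ∀ x : G, x * w = w * x → x ∈ M := by
    intro x hx
    rw [hMdef, Subgroup.mem_centralizer_singleton_iff]
    exact hx
  have hPM : (P : Subgroup G) ≤ M := by
    intro x hx
    apply hmemM
    exact (Subgroup.mem_centralizer_iff.1 (hKC hwK) x hx)
  have hQM : (Q : Subgroup G) ≤ M := by
    intro x hx
    apply hmemM
    exact (Subgroup.mem_centralizer_iff.1 hwC x hx)
  have hKM : K ≤ M := by
    intro x hx
    apply hmemM
    exact hKcomm x hx w hwK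
  have hMtop : M ≠ ⊤ := by
    intro htop
    have hwZ : w ∈ center G := by
      rw [Subgroup.mem_center_iff]
      intro g
      have hg : g ∈ M := by rw [htop]; trivial
      rw [hMdef, Subgroup.mem_centralizer_singleton_iff] at hg
      exact hg
    rw [center_eq_bot h, Subgroup.mem_bot] at hwZ
    exact hw1 hwZ
  have h6 : 5 + 1 ≤ Nat.card (Sylow 5 M) := succ_le_card_sylow_subgroup M P Q hQP.symm hPM hQM
  have hmulM := card_sylow_mul_card_normalizer (P.subtype hPM)
  have hNMeq : Nat.card (normalizer (((P.subtype hPM : Sylow 5 M) : Subgroup M) : Set M)) =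
      Nat.card (N ⊓ M : Subgroup G) := by
    rw [Sylow.coe_subtype, ← Subgroup.subgroupOf_normalizer_eq hPM, card_subgroupOf_eq_card_inf']
  have h20C : 20 ∣ Nat.card (C ⊓ M : Subgroup G) := by
    have h5 : 5 ∣ Nat.card (C ⊓ M : Subgroup G) := by
      have hPC : (P : Subgroup G) ≤ C := by
        have hc : IsCyclic (P : Subgroup G) := isCyclic_of_prime_card (hPcard P)
        intro a ha
        rw [hCdef, Subgroup.mem_centralizer_iff]
        intro b hb
        have := IsCyclic.commGroup.mul_comm (⟨b, hb⟩ : (P : Subgroup G)) ⟨a, ha⟩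
        exact congrArg Subtype.val this
      have := Subgroup.card_dvd_of_le (le_inf hPC hPM)
      rwa [hPcard P] at this
    have h4 : 4 ∣ Nat.card (C ⊓ M : Subgroup G) := by
      have := Subgroup.card_dvd_of_le (le_inf hKC hKM)
      rwa [hKcard] at this
    exact Nat.Coprime.mul_dvd_of_dvd_of_dvd (by norm_num : Nat.Coprime 5 4) h5 h4
  have hCMNM : (C ⊓ M : Subgroup G) ≤ N ⊓ M := inf_le_inf_right M hCN
  have hNMdvd : Nat.card (N ⊓ M : Subgroup G) ∣ 40 := by
    have := Subgroup.card_dvd_of_le (inf_le_left : (N ⊓ M : Subgroup G) ≤ N)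
    rwa [hN P] at this
  have hCMdvd : Nat.card (C ⊓ M : Subgroup G) ∣ Nat.card (N ⊓ M : Subgroup G) :=
    Subgroup.card_dvd_of_le hCMNM
  have hidx := index_ge_seven h M hMtop
  have hMc := M.index_mul_card
  rw [h] at hMc
  rw [hNMeq] at hmulM
  have hmod : Nat.card (Sylow 5 M) % 5 = 1 := card_sylow_modEq_one 5 M
  -- numerical consequences
  have hNM20 : Nat.card (N ⊓ M : Subgroup G) = 20 ∧ Nat.card M = 120 := by
    obtain ⟨a, ha⟩ := h20C
    obtain ⟨b, hb⟩ := hCMdvd
    have hpos : 0 < Nat.card (N ⊓ M : Subgroup G) := Nat.card_pos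
    have hle40 : Nat.card (N ⊓ M : Subgroup G) ≤ 40 := Nat.le_of_dvd (by norm_num) hNMdvd
    have hMle : Nat.card M ≤ 205 := by nlinarith
    have hge20 : 20 ≤ Nat.card (N ⊓ M : Subgroup G) := by
      rw [hb, ha]
      have : 0 < a * b := by
        rcases Nat.eq_zero_or_pos (a * b) with h0 | h0
        · rw [hb, ha, mul_assoc, h0] at hpos
          omega
        · exact h0
      nlinarith
    have hn6 : Nat.card (Sylow 5 M) ≤ 10 := by
      by_contra hlt
      have : 11 ≤ Nat.card (Sylow 5 M) := by omega
      nlinarith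
    have hn6' : Nat.card (Sylow 5 M) = 6 := by omega
    rw [hn6'] at hmulM
    have h1 : Nat.card (N ⊓ M : Subgroup G) ≤ 34 := by omega
    have h2 : Nat.card (N ⊓ M : Subgroup G) = 20 := by
      generalize Nat.card (N ⊓ M : Subgroup G) = m at *
      interval_cases m <;> omega
    exact ⟨h2, by omega⟩
  obtain ⟨hNM20, hM120⟩ := hNM20
  have hCMeq : (C ⊓ M : Subgroup G) = N ⊓ M := by
    apply Subgroup.eq_of_le_of_card_ge hCMNM
    rw [hNM20]
    exact Nat.le_of_dvd Nat.card_pos h20C
  -- Burnside inside `M`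
  have hle : normalizer (((P.subtype hPM : Sylow 5 M) : Subgroup M) : Set M) ≤
      centralizer (((P.subtype hPM : Sylow 5 M) : Subgroup M) : Set M) := by
    intro x hx
    rw [Sylow.coe_subtype, ← Subgroup.subgroupOf_normalizer_eq hPM,
      Subgroup.mem_subgroupOf] at hx
    have hxNM : (x : G) ∈ (N ⊓ M : Subgroup G) := ⟨hx, x.2⟩
    rw [← hCMeq] at hxNM
    have hxC : (x : G) ∈ C := hxNM.1
    rw [Sylow.coe_subtype, Subgroup.mem_centralizer_iff]
    intro z hz
    have hzP : (z : G) ∈ (P : Subgroup G) := Subgroup.mem_subgroupOf.1 hz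
    apply Subtype.ext
    exact Subgroup.mem_centralizer_iff.1 hxC _ hzP
  obtain ⟨x, y, hx, hy, hxy⟩ := exists_commuting_of_card_120 hM120 (P.subtype hPM) hle
  refine hno15 (x : G) (y : G) ?_ ?_ ?_
  · rw [Subgroup.orderOf_coe, hx]
  · rw [Subgroup.orderOf_coe, hy]
  · exact congrArg Subtype.val hxy

/-- No simple group has order `1440`. -/
theorem false_of_card (h : Nat.card G = 1440) : False := by
  have hG := not_comm h
  rcases card_sylow5_cases h with hn | hn
  · exact false_of_card_sylow5_eq_16 h hn
  · have hN : ∀ P : Sylow 5 G, Nat.card (normalizer ((P : Subgroup G) : Set G)) = 40 := by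
      intro P
      have := card_sylow_mul_card_normalizer P
      rw [hn, h] at this
      omega
    have hr : ∀ P : Sylow 5 G, (centralizer ((P : Subgroup G) : Set G)).relIndex
        (normalizer ((P : Subgroup G) : Set G)) = 2 ∨
        (centralizer ((P : Subgroup G) : Set G)).relIndex
        (normalizer ((P : Subgroup G) : Set G)) = 4 := by
      intro P
      have h1 := relIndex_cent_norm_dvd_pred_of_card_prime P (card_sylow5 h P)
      have h3 := relIndex_cent_norm_ne_one_of_simple hG P (by rw [h]; norm_num)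
      generalize (centralizer ((P : Subgroup G) : Set G)).relIndex
        (normalizer ((P : Subgroup G) : Set G)) = r at *
      have hr4 : r ∣ 4 := h1
      have hle : r ≤ 4 := Nat.le_of_dvd (by norm_num) hr4
      interval_cases r <;> omega
    by_cases hall : ∀ P : Sylow 5 G, (centralizer ((P : Subgroup G) : Set G)).relIndex
        (normalizer ((P : Subgroup G) : Set G)) = 2
    · exact false_of_relIndex_two h hn hall
    · push Not at hall
      obtain ⟨P, hP⟩ := hall
      rcases hr P with h2 | h4
      · exact hP h2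
      · exact false_of_relIndex_four h hn P h4

end Cfsg.Agent.Lib.Helper17.Simple1440
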