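import Mathlib
import Cfsg.Agent.Lib.Helper17.InvolutionCount
import Cfsg.Agent.Lib.Helper17.AltNormalizer
import Cfsg.Agent.Lib.Helper17.InvolutionParity
import Cfsg.Agent.Lib.Helper17.PrimeSylow
import Cfsg.Agent.Lib.Helper17.SimpleTools
import Cfsg.Agent.Lib.Helper17.SimpleTools2
import Cfsg.Agent.Lib.Helper17.Burnside

set_option autoImplicit false

namespace Cfsg.Agent.Lib.Helper17.Simple3648

open MulAction Subgroup

variable {G : Type*} [Group G] [Finite G] [IsSimpleGroup G]

theorem fact19 : Fact (Nat.Prime 19) := ⟨by norm_num⟩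
theorem fact3 : Fact (Nat.Prime 3) := ⟨by norm_num⟩
theorem fact2 : Fact (Nat.Prime 2) := ⟨by norm_num⟩

attribute [local instance] fact19 fact3 fact2

theorem not_comm (h : Nat.card G = 3648) : ¬ IsMulCommutative G :=
  not_comm_of_simple_of_not_prime (by rw [h]; norm_num)

theorem card_sylow19 (h : Nat.card G = 3648) (P : Sylow 19 G) :
    Nat.card (P : Subgroup G) = 19 := by
  have hcard : Nat.card G = 19 ^ 1 * 192 := by rw [h]; norm_num
  rw [sylow_card_of_card_eq P hcard (by norm_num)]; norm_num

theorem card_sylow19_eq (h : Nat.card G = 3648) : Nat.card (Sylow 19 G) = 96 := by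
  have hcard : Nat.card G = 19 ^ 1 * 192 := by rw [h]; norm_num
  have hdvd : Nat.card (Sylow 19 G) ∣ 192 := card_sylow_dvd_of_card_eq hcard (by norm_num)
  have hmod : Nat.card (Sylow 19 G) % 19 = 1 := card_sylow_modEq_one 19 G
  have hne1 : Nat.card (Sylow 19 G) ≠ 1 :=
    card_sylow_ne_one_of_simple hcard (by norm_num) (by norm_num) (by norm_num)
  have hle : Nat.card (Sylow 19 G) ≤ 192 := Nat.le_of_dvd (by norm_num) hdvd
  generalize Nat.card (Sylow 19 G) = c at *
  interval_cases c <;> omega

theorem card_normalizer19 (h : Nat.card G = 3648) (P : Sylow 19 G) :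
    Nat.card (normalizer ((P : Subgroup G) : Set G)) = 38 := by
  have := card_sylow_mul_card_normalizer P
  rw [card_sylow19_eq h, h] at this
  omega

theorem relIndex19 (h : Nat.card G = 3648) (P : Sylow 19 G) :
    (centralizer ((P : Subgroup G) : Set G)).relIndex
      (normalizer ((P : Subgroup G) : Set G)) = 2 := by
  have hG := not_comm h
  have h2 := mul_relIndex_cent_norm_dvd_of_card_prime P (card_sylow19 h P)
  have h3 := relIndex_cent_norm_ne_one_of_simple hG P (by rw [h]; norm_num)
  rw [card_normalizer19 h P] at h2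
  generalize (centralizer ((P : Subgroup G) : Set G)).relIndex
    (normalizer ((P : Subgroup G) : Set G)) = r at *
  have hr2 : r ∣ 2 := Nat.dvd_of_mul_dvd_mul_left (by norm_num : 0 < 19) h2
  have hle := Nat.le_of_dvd (by norm_num) hr2
  interval_cases r <;> simp_all

theorem card_centralizer19 (h : Nat.card G = 3648) (P : Sylow 19 G) :
    Nat.card (centralizer ((P : Subgroup G) : Set G)) = 19 := by
  have := card_mul_relIndex_of_le
    (Subgroup.centralizer_le_normalizer (s := ((P : Subgroup G) : Set G)))
  rw [relIndex19 h P, card_normalizer19 h P] at this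
  omega

theorem card_centralizer_of_orderOf_19 (h : Nat.card G = 3648) (y : G) (hy : orderOf y = 19) :
    Nat.card (centralizer ({y} : Set G)) = 19 := by
  obtain ⟨P, hyP⟩ := exists_sylow_mem_of_orderOf_eq y hy
  have hy1 : y ≠ 1 := by
    rintro rfl
    rw [orderOf_one] at hy
    omega
  have := card_centralizer_mul_relIndex P (card_sylow19 h P) hyP hy1
  rw [relIndex19 h P, card_normalizer19 h P] at this
  omega

theorem orderOf_dvd_of_commute_19 (h : Nat.card G = 3648) (y x : G) (hy : orderOf y = 19)
    (hxy : x * y = y * x) : orderOf x ∣ 19 := by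
  have hx : x ∈ centralizer ({y} : Set G) := by
    rw [Subgroup.mem_centralizer_singleton_iff]
    exact hxy
  have := Subgroup.orderOf_dvd_natCard _ hx
  rwa [card_centralizer_of_orderOf_19 h y hy] at this

theorem not_19_dvd_card_centralizer (h : Nat.card G = 3648) (z : G) (hz : orderOf z = 2) :
    ¬ 19 ∣ Nat.card (centralizer ({z} : Set G)) := by
  intro hd
  obtain ⟨y, hyC, hy⟩ := exists_mem_orderOf_eq_of_dvd_card (centralizer ({z} : Set G)) 19 hd
  rw [Subgroup.mem_centralizer_singleton_iff] at hyC
  have := orderOf_dvd_of_commute_19 h y z hy hyC.symm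
  rw [hz] at this
  revert this
  decide

theorem index_ne_19 (h : Nat.card G = 3648) (H : Subgroup G) : H.index ≠ 19 := by
  intro hidx
  have hG := not_comm h
  have hH : H ≠ ⊤ := by
    rintro rfl
    rw [Subgroup.index_top] at hidx
    omega
  obtain ⟨P⟩ := (Sylow.nonempty : Nonempty (Sylow 19 G))
  have := two_mul_card_normalizer_dvd_of_index_of_simple hG 19 (by norm_num) H hH (by omega)
    (by omega) P (by rw [h]; norm_num)
  rw [card_normalizer19 h P, hidx] at this
  revert this
  decide


/-- The centralizer of an involution contains at most `63` involutions. -/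
theorem card_involutions_centralizer_le (h : Nat.card G = 3648) (z : G) (hz : orderOf z = 2) :
    Nat.card {s : G // s * z = z * s ∧ orderOf s = 2} ≤ 63 := by
  set H := centralizer ({z} : Set G) with hH
  have h19 := not_19_dvd_card_centralizer h z hz
  have hdvd : Nat.card H ∣ 19 * 192 := by
    have := H.card_subgroup_dvd_card
    rwa [h] at this
  have h192 : Nat.card H ∣ 192 := by
    have hcop : Nat.Coprime (Nat.card H) 19 :=
      ((Nat.Prime.coprime_iff_not_dvd (by norm_num)).2 h19).symm
    exact hcop.dvd_of_dvd_mul_left hdvd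
  have hne : Nat.card H ≠ 192 := by
    intro hc
    have := H.card_mul_index
    rw [hc, h] at this
    exact index_ne_19 h H (by omega)
  -- bound on the number of solutions of `s ^ 2 = 1` in `H`
  have hsq : Nat.card {s : H // s ^ 2 = 1} ≤ 64 := by
    obtain ⟨k, hk⟩ := h192
    have hpos : 0 < Nat.card H := Nat.card_pos
    have hk2 : k ≠ 1 := by
      rintro rfl
      omega
    have hk0 : k ≠ 0 := by
      rintro rfl
      omega
    by_cases hk2' : k = 2
    · have h96 : Nat.card H = 96 := by rw [hk2'] at hk; omega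
      exact card_sq_eq_one_le_of_card_96 h96
    · have hk3 : 3 ≤ k := by omega
      have hle : Nat.card H ≤ 64 := by nlinarith
      exact (Finite.card_subtype_le _).trans hle
  -- inject the involutions (and the identity) into the solutions of `s ^ 2 = 1` in `H`
  have hmem : ∀ s : {s : G // s * z = z * s ∧ orderOf s = 2}, s.1 ∈ H := by
    intro s
    rw [hH, Subgroup.mem_centralizer_singleton_iff]
    exact s.2.1
  let f : Option {s : G // s * z = z * s ∧ orderOf s = 2} → {s : H // s ^ 2 = 1} := fun o =>
    match o with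
    | none => ⟨1, one_pow 2⟩
    | some s => ⟨⟨s.1, hmem s⟩, by
        apply Subtype.ext
        have := pow_orderOf_eq_one s.1
        rw [s.2.2] at this
        simpa using this⟩
  have hf : Function.Injective f := by
    intro a b hab
    cases a with
    | none =>
      cases b with
      | none => rfl
      | some s =>
        exfalso
        have h1 : (1 : G) = s.1 := congrArg (fun x : {s : H // s ^ 2 = 1} => (x.1 : G)) hab
        have h2 := s.2.2
        rw [← h1, orderOf_one] at h2
        omega
    | some s =>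
      cases b with
      | none =>
        exfalso
        have h1 : s.1 = (1 : G) := congrArg (fun x : {s : H // s ^ 2 = 1} => (x.1 : G)) hab
        have h2 := s.2.2
        rw [h1, orderOf_one] at h2
        omega
      | some s' =>
        have h1 : s.1 = s'.1 := congrArg (fun x : {s : H // s ^ 2 = 1} => (x.1 : G)) hab
        rw [Subtype.ext h1]
  have := Nat.card_le_card_of_injective f hf
  rw [Finite.card_option] at this
  omega


/-- The key involution: `t ∈ N(P)` fixes exactly `4` Sylow `19`-subgroups, has at least `456`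
conjugates and a centralizer of order dividing `152` and at most `8`. -/
theorem exists_involution_data (h : Nat.card G = 3648) :
    ∃ (P : Sylow 19 G) (t : G), orderOf t = 2 ∧
      Nat.card (fixedBy (G ⧸ normalizer ((P : Subgroup G) : Set G)) t) = 4 ∧
      456 ≤ Nat.card {g : G // IsConj t g} ∧
      Nat.card (centralizer ({t} : Set G)) ≤ 8 ∧
      Nat.card (centralizer ({t} : Set G)) ∣ 152 := by
  have hG := not_comm h
  obtain ⟨P⟩ := (Sylow.nonempty : Nonempty (Sylow 19 G))
  have hP := card_sylow19 h P
  set N := normalizer ((P : Subgroup G) : Set G) with hN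
  have hNcard : Nat.card N = 38 := card_normalizer19 h P
  obtain ⟨t, htN, ht⟩ := exists_mem_orderOf_eq_of_dvd_card N 2 (by rw [hNcard]; norm_num)
  have htC : t ∉ centralizer ((P : Subgroup G) : Set G) := by
    intro htC
    have := Subgroup.orderOf_dvd_natCard _ htC
    rw [ht, card_centralizer19 h P] at this
    revert this
    decide
  have ht2 : t ^ 2 = 1 := by rw [← ht]; exact pow_orderOf_eq_one t
  refine ⟨P, t, ht, ?_⟩
  -- the number of fixed points
  have hf6 : Nat.card (fixedBy (G ⧸ N) t) ≤ 6 := by
    have h1 : Nat.card (fixedBy (G ⧸ N) t) ≤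
        Nat.card (orbitRel.Quotient (P : Subgroup G) (G ⧸ N)) :=
      card_fixedBy_le_card_orbits P hP t htN htC
    have h2 : Nat.card (orbitRel.Quotient (P : Subgroup G) (G ⧸ N)) * 19 =
        Nat.card (Sylow 19 G) + (19 - 1) := card_orbits_mul_eq P hP
    rw [card_sylow19_eq h] at h2
    have h3 : Nat.card (orbitRel.Quotient (P : Subgroup G) (G ⧸ N)) = 6 := by omega
    rw [h3] at h1
    exact h1
  have hidx : N.index = 96 := by
    have e : Nat.card (Sylow 19 G) = N.index := P.card_eq_index_normalizer
    rw [← e, card_sylow19_eq h]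
  have hf4 := four_dvd_index_sub_card_fixedBy_of_simple hG N t ht2
  rw [hidx] at hf4
  have hf1 : 1 ≤ Nat.card (fixedBy (G ⧸ N) t) := by
    have hne : Nonempty (fixedBy (G ⧸ N) t) := by
      refine ⟨⟨((1 : G) : G ⧸ N), ?_⟩⟩
      rw [mk_mem_fixedBy_iff]
      simpa using htN
    exact Nat.card_pos
  have hf : Nat.card (fixedBy (G ⧸ N) t) = 4 := by omega
  -- the conjugates of `t` inside `N`
  have hk : 19 ≤ Nat.card {g : G // IsConj t g ∧ g ∈ N} := by
    let φ : ↥(P : Subgroup G) → {g : G // IsConj t g ∧ g ∈ N} := fun u =>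
      ⟨(u : G) * t * (u : G)⁻¹, isConj_iff.2 ⟨u, rfl⟩,
        N.mul_mem (N.mul_mem (le_normalizer u.2) htN) (N.inv_mem (le_normalizer u.2))⟩
    have hφ : Function.Injective φ := by
      intro u v huv
      have h1 : (u : G) * t * (u : G)⁻¹ = (v : G) * t * (v : G)⁻¹ := congrArg Subtype.val huv
      by_contra hne
      set w : G := (v : G)⁻¹ * (u : G) with hw
      have hwP : w ∈ (P : Subgroup G) := (P : Subgroup G).mul_mem ((P : Subgroup G).inv_mem v.2) u.2
      have hw1 : w ≠ 1 := by
        intro hw1
        apply hne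
        apply Subtype.ext
        have : (v : G)⁻¹ * (u : G) = 1 := hw1
        have h2 : (u : G) = (v : G) * ((v : G)⁻¹ * (u : G)) := by group
        rw [h2, this, mul_one]
      have hcomm : t * w = w * t := by
        have h2 : w * t * w⁻¹ = t := by
          rw [hw]
          calc (v : G)⁻¹ * (u : G) * t * ((v : G)⁻¹ * (u : G))⁻¹
              = (v : G)⁻¹ * ((u : G) * t * (u : G)⁻¹) * (v : G) := by group
            _ = (v : G)⁻¹ * ((v : G) * t * (v : G)⁻¹) * (v : G) := by rw [h1]
            _ = t := by group
        calc t * w = (w * t * w⁻¹) * w := by rw [h2]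
          _ = w * t := by group
      exact htC (mem_centralizer_of_commute_of_card_prime (P : Subgroup G) fact19.out hP hwP hw1 hcomm)
    have := Nat.card_le_card_of_injective φ hφ
    rwa [hP] at this
  have hform := card_fixedBy_mul_card_conj N t
  rw [hf, hidx] at hform
  have hcc := card_conj_mul_card_centralizer t
  rw [h] at hcc
  have hKeq : Nat.card {g : G // IsConj t g} = 24 * Nat.card {g : G // IsConj t g ∧ g ∈ N} := by
    omega
  have hkc : Nat.card {g : G // IsConj t g ∧ g ∈ N} * Nat.card (centralizer ({t} : Set G)) =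
      152 := by
    rw [hKeq] at hcc
    have : 24 * (Nat.card {g : G // IsConj t g ∧ g ∈ N} * Nat.card (centralizer ({t} : Set G))) =
        24 * 152 := by rw [← mul_assoc, hcc]
    exact Nat.eq_of_mul_eq_mul_left (by norm_num) this
  refine ⟨hf, by omega, ?_, Dvd.intro_left _ hkc⟩
  by_contra hlt
  have h9 : 9 ≤ Nat.card (centralizer ({t} : Set G)) := by omega
  nlinarith


omit [IsSimpleGroup G] [Finite G] in
theorem conj_mul_eq_inv_of_involutions (t s : G) (htt : t * t = 1) (hss : s * s = 1) :
    t * (t * s) * t⁻¹ = (t * s)⁻¹ := by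
  have htinv : t⁻¹ = t := inv_eq_of_mul_eq_one_right htt
  have hsinv : s⁻¹ = s := inv_eq_of_mul_eq_one_right hss
  rw [mul_inv_rev, hsinv, htinv]
  calc t * (t * s) * t = (t * t) * s * t := by group
    _ = s * t := by rw [htt, one_mul]

omit [Group G] [IsSimpleGroup G] in
theorem card_subtype_add_two_le (p q : G → Prop) (a b : G) (hab : a ≠ b)
    (hpq : ∀ x, q x → p x ∧ x ≠ a ∧ x ≠ b) (ha : p a) (hb : p b) :
    Nat.card {x : G // q x} + 2 ≤ Nat.card {x : G // p x} := by
  classical
  have := Fintype.ofFinite G
  have e1 : Nat.card {x : G // q x} = (Finset.univ.filter q).card := by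
    rw [Nat.card_eq_fintype_card, Fintype.card_subtype]
  have e2 : Nat.card {x : G // p x} = (Finset.univ.filter p).card := by
    rw [Nat.card_eq_fintype_card, Fintype.card_subtype]
  rw [e1, e2]
  have ha' : a ∈ Finset.univ.filter p := by simp [ha]
  have hb' : b ∈ (Finset.univ.filter p).erase a := by
    rw [Finset.mem_erase]
    exact ⟨hab.symm, by simp [hb]⟩
  have h1 : Finset.univ.filter q ⊆ ((Finset.univ.filter p).erase a).erase b := by
    intro x hx
    rw [Finset.mem_filter] at hx
    obtain ⟨h1, h2, h3⟩ := hpq x hx.2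
    rw [Finset.mem_erase, Finset.mem_erase, Finset.mem_filter]
    exact ⟨h3, h2, Finset.mem_univ _, h1⟩
  have h2 := Finset.card_le_card h1
  rw [Finset.card_erase_of_mem hb', Finset.card_erase_of_mem ha'] at h2
  have h3 : 0 < ((Finset.univ.filter p).erase a).card := Finset.card_pos.2 ⟨b, hb'⟩
  rw [Finset.card_erase_of_mem ha'] at h3
  omega

/-- No simple group has order `3648`. -/
theorem false_of_card (h : Nat.card G = 3648) : False := by
  classical
  have hG := not_comm h
  obtain ⟨P, t, ht, hf, hK, hC8, hC152⟩ := exists_involution_data h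
  have hP := card_sylow19 h P
  have htt : t * t = 1 := by
    have := pow_orderOf_eq_one t
    rwa [ht, pow_two] at this
  have hinvol : ∀ s : G, IsConj t s → s * s = 1 := by
    intro s hs
    have h2 : orderOf s = 2 := by rw [orderOf_eq_of_isConj hs, ht]
    have := pow_orderOf_eq_one s
    rwa [h2, pow_two] at this
  -- Part A: products of order 19
  have hA : Nat.card {s : G // IsConj t s ∧ s ≠ t ∧ orderOf (t * s) = 19} ≤ 72 := by
    have h1 := card_inverted_le P hP t
    rw [hf] at h1
    refine le_trans ?_ h1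
    apply Nat.card_le_card_of_injective
      (fun s : {s : G // IsConj t s ∧ s ≠ t ∧ orderOf (t * s) = 19} =>
        (⟨t * s.1, s.2.2.2, conj_mul_eq_inv_of_involutions t s.1 htt (hinvol s.1 s.2.1)⟩ :
          {d : G // orderOf d = 19 ∧ t * d * t⁻¹ = d⁻¹}))
    intro a b hab
    have : t * a.1 = t * b.1 := congrArg Subtype.val hab
    exact Subtype.ext (mul_left_cancel this)
  -- Part B: products of order 3
  obtain ⟨P3⟩ := (Sylow.nonempty : Nonempty (Sylow 3 G))
  have hP3 : Nat.card (P3 : Subgroup G) = 3 := by
    have hcard : Nat.card G = 3 ^ 1 * 1216 := by rw [h]; norm_num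
    rw [sylow_card_of_card_eq P3 hcard (by norm_num)]; norm_num
  set N3 := normalizer ((P3 : Subgroup G) : Set G) with hN3
  set C3 := centralizer ((P3 : Subgroup G) : Set G) with hC3
  have hC3N3 : C3 ≤ N3 := Subgroup.centralizer_le_normalizer _
  have hnot : ∀ g : G, IsConj t g → g ∉ C3 := by
    intro g hg hgC
    obtain ⟨x, hxP3, hx3⟩ := exists_mem_orderOf_eq_of_dvd_card (P3 : Subgroup G) 3
      (by rw [hP3])
    have hxg : x * g = g * x := (Subgroup.mem_centralizer_iff.1 hgC) x hxP3
    obtain ⟨c, hc⟩ := isConj_iff.1 hg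
    set y := c⁻¹ * x * c with hy
    have hy3 : orderOf y = 3 := by
      have := orderOf_conj_eq c⁻¹ x
      rw [inv_inv] at this
      rw [hy, this, hx3]
    have hyt : y * t = t * y := by
      rw [hy]
      calc c⁻¹ * x * c * t = c⁻¹ * (x * (c * t * c⁻¹)) * c := by group
        _ = c⁻¹ * (x * g) * c := by rw [hc]
        _ = c⁻¹ * (g * x) * c := by rw [hxg]
        _ = c⁻¹ * ((c * t * c⁻¹) * x) * c := by rw [hc]
        _ = t * (c⁻¹ * x * c) := by group
    have hyC : y ∈ centralizer ({t} : Set G) := by
      rw [Subgroup.mem_centralizer_singleton_iff]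
      exact hyt
    have h3 := Subgroup.orderOf_dvd_natCard _ hyC
    rw [hy3] at h3
    have := h3.trans hC152
    revert this
    decide
  have hk3 : 2 * Nat.card {g : G // IsConj t g ∧ g ∈ N3} ≤ Nat.card N3 := by
    have hsub : {g : G | IsConj t g ∧ g ∈ N3} ⊆ (N3 : Set G) \ (C3 : Set G) := by
      intro g hg
      exact ⟨hg.2, hnot g hg.1⟩
    have h1 := Set.ncard_le_ncard hsub (Set.toFinite _)
    rw [Set.ncard_sdiff (show (C3 : Set G) ⊆ (N3 : Set G) from hC3N3)] at h1
    have h2 : Nat.card {g : G // IsConj t g ∧ g ∈ N3} = {g : G | IsConj t g ∧ g ∈ N3}.ncard :=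
      Nat.card_coe_set_eq _
    have h3 : Nat.card N3 = (N3 : Set G).ncard := Nat.card_coe_set_eq _
    have h4 : Nat.card C3 = (C3 : Set G).ncard := Nat.card_coe_set_eq _
    rw [← h3, ← h4, ← h2] at h1
    have h5 := card_mul_relIndex_of_le hC3N3
    have h6 : C3.relIndex N3 ∣ 3 - 1 := relIndex_cent_norm_dvd_pred_of_card_prime P3 hP3
    have h7 : C3.relIndex N3 ≤ 2 := Nat.le_of_dvd (by norm_num) h6
    have h8 : Nat.card N3 ≤ Nat.card C3 * 2 := by
      rw [← h5]
      exact Nat.mul_le_mul_left _ h7
    omega
  have hfix3 : Nat.card (fixedBy (G ⧸ N3) t) ≤ 4 := by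
    have hform := card_fixedBy_mul_card_conj N3 t
    have hidx := N3.index_mul_card
    rw [h] at hidx
    by_contra hlt
    have h5 : 5 ≤ Nat.card (fixedBy (G ⧸ N3) t) := by omega
    have h1 : 5 * 456 ≤ Nat.card (fixedBy (G ⧸ N3) t) * Nat.card {g : G // IsConj t g} :=
      Nat.mul_le_mul h5 hK
    have h2 : N3.index * (2 * Nat.card {g : G // IsConj t g ∧ g ∈ N3}) ≤
        N3.index * Nat.card N3 := Nat.mul_le_mul_left _ hk3
    have h3 : N3.index * (2 * Nat.card {g : G // IsConj t g ∧ g ∈ N3}) =
        2 * (N3.index * Nat.card {g : G // IsConj t g ∧ g ∈ N3}) := by ring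
    omega
  have hB : Nat.card {s : G // IsConj t s ∧ s ≠ t ∧ orderOf (t * s) = 3} ≤ 8 := by
    have h1 := card_inverted_le P3 hP3 t
    have h2 : (3 - 1) * Nat.card (fixedBy (G ⧸ N3) t) ≤ 8 := by omega
    refine le_trans ?_ (h1.trans h2)
    apply Nat.card_le_card_of_injective
      (fun s : {s : G // IsConj t s ∧ s ≠ t ∧ orderOf (t * s) = 3} =>
        (⟨t * s.1, s.2.2.2, conj_mul_eq_inv_of_involutions t s.1 htt (hinvol s.1 s.2.1)⟩ :
          {d : G // orderOf d = 3 ∧ t * d * t⁻¹ = d⁻¹}))
    intro a b hab
    have : t * a.1 = t * b.1 := congrArg Subtype.val hab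
    exact Subtype.ext (mul_left_cancel this)
  -- Part C: products of even order
  have hBz : ∀ z : G, orderOf z = 2 → z * t = t * z → z ≠ t →
      Nat.card {s : G // s * z = z * s ∧ orderOf s = 2 ∧ s ≠ z ∧ s ≠ t} ≤ 61 := by
    intro z hz hzt hne
    have h63 := card_involutions_centralizer_le h z hz
    have := card_subtype_add_two_le (fun s : G => s * z = z * s ∧ orderOf s = 2)
      (fun s : G => s * z = z * s ∧ orderOf s = 2 ∧ s ≠ z ∧ s ≠ t) z t hne
      (fun x hx => ⟨⟨hx.1, hx.2.1⟩, hx.2.2.1, hx.2.2.2⟩) ⟨rfl, hz⟩ ⟨hzt.symm, ht⟩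
    omega
  have hZ : Nat.card {z : G // z * t = t * z ∧ orderOf z = 2 ∧ z ≠ t} ≤ 6 := by
    have h1t : (1 : G) ≠ t := by
      intro h1
      rw [← h1, orderOf_one] at ht
      omega
    have := card_subtype_add_two_le (fun z : G => z ∈ centralizer ({t} : Set G))
      (fun z : G => z * t = t * z ∧ orderOf z = 2 ∧ z ≠ t) 1 t h1t
      (fun x hx => ⟨Subgroup.mem_centralizer_singleton_iff.2 hx.1, by
        intro hx1
        have := hx.2.1
        rw [hx1, orderOf_one] at this
        omega, hx.2.2⟩) (one_mem _) (Subgroup.mem_centralizer_singleton_iff.2 rfl)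
    have h2 : Nat.card {x : G // x ∈ centralizer ({t} : Set G)} =
        Nat.card (centralizer ({t} : Set G)) := rfl
    omega
  have hC := card_even_prod_le t ht 61 hBz
  have hC' : Nat.card {s : G // orderOf s = 2 ∧ s ≠ t ∧ Even (orderOf (t * s))} ≤ 366 := by
    refine hC.trans ?_
    calc 61 * Nat.card {z : G // z * t = t * z ∧ orderOf z = 2 ∧ z ≠ t} ≤ 61 * 6 :=
          Nat.mul_le_mul_left _ hZ
      _ = 366 := by norm_num
  -- putting everything together
  have := Fintype.ofFinite G
  rw [Nat.card_eq_fintype_card, Fintype.card_subtype] at hA hB hC' hK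
  set FA := Finset.univ.filter (fun s : G => IsConj t s ∧ s ≠ t ∧ orderOf (t * s) = 19) with hFA
  set FB := Finset.univ.filter (fun s : G => IsConj t s ∧ s ≠ t ∧ orderOf (t * s) = 3) with hFB
  set FC := Finset.univ.filter
    (fun s : G => orderOf s = 2 ∧ s ≠ t ∧ Even (orderOf (t * s))) with hFC
  set FK := Finset.univ.filter (fun s : G => IsConj t s) with hFK
  have hsub : FK ⊆ insert t (FA ∪ FB ∪ FC) := by
    intro s hs
    rw [hFK, Finset.mem_filter] at hs
    have hst := hs.2
    by_cases hst' : s = t
    · rw [hst']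
      exact Finset.mem_insert_self _ _
    apply Finset.mem_insert_of_mem
    have hs2 : orderOf s = 2 := by rw [orderOf_eq_of_isConj hst, ht]
    have hss := hinvol s hst
    set m := orderOf (t * s) with hm
    have hmdvd : m ∣ 3648 := by
      rw [← h]
      exact orderOf_dvd_natCard (t * s)
    by_cases hev : Even m
    · apply Finset.mem_union_right
      rw [hFC, Finset.mem_filter]
      exact ⟨Finset.mem_univ _, hs2, hst', hev⟩
    · have hodd : Odd m := Nat.not_even_iff_odd.1 hev
      have hcop : Nat.Coprime m 64 := by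
        have : Nat.Coprime m 2 := Nat.coprime_two_right.2 hodd
        exact Nat.Coprime.pow_right 6 this
      have h57 : m ∣ 57 := hcop.dvd_of_dvd_mul_left (by simpa using hmdvd)
      have hle : m ≤ 57 := Nat.le_of_dvd (by norm_num) h57
      have hm0 : 0 < m := orderOf_pos _
      have hcases : m = 1 ∨ m = 3 ∨ m = 19 ∨ m = 57 := by
        clear_value m
        interval_cases m <;> omega
      rcases hcases with h1 | h1 | h1 | h1
      · exfalso
        have h2 : t * s = 1 := orderOf_eq_one_iff.1 (hm ▸ h1)
        apply hst'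
        have h3 : s = t⁻¹ := eq_inv_of_mul_eq_one_right h2
        rw [h3]
        exact inv_eq_of_mul_eq_one_right htt
      · apply Finset.mem_union_left
        apply Finset.mem_union_right
        rw [hFB, Finset.mem_filter]
        exact ⟨Finset.mem_univ _, hst, hst', hm ▸ h1⟩
      · apply Finset.mem_union_left
        apply Finset.mem_union_left
        rw [hFA, Finset.mem_filter]
        exact ⟨Finset.mem_univ _, hst, hst', hm ▸ h1⟩
      · exfalso
        have hd57 : orderOf (t * s) = 57 := hm ▸ h1
        have h19 : orderOf ((t * s) ^ 3) = 19 := by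
          rw [orderOf_pow_of_dvd (by norm_num) (by rw [hd57]; norm_num), hd57]
        have h3 : orderOf ((t * s) ^ 19) = 3 := by
          rw [orderOf_pow_of_dvd (by norm_num) (by rw [hd57]; norm_num), hd57]
        have hcomm : (t * s) ^ 19 * (t * s) ^ 3 = (t * s) ^ 3 * (t * s) ^ 19 := by
          rw [← pow_add, ← pow_add]
        have := orderOf_dvd_of_commute_19 h _ _ h19 hcomm
        rw [h3] at this
        revert this
        decide
  have h1 := Finset.card_le_card hsub
  have h2 : (insert t (FA ∪ FB ∪ FC)).card ≤ (FA ∪ FB ∪ FC).card + 1 := Finset.card_insert_le _ _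
  have h3 : (FA ∪ FB ∪ FC).card ≤ (FA ∪ FB).card + FC.card := Finset.card_union_le _ _
  have h4 : (FA ∪ FB).card ≤ FA.card + FB.card := Finset.card_union_le _ _
  omega

end Cfsg.Agent.Lib.Helper17.Simple3648
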