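import Mathlib
import Cfsg.Agent.Lib.Helper17.InvolutionParity
import Cfsg.Agent.Lib.Helper17.PrimeSylow
import Cfsg.Agent.Lib.Helper17.SimpleTools
import Cfsg.Agent.Lib.Helper17.SimpleTools2
import Cfsg.Agent.Lib.Helper17.SimpleIndex
import Cfsg.Agent.Lib.Helper17.Burnside
import Cfsg.Agent.Lib.Helper17.SylowCard
import Cfsg.Agent.Lib.Helper17.Misc
import Cfsg.Agent.S0676

set_option autoImplicit false

/-!
# Simple groups of order 3744: the Sylow 13-structure and the exclusion of small indices
-/

namespace Cfsg.Agent.Lib.Helper17.Simple3744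

open MulAction Subgroup

variable {G : Type*} [Group G] [Finite G] [IsSimpleGroup G]

theorem fact13 : Fact (Nat.Prime 13) := ⟨by norm_num⟩
theorem fact2 : Fact (Nat.Prime 2) := ⟨by norm_num⟩

attribute [local instance] fact13 fact2

theorem not_comm (h : Nat.card G = 3744) : ¬ IsMulCommutative G :=
  not_comm_of_simple_of_not_prime (by rw [h]; norm_num)

theorem card_sylow13 (h : Nat.card G = 3744) (P : Sylow 13 G) :
    Nat.card (P : Subgroup G) = 13 := by
  have hcard : Nat.card G = 13 ^ 1 * 288 := by rw [h]; norm_num
  rw [sylow_card_of_card_eq P hcard (by norm_num)]; norm_num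

theorem card_sylow13_eq (h : Nat.card G = 3744) : Nat.card (Sylow 13 G) = 144 := by
  have hcard : Nat.card G = 13 ^ 1 * 288 := by rw [h]; norm_num
  have hdvd : Nat.card (Sylow 13 G) ∣ 288 := card_sylow_dvd_of_card_eq hcard (by norm_num)
  have hmod : Nat.card (Sylow 13 G) % 13 = 1 := card_sylow_modEq_one 13 G
  have hne1 : Nat.card (Sylow 13 G) ≠ 1 :=
    card_sylow_ne_one_of_simple hcard (by norm_num) (by norm_num) (by norm_num)
  have hle : Nat.card (Sylow 13 G) ≤ 288 := Nat.le_of_dvd (by norm_num) hdvd
  generalize Nat.card (Sylow 13 G) = c at *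
  interval_cases c <;> omega

theorem card_normalizer13 (h : Nat.card G = 3744) (P : Sylow 13 G) :
    Nat.card (normalizer ((P : Subgroup G) : Set G)) = 26 := by
  have := card_sylow_mul_card_normalizer P
  rw [card_sylow13_eq h, h] at this
  omega

theorem relIndex13 (h : Nat.card G = 3744) (P : Sylow 13 G) :
    (centralizer ((P : Subgroup G) : Set G)).relIndex
      (normalizer ((P : Subgroup G) : Set G)) = 2 := by
  have hG := not_comm h
  have h2 := mul_relIndex_cent_norm_dvd_of_card_prime P (card_sylow13 h P)
  have h3 := relIndex_cent_norm_ne_one_of_simple hG P (by rw [h]; norm_num)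
  rw [card_normalizer13 h P] at h2
  generalize (centralizer ((P : Subgroup G) : Set G)).relIndex
    (normalizer ((P : Subgroup G) : Set G)) = r at *
  have hr2 : r ∣ 2 := Nat.dvd_of_mul_dvd_mul_left (by norm_num : 0 < 13) h2
  have hle := Nat.le_of_dvd (by norm_num) hr2
  interval_cases r <;> simp_all

theorem card_centralizer13 (h : Nat.card G = 3744) (P : Sylow 13 G) :
    Nat.card (centralizer ((P : Subgroup G) : Set G)) = 13 := by
  have := card_mul_relIndex_of_le
    (Subgroup.centralizer_le_normalizer (s := ((P : Subgroup G) : Set G)))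
  rw [relIndex13 h P, card_normalizer13 h P] at this
  omega

theorem card_centralizer_of_orderOf_13 (h : Nat.card G = 3744) (y : G) (hy : orderOf y = 13) :
    Nat.card (centralizer ({y} : Set G)) = 13 := by
  obtain ⟨P, hyP⟩ := exists_sylow_mem_of_orderOf_eq y hy
  have hy1 : y ≠ 1 := by
    rintro rfl
    rw [orderOf_one] at hy
    omega
  have := card_centralizer_mul_relIndex P (card_sylow13 h P) hyP hy1
  rw [relIndex13 h P, card_normalizer13 h P] at this
  omega

theorem orderOf_dvd_of_commute_13 (h : Nat.card G = 3744) (y x : G) (hy : orderOf y = 13)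
    (hxy : x * y = y * x) : orderOf x ∣ 13 := by
  have hx : x ∈ centralizer ({y} : Set G) := by
    rw [Subgroup.mem_centralizer_singleton_iff]
    exact hxy
  have := Subgroup.orderOf_dvd_natCard _ hx
  rwa [card_centralizer_of_orderOf_13 h y hy] at this

theorem not_13_dvd_card_centralizer (h : Nat.card G = 3744) (z : G) (hz : orderOf z = 2) :
    ¬ 13 ∣ Nat.card (centralizer ({z} : Set G)) := by
  intro hd
  obtain ⟨y, hyC, hy⟩ := exists_mem_orderOf_eq_of_dvd_card (centralizer ({z} : Set G)) 13 hd
  rw [Subgroup.mem_centralizer_singleton_iff] at hyC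
  have := orderOf_dvd_of_commute_13 h y z hy hyC.symm
  rw [hz] at this
  revert this
  decide

/-- A simple group of order `3744` has no subgroup of index `13`: otherwise it would be a
non-solvable transitive group of degree `13` with a Sylow `13`-normalizer of even order, hence
triply transitive, so `11` would divide its order. -/
theorem index_ne_13 {G : Type*} [Group G] [Finite G] [IsSimpleGroup G]
    (h : Nat.card G = 3744) (M : Subgroup G) : M.index ≠ 13 := by
  classical
  intro hidx
  have hG := not_comm h
  have hM : M ≠ ⊤ := by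
    rintro rfl
    rw [Subgroup.index_top] at hidx
    omega
  have : Fintype (G ⧸ M) := Fintype.ofFinite _
  have hα : Fintype.card (G ⧸ M) = 13 := by
    rw [← Nat.card_eq_fintype_card, ← Subgroup.index_eq_card, hidx]
  set φ : G →* Equiv.Perm (G ⧸ M) := MulAction.toPermHom G (G ⧸ M) with hφdef
  have hker : φ.ker = ⊥ := by
    have hn : φ.ker.Normal := inferInstance
    rcases hn.eq_bot_or_eq_top with h0 | h0
    · exact h0
    · exfalso
      apply hM
      rw [eq_top_iff]
      intro g _
      have hg : g ∈ φ.ker := by rw [h0]; exact Subgroup.mem_top g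
      rw [MonoidHom.mem_ker] at hg
      have h1 : φ g ((1 : G) : G ⧸ M) = ((1 : G) : G ⧸ M) := by rw [hg]; rfl
      rw [hφdef, MulAction.toPermHom_apply, MulAction.toPerm_apply,
        MulAction.Quotient.smul_coe, smul_eq_mul, mul_one] at h1
      have h2 := QuotientGroup.eq.1 h1
      simpa using h2
  have hφ : Function.Injective φ := (MonoidHom.ker_eq_bot_iff φ).1 hker
  let e : G ≃* φ.range := MonoidHom.ofInjective hφ
  have hsimple : IsSimpleGroup φ.range := e.symm.isSimpleGroup
  have hcard : Nat.card φ.range = 3744 := by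
    rw [← h]
    exact (Nat.card_congr e.toEquiv).symm
  have htrans : MulAction.IsPretransitive φ.range (G ⧸ M) := by
    refine ⟨fun a b => ?_⟩
    obtain ⟨g, hg⟩ := MulAction.exists_smul_eq G a b
    refine ⟨⟨φ g, ⟨g, rfl⟩⟩, ?_⟩
    exact hg
  have hnsolv : ¬ Group.IsSolvable φ.range := by
    intro hs
    have hc := (IsSimpleGroup.comm_iff_isSolvable (G := φ.range)).2 hs
    exact not_comm hcard ⟨⟨hc⟩⟩
  obtain ⟨P⟩ := (Sylow.nonempty : Nonempty (Sylow 13 φ.range))
  have heven : Even (Nat.card (Subgroup.normalizer ((P : Subgroup φ.range) : Set φ.range))) := by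
    rw [card_normalizer13 hcard P]
    decide
  have h3 := Cfsg.Agent.S0676.result (p := 13) hα φ.range hnsolv P heven
  -- a 3-element subset
  obtain ⟨s, -, hs⟩ := Finset.exists_subset_card_eq (s := (Finset.univ : Finset (G ⧸ M)))
    (n := 3) (by rw [Finset.card_univ, hα]; norm_num)
  have hs' : (s : Set (G ⧸ M)).ncard = 3 := by rw [Set.ncard_coe_finset, hs]
  have h4 := h3.index_of_fixingSubgroup_mul hs'
  rw [Nat.card_eq_fintype_card, hα] at h4
  have h5 : (fixingSubgroup φ.range (s : Set (G ⧸ M))).index ∣ 3744 := by
    rw [← hcard]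
    exact Subgroup.index_dvd_card _
  have h6 : (fixingSubgroup φ.range (s : Set (G ⧸ M))).index = 1716 := by
    have h7 : (13 - 3).factorial = 3628800 := by decide
    have h8 : (13 : ℕ).factorial = 6227020800 := by decide
    rw [h7, h8] at h4
    omega
  rw [h6] at h5
  revert h5
  decide

/-- Every proper subgroup of a simple group of order `3744` has index at least `14`. -/
theorem index_ge (h : Nat.card G = 3744) (M : Subgroup G) (hM : M ≠ ⊤) : 14 ≤ M.index := by
  have hG := not_comm h
  have h1 := two_mul_card_dvd_factorial_index_of_simple hG M hM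
  rw [h] at h1
  have h2 : 13 ∣ (M.index).factorial := Dvd.dvd.trans (by norm_num) h1
  have h3 : 13 ≤ M.index := (Nat.Prime.dvd_factorial (by norm_num)).1 h2
  have h4 := index_ne_13 h M
  omega

end Cfsg.Agent.Lib.Helper17.Simple3744
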