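import Mathlib
import Cfsg.Agent.Lib.Helper17.Simple3744a
import Cfsg.Agent.Lib.Helper17.CosetAction
import Cfsg.Agent.Lib.Helper17.ConjCount

set_option autoImplicit false

/-!
# Simple groups of order 3744: the involutions of `N(P₁₃)` and their fixed points
-/

namespace Cfsg.Agent.Lib.Helper17.Simple3744

open MulAction Subgroup

attribute [local instance] fact13 fact2

variable {G : Type*} [Group G] [Finite G] [IsSimpleGroup G]

/-- The normalizer of a Sylow `13`-subgroup. -/
abbrev NP (P : Sylow 13 G) : Subgroup G := normalizer ((P : Subgroup G) : Set G)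

theorem not_mem_sylow_of_orderOf_two (h : Nat.card G = 3744) (P : Sylow 13 G) (s : G)
    (hs : orderOf s = 2) : s ∉ (P : Subgroup G) := by
  intro hsP
  have := Subgroup.orderOf_dvd_natCard _ hsP
  rw [hs, card_sylow13 h P] at this
  revert this
  decide

theorem orderOf_eq_13_of_mem (h : Nat.card G = 3744) (P : Sylow 13 G) (y : G)
    (hy : y ∈ (P : Subgroup G)) (hy1 : y ≠ 1) : orderOf y = 13 := by
  have := Subgroup.orderOf_dvd_natCard _ hy
  rw [card_sylow13 h P] at this
  rcases (Nat.Prime.eq_one_or_self_of_dvd (by norm_num) _ this) with h1 | h1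
  · exact absurd (orderOf_eq_one_iff.1 h1) hy1
  · exact h1

theorem not_mem_centralizer_of_orderOf_two (h : Nat.card G = 3744) (P : Sylow 13 G) (s : G)
    (hs : orderOf s = 2) : s ∉ centralizer ((P : Subgroup G) : Set G) := by
  intro hsC
  have := Subgroup.orderOf_dvd_natCard _ hsC
  rw [hs, card_centralizer13 h P] at this
  revert this
  decide

/-- Conjugation of an involution of `N(P)` by elements of `P` is injective. -/
theorem conj_injective (h : Nat.card G = 3744) (P : Sylow 13 G) (t : G) (ht : orderOf t = 2)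
    (u v : G) (hu : u ∈ (P : Subgroup G)) (hv : v ∈ (P : Subgroup G))
    (huv : u * t * u⁻¹ = v * t * v⁻¹) : u = v := by
  by_contra hne
  set w : G := v⁻¹ * u with hw
  have hwP : w ∈ (P : Subgroup G) := (P : Subgroup G).mul_mem ((P : Subgroup G).inv_mem hv) hu
  have hw1 : w ≠ 1 := by
    intro hw1
    apply hne
    have : v⁻¹ * u = 1 := hw1
    have h2 : u = v * (v⁻¹ * u) := by group
    rw [h2, this, mul_one]
  have hcomm : t * w = w * t := by
    have h2 : w * t * w⁻¹ = t := by
      rw [hw]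
      calc v⁻¹ * u * t * (v⁻¹ * u)⁻¹
          = v⁻¹ * (u * t * u⁻¹) * v := by group
        _ = v⁻¹ * (v * t * v⁻¹) * v := by rw [huv]
        _ = t := by group
    calc t * w = (w * t * w⁻¹) * w := by rw [h2]
      _ = w * t := by group
  exact not_mem_centralizer_of_orderOf_two h P t ht
    (mem_centralizer_of_commute_of_card_prime (P : Subgroup G) fact13.out (card_sylow13 h P)
      hwP hw1 hcomm)

theorem card_normalizer_diff (h : Nat.card G = 3744) (P : Sylow 13 G) :
    Nat.card {u : G // u ∈ NP P ∧ u ∉ (P : Subgroup G)} = 13 := by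
  classical
  have := Fintype.ofFinite G
  have eN : Nat.card (NP P) = (Finset.univ.filter (fun u : G => u ∈ NP P)).card := by
    rw [Nat.card_eq_fintype_card, Fintype.card_subtype]
  have eP : Nat.card (P : Subgroup G) =
      (Finset.univ.filter (fun u : G => u ∈ (P : Subgroup G))).card := by
    rw [Nat.card_eq_fintype_card, Fintype.card_subtype]
  have e : Nat.card {u : G // u ∈ NP P ∧ u ∉ (P : Subgroup G)} =
      (Finset.univ.filter (fun u : G => u ∈ NP P ∧ u ∉ (P : Subgroup G))).card := by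
    rw [Nat.card_eq_fintype_card, Fintype.card_subtype]
  rw [e, Finset.filter_and_not, Finset.card_sdiff_of_subset, ← eN, ← eP, card_sylow13 h P,
    card_normalizer13 h P]
  intro u hu
  rw [Finset.mem_filter] at hu ⊢
  exact ⟨hu.1, le_normalizer hu.2⟩

/-- Every element of `N(P) \ P` is a `P`-conjugate of the involution `t`. -/
theorem exists_conj_of_mem_diff (h : Nat.card G = 3744) (P : Sylow 13 G) (t : G)
    (htN : t ∈ NP P) (ht : orderOf t = 2) (u : G) (huN : u ∈ NP P)
    (huP : u ∉ (P : Subgroup G)) : ∃ y ∈ (P : Subgroup G), y * t * y⁻¹ = u := by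
  let φ : ↥(P : Subgroup G) → {u : G // u ∈ NP P ∧ u ∉ (P : Subgroup G)} := fun y =>
    ⟨(y : G) * t * (y : G)⁻¹,
      (NP P).mul_mem ((NP P).mul_mem (le_normalizer y.2) htN) ((NP P).inv_mem (le_normalizer y.2)),
      not_mem_sylow_of_orderOf_two h P _ (by rw [orderOf_conj_eq, ht])⟩
  have hφ : Function.Injective φ := by
    intro y y' hyy
    have h1 : (y : G) * t * (y : G)⁻¹ = (y' : G) * t * (y' : G)⁻¹ := congrArg Subtype.val hyy
    exact Subtype.ext (conj_injective h P t ht _ _ y.2 y'.2 h1)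
  have hbij : Function.Bijective φ := by
    apply hφ.bijective_of_nat_card_le
    rw [card_normalizer_diff h P, card_sylow13 h P]
  obtain ⟨y, hy⟩ := hbij.2 ⟨u, huN, huP⟩
  exact ⟨y.1, y.2, congrArg Subtype.val hy⟩

theorem orderOf_eq_two_of_mem_diff (h : Nat.card G = 3744) (P : Sylow 13 G) (t : G)
    (htN : t ∈ NP P) (ht : orderOf t = 2) (u : G) (huN : u ∈ NP P)
    (huP : u ∉ (P : Subgroup G)) : orderOf u = 2 := by
  obtain ⟨y, _, rfl⟩ := exists_conj_of_mem_diff h P t htN ht u huN huP
  rw [orderOf_conj_eq, ht]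

theorem card_conj_inter (h : Nat.card G = 3744) (P : Sylow 13 G) (t : G)
    (htN : t ∈ NP P) (ht : orderOf t = 2) :
    Nat.card {g : G // IsConj t g ∧ g ∈ NP P} = 13 := by
  rw [← card_normalizer_diff h P]
  apply Nat.card_congr
  apply Equiv.subtypeEquivRight
  intro g
  constructor
  · rintro ⟨hc, hgN⟩
    exact ⟨hgN, not_mem_sylow_of_orderOf_two h P g (by rw [orderOf_eq_of_isConj hc, ht])⟩
  · rintro ⟨hgN, hgP⟩
    obtain ⟨y, _, rfl⟩ := exists_conj_of_mem_diff h P t htN ht g hgN hgP
    exact ⟨isConj_iff.2 ⟨y, rfl⟩, hgN⟩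


omit [Finite G] [IsSimpleGroup G] in
/-- Conjugate elements have the same number of fixed points. -/
theorem card_fixedBy_conj {α : Type*} [MulAction G α] (g x : G) :
    Nat.card (fixedBy α (g * x * g⁻¹)) = Nat.card (fixedBy α x) := by
  apply Nat.card_congr
  refine
    { toFun := fun q => ⟨g⁻¹ • q.1, ?_⟩
      invFun := fun q => ⟨g • q.1, ?_⟩
      left_inv := fun q => Subtype.ext (smul_inv_smul g q.1)
      right_inv := fun q => Subtype.ext (inv_smul_smul g q.1) }
  · have h1 := q.2
    rw [mem_fixedBy] at h1 ⊢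
    calc x • g⁻¹ • q.1 = (g⁻¹ * (g * x * g⁻¹)) • q.1 := by
          rw [← mul_smul]
          congr 1
          group
      _ = g⁻¹ • ((g * x * g⁻¹) • q.1) := mul_smul _ _ _
      _ = g⁻¹ • q.1 := by rw [h1]
  · have h1 := q.2
    rw [mem_fixedBy] at h1 ⊢
    rw [← mul_smul]
    have h2 : g * x * g⁻¹ * g = g * x := by group
    rw [h2, mul_smul, h1]

theorem card_fixedBy_of_mem_diff (h : Nat.card G = 3744) (P : Sylow 13 G) (t : G)
    (htN : t ∈ NP P) (ht : orderOf t = 2) (u : G) (huN : u ∈ NP P)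
    (huP : u ∉ (P : Subgroup G)) :
    Nat.card (fixedBy (G ⧸ NP P) u) = Nat.card (fixedBy (G ⧸ NP P) t) := by
  obtain ⟨y, _, rfl⟩ := exists_conj_of_mem_diff h P t htN ht u huN huP
  exact card_fixedBy_conj y t

theorem index_normalizer13 (h : Nat.card G = 3744) (P : Sylow 13 G) : (NP P).index = 144 := by
  have e : Nat.card (Sylow 13 G) = (NP P).index := P.card_eq_index_normalizer
  rw [← e, card_sylow13_eq h]

/-- The number of fixed points of an involution of `N(P)` is `4`, `8` or `12`. -/
theorem card_fixedBy_mem (h : Nat.card G = 3744) (P : Sylow 13 G) (t : G)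
    (htN : t ∈ NP P) (ht : orderOf t = 2) :
    Nat.card (fixedBy (G ⧸ NP P) t) = 4 ∨ Nat.card (fixedBy (G ⧸ NP P) t) = 8 ∨
      Nat.card (fixedBy (G ⧸ NP P) t) = 12 := by
  have hG := not_comm h
  have hP := card_sylow13 h P
  have htC := not_mem_centralizer_of_orderOf_two h P t ht
  have ht2 : t ^ 2 = 1 := by rw [← ht]; exact pow_orderOf_eq_one t
  have hf12 : Nat.card (fixedBy (G ⧸ NP P) t) ≤ 12 := by
    have h1 : Nat.card (fixedBy (G ⧸ NP P) t) ≤
        Nat.card (orbitRel.Quotient (P : Subgroup G) (G ⧸ NP P)) :=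
      card_fixedBy_le_card_orbits P hP t htN htC
    have h2 : Nat.card (orbitRel.Quotient (P : Subgroup G) (G ⧸ NP P)) * 13 =
        Nat.card (Sylow 13 G) + (13 - 1) := card_orbits_mul_eq P hP
    rw [card_sylow13_eq h] at h2
    have h3 : Nat.card (orbitRel.Quotient (P : Subgroup G) (G ⧸ NP P)) = 12 := by omega
    rw [h3] at h1
    exact h1
  have hf4 := four_dvd_index_sub_card_fixedBy_of_simple hG (NP P) t ht2
  rw [index_normalizer13 h P] at hf4
  have hf1 : 1 ≤ Nat.card (fixedBy (G ⧸ NP P) t) := by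
    have hne : Nonempty (fixedBy (G ⧸ NP P) t) := by
      refine ⟨⟨((1 : G) : G ⧸ NP P), ?_⟩⟩
      rw [mk_mem_fixedBy_iff]
      simpa using htN
    exact Nat.card_pos
  omega

theorem card_fixedBy_mul_card_conj13 (h : Nat.card G = 3744) (P : Sylow 13 G) (t : G)
    (htN : t ∈ NP P) (ht : orderOf t = 2) :
    Nat.card (fixedBy (G ⧸ NP P) t) * Nat.card {g : G // IsConj t g} = 1872 := by
  have hform := card_fixedBy_mul_card_conj (NP P) t
  rw [index_normalizer13 h P, card_conj_inter h P t htN ht] at hform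
  omega

theorem card_centralizer_involution (h : Nat.card G = 3744) (P : Sylow 13 G) (t : G)
    (htN : t ∈ NP P) (ht : orderOf t = 2) :
    Nat.card (centralizer ({t} : Set G)) = 2 * Nat.card (fixedBy (G ⧸ NP P) t) := by
  have h1 := card_fixedBy_mul_card_conj13 h P t htN ht
  have h2 := card_conj_mul_card_centralizer t
  rw [h] at h2
  have hK : 0 < Nat.card {g : G // IsConj t g} := by
    rcases Nat.eq_zero_or_pos (Nat.card {g : G // IsConj t g}) with h0 | h0
    · rw [h0] at h1; omega
    · exact h0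
  have h3 : Nat.card {g : G // IsConj t g} * Nat.card (centralizer ({t} : Set G)) =
      Nat.card {g : G // IsConj t g} * (2 * Nat.card (fixedBy (G ⧸ NP P) t)) := by
    rw [h2]
    have : Nat.card {g : G // IsConj t g} * (2 * Nat.card (fixedBy (G ⧸ NP P) t)) =
        2 * (Nat.card (fixedBy (G ⧸ NP P) t) * Nat.card {g : G // IsConj t g}) := by ring
    rw [this, h1]
  exact Nat.eq_of_mul_eq_mul_left hK h3

/-- A non-identity element of `P` fixes only the base point. -/
theorem eq_base_of_smul_eq (h : Nat.card G = 3744) (P : Sylow 13 G) (y : G)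
    (hy : y ∈ (P : Subgroup G)) (hy1 : y ≠ 1) (q : G ⧸ NP P) (hq : y • q = q) :
    q = ((1 : G) : G ⧸ NP P) := by
  have h1 := card_fixedBy_normalizer_eq_one P (card_sylow13 h P) y
    (orderOf_eq_13_of_mem h P y hy hy1)
  rw [Nat.card_eq_one_iff_unique] at h1
  have hb : ((1 : G) : G ⧸ NP P) ∈ fixedBy (G ⧸ NP P) y := by
    rw [mk_mem_fixedBy_iff, inv_one, one_mul, mul_one]
    exact le_normalizer hy
  have := h1.1.elim ⟨q, hq⟩ ⟨_, hb⟩
  exact congrArg Subtype.val this

/-- Two distinct involutions of `N(P)` have only the base point as a common fixed point. -/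
theorem eq_base_of_smul_eq_of_ne (h : Nat.card G = 3744) (P : Sylow 13 G)
    (u u' : G) (hu : u ∈ NP P) (hu' : u' ∈ NP P) (huP : u ∉ (P : Subgroup G))
    (hu'P : u' ∉ (P : Subgroup G)) (hne : u ≠ u') (q : G ⧸ NP P) (hq : u • q = q)
    (hq' : u' • q = q) : q = ((1 : G) : G ⧸ NP P) := by
  have hidx : ((P : Subgroup G).subgroupOf (NP P)).index = 2 := by
    have h1 : Nat.card (P : Subgroup G) * (P : Subgroup G).relIndex (NP P) = Nat.card (NP P) :=
      card_mul_relIndex_of_le le_normalizer
    have h2 : Nat.card (NP P) = 26 := card_normalizer13 h P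
    rw [card_sylow13 h P, h2] at h1
    have : (P : Subgroup G).relIndex (NP P) = 2 := by omega
    exact this
  have hyP : u⁻¹ * u' ∈ (P : Subgroup G) := by
    have := (Subgroup.mul_mem_iff_of_index_two hidx (a := (⟨u, hu⟩ : NP P)⁻¹)
      (b := (⟨u', hu'⟩ : NP P))).2 ?_
    · simpa [Subgroup.mem_subgroupOf] using this
    · rw [Subgroup.inv_mem_iff]
      simp only [Subgroup.mem_subgroupOf]
      exact ⟨fun h => absurd h huP, fun h => absurd h hu'P⟩
  have hy1 : u⁻¹ * u' ≠ 1 := by
    intro h1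
    apply hne
    have : u' = u * (u⁻¹ * u') := by group
    rw [this, h1, mul_one]
  apply eq_base_of_smul_eq h P _ hyP hy1 q
  rw [mul_smul, hq']
  calc u⁻¹ • q = u⁻¹ • (u • q) := by rw [hq]
    _ = q := inv_smul_smul u q

end Cfsg.Agent.Lib.Helper17.Simple3744
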