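import Mathlib
import Cfsg.Agent.Lib.Helper17.Simple3744b
import Cfsg.Agent.Lib.Helper17.SwapBound

set_option autoImplicit false

/-!
# Simple groups of order 3744: an involution of `N(P₁₃)` has exactly 12 fixed points
-/

namespace Cfsg.Agent.Lib.Helper17.Simple3744

open MulAction Subgroup

attribute [local instance] fact13 fact2

/-- A finite group of even order has an involution centralized by a Sylow `2`-subgroup. -/
theorem exists_involution_sylow_le_centralizer {G : Type*} [Group G] [Finite G] (S : Sylow 2 G)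
    (hS : Nat.card (S : Subgroup G) ≠ 1) :
    ∃ z : G, orderOf z = 2 ∧ (S : Subgroup G) ≤ centralizer ({z} : Set G) := by
  have hp : IsPGroup 2 (S : Subgroup G) := S.isPGroup'
  have hnt : Nontrivial (S : Subgroup G) := by
    rw [← Finite.one_lt_card_iff_nontrivial]
    have : 0 < Nat.card (S : Subgroup G) := Nat.card_pos
    omega
  have hc : Nontrivial (center (S : Subgroup G)) := hp.center_nontrivial
  have hcp : IsPGroup 2 (center (S : Subgroup G)) := hp.to_subgroup _
  obtain ⟨n, hn⟩ := IsPGroup.iff_card.mp hcp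
  have hn0 : n ≠ 0 := by
    rintro rfl
    rw [pow_zero] at hn
    have := Finite.one_lt_card_iff_nontrivial.2 hc
    omega
  have h2 : 2 ∣ Nat.card (center (S : Subgroup G)) := by
    rw [hn]
    exact dvd_pow_self 2 hn0
  obtain ⟨z', hz'⟩ := exists_prime_orderOf_dvd_card' 2 h2
  refine ⟨((z' : (S : Subgroup G)) : G), ?_, ?_⟩
  · rw [Subgroup.orderOf_coe, Subgroup.orderOf_coe, hz']
  · intro s hs
    rw [Subgroup.mem_centralizer_singleton_iff]
    have h3 : (⟨s, hs⟩ : (S : Subgroup G)) * (z' : (S : Subgroup G)) =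
        (z' : (S : Subgroup G)) * ⟨s, hs⟩ := Subgroup.mem_center_iff.1 z'.2 ⟨s, hs⟩
    have h4 : (((⟨s, hs⟩ : (S : Subgroup G)) * (z' : (S : Subgroup G)) : (S : Subgroup G)) : G) =
        (((z' : (S : Subgroup G)) * ⟨s, hs⟩ : (S : Subgroup G)) : G) := by rw [h3]
    simpa using h4

variable {G : Type*} [Group G] [Finite G] [IsSimpleGroup G]

omit [Finite G] in
theorem center_eq_bot_of_simple (hG : ¬ IsMulCommutative G) : center G = ⊥ := by
  have hnorm : (center G).Normal := inferInstance
  rcases hnorm.eq_bot_or_eq_top with h0 | h0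
  · exact h0
  · exfalso
    apply hG
    refine ⟨⟨fun a b => ?_⟩⟩
    have ha : a ∈ center G := by rw [h0]; trivial
    exact ((Subgroup.mem_center_iff.1 ha) b).symm

/-- A `2`-central involution with at least `14` conjugates and a centralizer of order divisible
by `32`. -/
theorem exists_central_involution (h : Nat.card G = 3744) :
    ∃ z : G, orderOf z = 2 ∧ 32 ∣ Nat.card (centralizer ({z} : Set G)) ∧
      14 ≤ Nat.card {g : G // IsConj z g} := by
  have hG := not_comm h
  obtain ⟨S⟩ := (Sylow.nonempty : Nonempty (Sylow 2 G))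
  have hS : Nat.card (S : Subgroup G) = 2 ^ 5 := by
    have hcard : Nat.card G = 2 ^ 5 * 117 := by rw [h]; norm_num
    exact sylow_card_of_card_eq S hcard (by norm_num)
  obtain ⟨z, hz, hSz⟩ := exists_involution_sylow_le_centralizer S (by rw [hS]; norm_num)
  refine ⟨z, hz, ?_, ?_⟩
  · have := Subgroup.card_dvd_of_le hSz
    rwa [hS] at this
  · have hne : centralizer ({z} : Set G) ≠ ⊤ := by
      intro htop
      have hzc : z ∈ center G := by
        rw [Subgroup.mem_center_iff]
        intro g
        have hg : g ∈ centralizer ({z} : Set G) := by rw [htop]; trivial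
        rw [Subgroup.mem_centralizer_singleton_iff] at hg
        exact hg
      rw [center_eq_bot_of_simple hG, Subgroup.mem_bot] at hzc
      rw [hzc, orderOf_one] at hz
      omega
    have h1 := index_ge h _ hne
    have h2 := card_conj_mul_card_centralizer z
    have h3 := (centralizer ({z} : Set G)).index_mul_card
    rw [h] at h2
    rw [h] at h3
    have hpos : 0 < Nat.card (centralizer ({z} : Set G)) := Nat.card_pos
    have h4 : Nat.card {g : G // IsConj z g} = (centralizer ({z} : Set G)).index := by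
      apply Nat.eq_of_mul_eq_mul_right hpos
      rw [h2, h3]
    rw [h4]
    exact h1


theorem card_quotient13 (h : Nat.card G = 3744) (P : Sylow 13 G) :
    Nat.card (G ⧸ NP P) = 144 := by
  rw [← Subgroup.index_eq_card]
  exact index_normalizer13 h P

omit [Finite G] [IsSimpleGroup G] in
/-- Removing the base point from the fixed points. -/
theorem card_fixed_ne_base [Finite G] (N : Subgroup G) (u : G) (hu : u ∈ N) :
    Nat.card {q : G ⧸ N // q ≠ ((1 : G) : G ⧸ N) ∧ u • q = q} + 1 =
      Nat.card (fixedBy (G ⧸ N) u) := by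
  classical
  have := Fintype.ofFinite (G ⧸ N)
  have e1 : Nat.card {q : G ⧸ N // q ≠ ((1 : G) : G ⧸ N) ∧ u • q = q} =
      (Finset.univ.filter (fun q : G ⧸ N => q ≠ ((1 : G) : G ⧸ N) ∧ u • q = q)).card := by
    rw [Nat.card_eq_fintype_card, Fintype.card_subtype]
  have e2 : Nat.card (fixedBy (G ⧸ N) u) =
      (Finset.univ.filter (fun q : G ⧸ N => u • q = q)).card := by
    rw [Nat.card_eq_fintype_card]
    exact Fintype.card_subtype _
  have e3 : Finset.univ.filter (fun q : G ⧸ N => q ≠ ((1 : G) : G ⧸ N) ∧ u • q = q) =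
      (Finset.univ.filter (fun q : G ⧸ N => u • q = q)).erase ((1 : G) : G ⧸ N) := by
    ext q
    simp only [Finset.mem_filter, Finset.mem_univ, true_and, Finset.mem_erase]
  have hb : ((1 : G) : G ⧸ N) ∈ Finset.univ.filter (fun q : G ⧸ N => u • q = q) := by
    rw [Finset.mem_filter]
    exact ⟨Finset.mem_univ _, (smul_base_eq_iff N u).2 hu⟩
  rw [e1, e2, e3, Finset.card_erase_of_mem hb]
  have : 0 < (Finset.univ.filter (fun q : G ⧸ N => u • q = q)).card := Finset.card_pos.2 ⟨_, hb⟩
  omega

/-- The number of pairs `(q, u)` with `q` a non-base coset fixed by `u ∈ N(P)`. -/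
theorem card_pairs_le (h : Nat.card G = 3744) (P : Sylow 13 G) (t : G)
    (htN : t ∈ NP P) (ht : orderOf t = 2) :
    Nat.card {x : (G ⧸ NP P) × G // x.1 ≠ ((1 : G) : G ⧸ NP P) ∧ x.2 ∈ NP P ∧ x.2 • x.1 = x.1} ≤
      143 + 13 * (Nat.card (fixedBy (G ⧸ NP P) t) - 1) := by
  classical
  have := Fintype.ofFinite G
  have := Fintype.ofFinite (G ⧸ NP P)
  set f := Nat.card (fixedBy (G ⧸ NP P) t) with hf
  set base : G ⧸ NP P := ((1 : G) : G ⧸ NP P) with hbase
  have e : Nat.card {x : (G ⧸ NP P) × G // x.1 ≠ base ∧ x.2 ∈ NP P ∧ x.2 • x.1 = x.1} =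
      (Finset.univ.filter
        (fun x : (G ⧸ NP P) × G => x.1 ≠ base ∧ x.2 ∈ NP P ∧ x.2 • x.1 = x.1)).card := by
    rw [Nat.card_eq_fintype_card, Fintype.card_subtype]
  rw [e]
  set T := Finset.univ.filter
    (fun x : (G ⧸ NP P) × G => x.1 ≠ base ∧ x.2 ∈ NP P ∧ x.2 • x.1 = x.1) with hT
  have hTmem : ∀ x, x ∈ T ↔ (x.1 ≠ base ∧ x.2 ∈ NP P ∧ x.2 • x.1 = x.1) := by
    intro x
    rw [hT, Finset.mem_filter]
    simp only [Finset.mem_univ, true_and]
  have hsplit := Finset.card_filter_add_card_filter_not (s := T)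
    (fun x : (G ⧸ NP P) × G => x.2 = 1)
  -- the pairs with second component `1`
  have hA : (T.filter (fun x : (G ⧸ NP P) × G => x.2 = 1)).card ≤ 143 := by
    have h1 : (T.filter (fun x : (G ⧸ NP P) × G => x.2 = 1)).card ≤
        ((Finset.univ : Finset (G ⧸ NP P)).erase base).card := by
      apply Finset.card_le_card_of_injOn Prod.fst
      · intro x hx
        have hx' := Finset.mem_filter.1 (Finset.mem_coe.1 hx)
        have := (hTmem x).1 hx'.1
        exact Finset.mem_coe.2 (Finset.mem_erase.2 ⟨this.1, Finset.mem_univ _⟩)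
      · intro x hx y hy hxy
        have hx' := Finset.mem_filter.1 (Finset.mem_coe.1 hx)
        have hy' := Finset.mem_filter.1 (Finset.mem_coe.1 hy)
        exact Prod.ext hxy (hx'.2.trans hy'.2.symm)
    rw [Finset.card_erase_of_mem (Finset.mem_univ _), Finset.card_univ,
      ← Nat.card_eq_fintype_card, card_quotient13 h P] at h1
    exact h1
  -- the involutions of `N(P)`
  set U := Finset.univ.filter (fun u : G => u ∈ NP P ∧ u ∉ (P : Subgroup G)) with hU
  have hUcard : U.card = 13 := by
    rw [← card_normalizer_diff h P, Nat.card_eq_fintype_card, Fintype.card_subtype]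
  have hB : (T.filter (fun x : (G ⧸ NP P) × G => ¬ x.2 = 1)).card ≤ 13 * (f - 1) := by
    have hmaps : ∀ x ∈ T.filter (fun x : (G ⧸ NP P) × G => ¬ x.2 = 1), x.2 ∈ U := by
      intro x hx
      have hx' := Finset.mem_filter.1 hx
      have hx'' := (hTmem x).1 hx'.1
      rw [hU, Finset.mem_filter]
      refine ⟨Finset.mem_univ _, hx''.2.1, ?_⟩
      intro hxP
      exact hx''.1 (eq_base_of_smul_eq h P x.2 hxP hx'.2 x.1 hx''.2.2)
    rw [Finset.card_eq_sum_card_fiberwise hmaps]
    have hfib : ∀ u ∈ U, ((T.filter (fun x : (G ⧸ NP P) × G => ¬ x.2 = 1)).filter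
        (fun x => x.2 = u)).card ≤ f - 1 := by
      intro u hu
      rw [hU, Finset.mem_filter] at hu
      have h1 : ((T.filter (fun x : (G ⧸ NP P) × G => ¬ x.2 = 1)).filter
          (fun x => x.2 = u)).card ≤
          (Finset.univ.filter (fun q : G ⧸ NP P => q ≠ base ∧ u • q = q)).card := by
        apply Finset.card_le_card_of_injOn Prod.fst
        · intro x hx
          have hx' := Finset.mem_filter.1 (Finset.mem_coe.1 hx)
          have hx'' := Finset.mem_filter.1 hx'.1
          have hx3 := (hTmem x).1 hx''.1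
          apply Finset.mem_coe.2
          rw [Finset.mem_filter]
          refine ⟨Finset.mem_univ _, hx3.1, ?_⟩
          rw [← hx'.2]
          exact hx3.2.2
        · intro x hx y hy hxy
          have hx' := Finset.mem_filter.1 (Finset.mem_coe.1 hx)
          have hy' := Finset.mem_filter.1 (Finset.mem_coe.1 hy)
          exact Prod.ext hxy (hx'.2.trans hy'.2.symm)
      have h2 : Nat.card {q : G ⧸ NP P // q ≠ base ∧ u • q = q} =
          (Finset.univ.filter (fun q : G ⧸ NP P => q ≠ base ∧ u • q = q)).card := by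
        rw [Nat.card_eq_fintype_card, Fintype.card_subtype]
      have h3 : Nat.card {q : G ⧸ NP P // q ≠ base ∧ u • q = q} + 1 =
          Nat.card (fixedBy (G ⧸ NP P) u) := card_fixed_ne_base (NP P) u hu.2.1
      have h4 : Nat.card (fixedBy (G ⧸ NP P) u) = f :=
        card_fixedBy_of_mem_diff h P t htN ht u hu.2.1 hu.2.2
      rw [← h2] at h1
      omega
    calc ∑ u ∈ U, ((T.filter (fun x : (G ⧸ NP P) × G => ¬ x.2 = 1)).filter
          (fun x => x.2 = u)).card ≤ ∑ _u ∈ U, (f - 1) := Finset.sum_le_sum hfib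
      _ = 13 * (f - 1) := by rw [Finset.sum_const, hUcard, smul_eq_mul]
  omega


omit [IsSimpleGroup G] in
theorem card_centralizer_eq_of_isConj {a b : G} (hab : IsConj a b) :
    Nat.card (centralizer ({a} : Set G)) = Nat.card (centralizer ({b} : Set G)) := by
  have h1 := card_conj_mul_card_centralizer a
  have h2 := card_conj_mul_card_centralizer b
  have h3 : Nat.card {y : G // IsConj a y} = Nat.card {y : G // IsConj b y} := by
    apply Nat.card_congr
    apply Equiv.subtypeEquivRight
    intro y
    exact ⟨fun hy => hab.symm.trans hy, fun hy => hab.trans hy⟩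
  have hpos : 0 < Nat.card {y : G // IsConj b y} := by
    have : Nonempty {y : G // IsConj b y} := ⟨⟨b, IsConj.refl b⟩⟩
    exact Nat.card_pos
  rw [h3, ← h2] at h1
  exact Nat.eq_of_mul_eq_mul_left hpos h1

/-- An involution of `N(P)` fixes exactly `12` cosets of `N(P)`. -/
theorem card_fixedBy_eq_12 (h : Nat.card G = 3744) (P : Sylow 13 G) (t : G)
    (htN : t ∈ NP P) (ht : orderOf t = 2) : Nat.card (fixedBy (G ⧸ NP P) t) = 12 := by
  classical
  have := Fintype.ofFinite G
  obtain ⟨z, hz, h32, h14⟩ := exists_central_involution h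
  have hC := card_centralizer_involution h P t htN ht
  have hK := card_fixedBy_mul_card_conj13 h P t htN ht
  have hcases := card_fixedBy_mem h P t htN ht
  have hnc : ¬ IsConj t z := by
    intro hc
    have := card_centralizer_eq_of_isConj hc
    rw [← this, hC] at h32
    rcases hcases with h4 | h4 | h4 <;> rw [h4] at h32 <;> revert h32 <;> decide
  have hS1 := card_sq_eq_one_not_mem_le (NP P)
  have hS2 := card_pairs_le h P t htN ht
  have hsq : ∀ g : G, orderOf g = 2 → g ^ 2 = 1 := by
    intro g hg
    rw [← hg]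
    exact pow_orderOf_eq_one g
  -- finsets
  have eK : Nat.card {g : G // IsConj t g} = (Finset.univ.filter (fun g : G => IsConj t g)).card := by
    rw [Nat.card_eq_fintype_card, Fintype.card_subtype]
  have eZ : Nat.card {g : G // IsConj z g} = (Finset.univ.filter (fun g : G => IsConj z g)).card := by
    rw [Nat.card_eq_fintype_card, Fintype.card_subtype]
  have eS : Nat.card {s : G // s ^ 2 = 1 ∧ s ∉ NP P} =
      (Finset.univ.filter (fun s : G => s ^ 2 = 1 ∧ s ∉ NP P)).card := by
    rw [Nat.card_eq_fintype_card, Fintype.card_subtype]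
  have eKN : Nat.card {g : G // IsConj t g ∧ g ∈ NP P} =
      (Finset.univ.filter (fun g : G => IsConj t g ∧ g ∈ NP P)).card := by
    rw [Nat.card_eq_fintype_card, Fintype.card_subtype]
  have hdisj : Disjoint (Finset.univ.filter (fun g : G => IsConj t g))
      (Finset.univ.filter (fun g : G => IsConj z g)) := by
    rw [Finset.disjoint_left]
    intro g hg1 hg2
    rw [Finset.mem_filter] at hg1 hg2
    exact hnc (hg1.2.trans hg2.2.symm)
  have hsub : Finset.univ.filter (fun g : G => IsConj t g) ∪
      Finset.univ.filter (fun g : G => IsConj z g) ⊆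
      Finset.univ.filter (fun s : G => s ^ 2 = 1 ∧ s ∉ NP P) ∪
      Finset.univ.filter (fun g : G => IsConj t g ∧ g ∈ NP P) := by
    intro g hg
    rw [Finset.mem_union, Finset.mem_filter, Finset.mem_filter] at hg
    rw [Finset.mem_union, Finset.mem_filter, Finset.mem_filter]
    rcases hg with ⟨_, hg⟩ | ⟨_, hg⟩
    · by_cases hgN : g ∈ NP P
      · exact Or.inr ⟨Finset.mem_univ _, hg, hgN⟩
      · exact Or.inl ⟨Finset.mem_univ _, hsq g (by rw [orderOf_eq_of_isConj hg, ht]), hgN⟩
    · have hg2 : orderOf g = 2 := by rw [orderOf_eq_of_isConj hg, hz]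
      refine Or.inl ⟨Finset.mem_univ _, hsq g hg2, ?_⟩
      intro hgN
      have hgP := not_mem_sylow_of_orderOf_two h P g hg2
      obtain ⟨y, _, hy⟩ := exists_conj_of_mem_diff h P t htN ht g hgN hgP
      have h1 : IsConj t g := isConj_iff.2 ⟨y, hy⟩
      exact hnc (h1.trans hg.symm)
  have hcard := Finset.card_le_card hsub
  rw [Finset.card_union_of_disjoint hdisj] at hcard
  have hcard2 := hcard.trans (Finset.card_union_le _ _)
  rw [← eK, ← eZ, ← eS, ← eKN, card_conj_inter h P t htN ht] at hcard2
  rcases hcases with h4 | h4 | h4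
  · rw [h4] at hK hS2
    omega
  · rw [h4] at hK hS2
    omega
  · exact h4

end Cfsg.Agent.Lib.Helper17.Simple3744
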