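import Mathlib
import Cfsg.Agent.Lib.Helper17.Simple3744c
import Cfsg.Agent.Lib.Helper17.AffinePlane

set_option autoImplicit false

/-!
# Simple groups of order 3744 do not exist

The `144` cosets of `N(P₁₃)` and the `156` involutions conjugate to an involution of `N(P₁₃)` form
an affine plane of order `12`; the action on its `13` parallel classes gives a subgroup of index at
most `13`, which does not exist.
-/

namespace Cfsg.Agent.Lib.Helper17.Simple3744

open MulAction Subgroup

attribute [local instance] fact13 fact2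

variable {G : Type*} [Group G] [Finite G] [IsSimpleGroup G]

/-- Every non-base coset is fixed by an involution of `N(P)`. -/
theorem exists_involution_fixing (h : Nat.card G = 3744) (P : Sylow 13 G) (t : G)
    (htN : t ∈ NP P) (ht : orderOf t = 2) (q : G ⧸ NP P) (hq : q ≠ ((1 : G) : G ⧸ NP P)) :
    ∃ u : G, u ∈ NP P ∧ u ∉ (P : Subgroup G) ∧ u • q = q := by
  classical
  have := Fintype.ofFinite G
  have := Fintype.ofFinite (G ⧸ NP P)
  set base : G ⧸ NP P := ((1 : G) : G ⧸ NP P) with hbase
  set U := Finset.univ.filter (fun u : G => u ∈ NP P ∧ u ∉ (P : Subgroup G)) with hU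
  have hUcard : U.card = 13 := by
    rw [← card_normalizer_diff h P, Nat.card_eq_fintype_card, Fintype.card_subtype]
  let F : G → Finset (G ⧸ NP P) := fun u =>
    Finset.univ.filter (fun q : G ⧸ NP P => q ≠ base ∧ u • q = q)
  have hFcard : ∀ u ∈ U, (F u).card = 11 := by
    intro u hu
    rw [hU, Finset.mem_filter] at hu
    have h2 : Nat.card {q : G ⧸ NP P // q ≠ base ∧ u • q = q} = (F u).card := by
      rw [Nat.card_eq_fintype_card, Fintype.card_subtype]
    have h3 : Nat.card {q : G ⧸ NP P // q ≠ base ∧ u • q = q} + 1 =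
        Nat.card (fixedBy (G ⧸ NP P) u) := card_fixed_ne_base (NP P) u hu.2.1
    have h4 : Nat.card (fixedBy (G ⧸ NP P) u) = Nat.card (fixedBy (G ⧸ NP P) t) :=
      card_fixedBy_of_mem_diff h P t htN ht u hu.2.1 hu.2.2
    have h5 := card_fixedBy_eq_12 h P t htN ht
    omega
  have hdisj : (U : Set G).PairwiseDisjoint F := by
    intro u hu u' hu' hne
    have hu1 := (Finset.mem_filter.1 (Finset.mem_coe.1 hu)).2
    have hu1' := (Finset.mem_filter.1 (Finset.mem_coe.1 hu')).2
    show Disjoint (F u) (F u')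
    rw [Finset.disjoint_left]
    intro q hq1 hq2
    have hq1' := (Finset.mem_filter.1 hq1).2
    have hq2' := (Finset.mem_filter.1 hq2).2
    exact hq1'.1 (eq_base_of_smul_eq_of_ne h P u u' hu1.1 hu1'.1 hu1.2 hu1'.2 hne q hq1'.2 hq2'.2)
  have hcard : (U.biUnion F).card = 143 := by
    rw [Finset.card_biUnion hdisj, Finset.sum_congr rfl hFcard, Finset.sum_const, hUcard]
    rfl
  have hsub : U.biUnion F ⊆ (Finset.univ : Finset (G ⧸ NP P)).erase base := by
    intro q hq
    rw [Finset.mem_biUnion] at hq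
    obtain ⟨u, _, hqu⟩ := hq
    exact Finset.mem_erase.2 ⟨(Finset.mem_filter.1 hqu).2.1, Finset.mem_univ _⟩
  have heq : U.biUnion F = (Finset.univ : Finset (G ⧸ NP P)).erase base := by
    apply Finset.eq_of_subset_of_card_le hsub
    rw [Finset.card_erase_of_mem (Finset.mem_univ _), Finset.card_univ,
      ← Nat.card_eq_fintype_card, card_quotient13 h P, hcard]
  have hqmem : q ∈ U.biUnion F := by
    rw [heq]
    exact Finset.mem_erase.2 ⟨hq, Finset.mem_univ _⟩
  rw [Finset.mem_biUnion] at hqmem
  obtain ⟨u, hu, hqu⟩ := hqmem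
  have hu1 := (Finset.mem_filter.1 hu).2
  exact ⟨u, hu1.1, hu1.2, (Finset.mem_filter.1 hqu).2.2⟩


/-- The lines: the conjugates of `t`. -/
abbrev Line (t : G) : Type _ := {u : G // IsConj t u}

/-- Incidence: the involution fixes the coset. -/
def inc (P : Sylow 13 G) (t : G) (q : G ⧸ NP P) (l : Line t) : Prop := (l : G) • q = q

omit [Finite G] [IsSimpleGroup G] in
theorem conj_smul_eq_iff {α : Type*} [MulAction G α] (g u : G) (q : α) :
    (g⁻¹ * u * g) • q = q ↔ u • (g • q) = g • q := by
  rw [mul_smul, mul_smul, inv_smul_eq_iff]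

omit [Finite G] [IsSimpleGroup G] in
theorem conj_smul_eq_iff' {α : Type*} [MulAction G α] (g u : G) (q : α) :
    (g * u * g⁻¹) • q = q ↔ u • (g⁻¹ • q) = g⁻¹ • q := by
  have := conj_smul_eq_iff g⁻¹ u q
  rwa [inv_inv] at this

omit [Finite G] [IsSimpleGroup G] in
theorem exists_smul_base (N : Subgroup G) (q : G ⧸ N) : ∃ g : G, g • ((1 : G) : G ⧸ N) = q := by
  induction q using QuotientGroup.induction_on with
  | H g =>
    refine ⟨g, ?_⟩
    rw [MulAction.Quotient.smul_coe, smul_eq_mul, mul_one]

theorem card_points_on_line (h : Nat.card G = 3744) (P : Sylow 13 G) (t : G)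
    (htN : t ∈ NP P) (ht : orderOf t = 2) (l : Line t) :
    Nat.card {a : G ⧸ NP P // inc P t a l} = 12 := by
  obtain ⟨c, hc⟩ := isConj_iff.1 l.2
  have h1 : Nat.card {a : G ⧸ NP P // inc P t a l} = Nat.card (fixedBy (G ⧸ NP P) (l : G)) := rfl
  rw [h1, ← hc, card_fixedBy_conj, card_fixedBy_eq_12 h P t htN ht]

theorem card_lines_through_point (h : Nat.card G = 3744) (P : Sylow 13 G) (t : G)
    (htN : t ∈ NP P) (ht : orderOf t = 2) (a : G ⧸ NP P) :
    Nat.card {l : Line t // inc P t a l} = 12 + 1 := by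
  obtain ⟨g, rfl⟩ := exists_smul_base (NP P) a
  have h13 : 12 + 1 = Nat.card {g : G // IsConj t g ∧ g ∈ NP P} := by
    rw [card_conj_inter h P t htN ht]
  rw [h13]
  apply Nat.card_congr
  refine
    { toFun := fun l => ⟨g⁻¹ * (l.1 : G) * g, ?_, ?_⟩
      invFun := fun v => ⟨⟨g * v.1 * g⁻¹, ?_⟩, ?_⟩
      left_inv := fun l => by
        apply Subtype.ext
        apply Subtype.ext
        show g * (g⁻¹ * (l.1 : G) * g) * g⁻¹ = (l.1 : G)
        group
      right_inv := fun v => by
        apply Subtype.ext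
        show g⁻¹ * (g * v.1 * g⁻¹) * g = v.1
        group }
  · have h1 : IsConj (l.1 : G) (g⁻¹ * (l.1 : G) * g) := by
      rw [isConj_iff]
      exact ⟨g⁻¹, by rw [inv_inv]⟩
    exact l.1.2.trans h1
  · rw [← smul_base_eq_iff, conj_smul_eq_iff]
    exact l.2
  · have h1 : IsConj v.1 (g * v.1 * g⁻¹) := isConj_iff.2 ⟨g, rfl⟩
    exact v.2.1.trans h1
  · show (g * v.1 * g⁻¹) • (g • ((1 : G) : G ⧸ NP P)) = g • ((1 : G) : G ⧸ NP P)
    rw [conj_smul_eq_iff', inv_smul_smul]
    exact (smul_base_eq_iff (NP P) v.1).2 v.2.2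

theorem exists_unique_line (h : Nat.card G = 3744) (P : Sylow 13 G) (t : G)
    (htN : t ∈ NP P) (ht : orderOf t = 2) (a b : G ⧸ NP P) (hab : a ≠ b) :
    ∃! l : Line t, inc P t a l ∧ inc P t b l := by
  obtain ⟨g, rfl⟩ := exists_smul_base (NP P) a
  set base : G ⧸ NP P := ((1 : G) : G ⧸ NP P) with hbase
  have hb' : g⁻¹ • b ≠ base := by
    intro h0
    apply hab
    rw [← h0, smul_inv_smul]
  obtain ⟨u, huN, huP, hub⟩ := exists_involution_fixing h P t htN ht (g⁻¹ • b) hb'
  obtain ⟨y, _, hy⟩ := exists_conj_of_mem_diff h P t htN ht u huN huP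
  have hut : IsConj t u := isConj_iff.2 ⟨y, hy⟩
  have hl : IsConj t (g * u * g⁻¹) := hut.trans (isConj_iff.2 ⟨g, rfl⟩)
  refine ⟨⟨g * u * g⁻¹, hl⟩, ⟨?_, ?_⟩, ?_⟩
  · show (g * u * g⁻¹) • (g • base) = g • base
    rw [conj_smul_eq_iff', inv_smul_smul]
    exact (smul_base_eq_iff (NP P) u).2 huN
  · show (g * u * g⁻¹) • b = b
    rw [conj_smul_eq_iff']
    exact hub
  · rintro ⟨l', hl'⟩ ⟨h1, h2⟩
    apply Subtype.ext
    show l' = g * u * g⁻¹
    have h1' : (g⁻¹ * l' * g) • base = base := (conj_smul_eq_iff g l' base).2 h1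
    have h2' : (g⁻¹ * l' * g) • (g⁻¹ • b) = g⁻¹ • b := by
      rw [conj_smul_eq_iff, smul_inv_smul]
      exact h2
    have hvN : g⁻¹ * l' * g ∈ NP P := (smul_base_eq_iff (NP P) _).1 h1'
    have hv2 : orderOf (g⁻¹ * l' * g) = 2 := by
      have := orderOf_conj_eq g⁻¹ l'
      rw [inv_inv] at this
      rw [this, orderOf_eq_of_isConj hl', ht]
    have hvP := not_mem_sylow_of_orderOf_two h P _ hv2
    have hveq : g⁻¹ * l' * g = u := by
      by_contra hne
      exact hb' (eq_base_of_smul_eq_of_ne h P _ u hvN huN hvP huP hne _ h2' hub)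
    rw [← hveq]
    group


/-- Conjugation of lines. -/
def conjLine (t c : G) (l : Line t) : Line t :=
  ⟨c * (l : G) * c⁻¹, l.2.trans (isConj_iff.2 ⟨c, rfl⟩)⟩

omit [Finite G] [IsSimpleGroup G] in
theorem inc_conjLine (P : Sylow 13 G) (t c : G) (a : G ⧸ NP P) (l : Line t) :
    inc P t a (conjLine t c l) ↔ inc P t (c⁻¹ • a) l :=
  conj_smul_eq_iff' c (l : G) a

omit [Finite G] [IsSimpleGroup G] in
theorem par_conjLine (P : Sylow 13 G) (t c : G) (l l' : Line t)
    (hp : AffinePlane.Par (inc P t) l l') :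
    AffinePlane.Par (inc P t) (conjLine t c l) (conjLine t c l') := by
  rcases hp with rfl | hp
  · exact Or.inl rfl
  · right
    intro a ha ha'
    rw [inc_conjLine] at ha ha'
    exact hp _ ha ha'

omit [Finite G] [IsSimpleGroup G] in
theorem conjLine_mul (t c d : G) (l : Line t) :
    conjLine t (c * d) l = conjLine t c (conjLine t d l) := by
  apply Subtype.ext
  show c * d * (l : G) * (c * d)⁻¹ = c * (d * (l : G) * d⁻¹) * c⁻¹
  group

omit [Finite G] [IsSimpleGroup G] in
theorem conjLine_one (t : G) (l : Line t) : conjLine t 1 l = l := by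
  apply Subtype.ext
  show 1 * (l : G) * 1⁻¹ = (l : G)
  group

/-- No simple group has order `3744`. -/
theorem false_of_card (h : Nat.card G = 3744) : False := by
  classical
  obtain ⟨P⟩ := (Sylow.nonempty : Nonempty (Sylow 13 G))
  have hNcard : Nat.card (NP P) = 26 := card_normalizer13 h P
  obtain ⟨t, htN, ht⟩ := exists_mem_orderOf_eq_of_dvd_card (NP P) 2 (by rw [hNcard]; norm_num)
  set t₀ : Line t := ⟨t, IsConj.refl t⟩ with ht₀
  set base : G ⧸ NP P := ((1 : G) : G ⧸ NP P) with hbase
  have A1 := exists_unique_line h P t htN ht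
  have A2 := card_points_on_line h P t htN ht
  have A3 := card_lines_through_point h P t htN ht
  have ptrans : ∀ {l l' l'' : Line t}, AffinePlane.Par (inc P t) l l' →
      AffinePlane.Par (inc P t) l' l'' → AffinePlane.Par (inc P t) l l'' :=
    fun hp hp' => AffinePlane.par_trans (inc P t) 12 A1 A2 A3 hp hp'
  have psymm : ∀ {l l' : Line t}, AffinePlane.Par (inc P t) l l' →
      AffinePlane.Par (inc P t) l' l := fun hp => AffinePlane.par_symm (inc P t) hp
  let M : Subgroup G :=
    { carrier := {g | AffinePlane.Par (inc P t) (conjLine t g t₀) t₀}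
      one_mem' := by
        show AffinePlane.Par (inc P t) (conjLine t 1 t₀) t₀
        rw [conjLine_one]
        exact AffinePlane.par_refl _ _
      mul_mem' := by
        intro a b ha hb
        show AffinePlane.Par (inc P t) (conjLine t (a * b) t₀) t₀
        rw [conjLine_mul]
        exact ptrans (par_conjLine P t a _ _ hb) ha
      inv_mem' := by
        intro a ha
        show AffinePlane.Par (inc P t) (conjLine t a⁻¹ t₀) t₀
        have := par_conjLine P t a⁻¹ _ _ ha
        rw [← conjLine_mul, inv_mul_cancel, conjLine_one] at this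
        exact psymm this }
  have hMmem : ∀ g : G, g ∈ M ↔ AffinePlane.Par (inc P t) (conjLine t g t₀) t₀ := fun g => Iff.rfl
  -- `M` is a proper subgroup
  have hMtop : M ≠ ⊤ := by
    intro htop
    obtain ⟨y, hyP, hy⟩ := exists_mem_orderOf_eq_of_dvd_card (P : Subgroup G) 13
      (by rw [card_sylow13 h P])
    have hyM : y ∈ M := by rw [htop]; trivial
    rw [hMmem] at hyM
    have hyN : y ∈ NP P := le_normalizer hyP
    have h1 : inc P t base (conjLine t y t₀) := by
      show (y * t * y⁻¹) • base = base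
      rw [smul_base_eq_iff]
      exact (NP P).mul_mem ((NP P).mul_mem hyN htN) ((NP P).inv_mem hyN)
    have h2 : inc P t base t₀ := (smul_base_eq_iff (NP P) t).2 htN
    have h3 := AffinePlane.eq_of_par_of_inc (inc P t) hyM base h1 h2
    have h4 : y * t * y⁻¹ = 1 * t * 1⁻¹ := by
      have := congrArg Subtype.val h3
      simpa [conjLine] using this
    have h5 := conj_injective h P t ht y 1 hyP (P : Subgroup G).one_mem h4
    rw [h5, orderOf_one] at hy
    omega
  -- the index of `M` is at most `13`
  have hex : ∀ g : G, ∃ l' : Line t, inc P t base l' ∧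
      AffinePlane.Par (inc P t) (conjLine t g t₀) l' :=
    fun g => AffinePlane.exists_par (inc P t) 12 A1 A2 A3 (conjLine t g t₀) base
  choose w hw using hex
  have hrel : ∀ g g' : G, g⁻¹ * g' ∈ M ↔
      AffinePlane.Par (inc P t) (conjLine t g t₀) (conjLine t g' t₀) := by
    intro g g'
    rw [hMmem]
    constructor
    · intro hp
      have := par_conjLine P t g _ _ hp
      rw [← conjLine_mul, mul_inv_cancel_left] at this
      exact psymm this
    · intro hp
      have := par_conjLine P t g⁻¹ _ _ hp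
      rw [← conjLine_mul, ← conjLine_mul, inv_mul_cancel, conjLine_one] at this
      exact psymm this
  have hwrel : ∀ g g' : G, w g = w g' ↔ g⁻¹ * g' ∈ M := by
    intro g g'
    rw [hrel]
    constructor
    · intro hww
      have h1 := (hw g).2
      have h2 := psymm (hw g').2
      rw [← hww] at h2
      exact ptrans h1 h2
    · intro hp
      have h1 : AffinePlane.Par (inc P t) (w g) (w g') :=
        ptrans (psymm (hw g).2) (ptrans hp (hw g').2)
      exact AffinePlane.eq_of_par_of_inc (inc P t) h1 base (hw g).1 (hw g').1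
  let wq : G ⧸ M → {l : Line t // inc P t base l} :=
    Quotient.lift (fun g => (⟨w g, (hw g).1⟩ : {l : Line t // inc P t base l}))
      (by
        intro g g' hgg'
        apply Subtype.ext
        exact (hwrel g g').2 (QuotientGroup.leftRel_apply.1 hgg'))
  have hwq : Function.Injective wq := by
    intro x y hxy
    induction x using QuotientGroup.induction_on with
    | H g =>
    induction y using QuotientGroup.induction_on with
    | H g' =>
    have h1 : w g = w g' := congrArg Subtype.val hxy
    exact QuotientGroup.eq.2 ((hwrel g g').1 h1)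
  have hidx : M.index ≤ 13 := by
    rw [Subgroup.index_eq_card]
    have := Nat.card_le_card_of_injective wq hwq
    rwa [A3 base] at this
  have := index_ge h M hMtop
  omega

end Cfsg.Agent.Lib.Helper17.Simple3744
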