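import Mathlib
import Cfsg.Agent.Lib.Helper17.PrimeSylow
import Cfsg.Agent.Lib.Helper17.SimpleTools
import Cfsg.Agent.Lib.Helper17.SimpleTools2
import Cfsg.Agent.Lib.Helper17.SimpleIndex
import Cfsg.Agent.Lib.Helper17.SylowInter
import Cfsg.Agent.Lib.Helper17.SylowSub
import Cfsg.Agent.Lib.Helper17.SylowCard
import Cfsg.Agent.Lib.Helper17.SylowBasic
import Cfsg.Agent.Lib.Helper17.Burnside
import Cfsg.Agent.Lib.Helper17.AltNormalizer
import Cfsg.Agent.Lib.Helper17.Misc
import Cfsg.Agent.S0143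

set_option autoImplicit false

namespace Cfsg.Agent.Lib.Helper17.Simple4032

open MulAction Subgroup

section General

variable {G : Type*} [Group G]

/-- A nontrivial subgroup `V` of a finite `p`-subgroup `S`, normalized by `S`, contains a
nontrivial element commuting with all of `S`. -/
theorem exists_ne_one_mem_commute_of_normal [Finite G] {p : ℕ} [Fact p.Prime] (S V : Subgroup G)
    (hS : IsPGroup p S) (hVS : V ≤ S) (hnorm : ∀ s ∈ S, ∀ v ∈ V, s * v * s⁻¹ ∈ V) (hV : V ≠ ⊥) :
    ∃ w ∈ V, w ≠ 1 ∧ ∀ s ∈ S, s * w = w * s := by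
  classical
  let act : MulAction S V :=
    { smul := fun s v => ⟨(s : G) * v * (s : G)⁻¹, hnorm s s.2 v v.2⟩
      one_smul := fun v => Subtype.ext (by
        show ((1 : S) : G) * v * ((1 : S) : G)⁻¹ = v
        simp)
      mul_smul := fun s t v => Subtype.ext (by
        show ((s * t : S) : G) * v * ((s * t : S) : G)⁻¹ =
          (s : G) * ((t : G) * v * (t : G)⁻¹) * (s : G)⁻¹
        simp [mul_assoc]) }
  have hdvd : p ∣ Nat.card V := by
    have hV' : IsPGroup p V := hS.to_le hVS
    have : Nontrivial V := (Subgroup.nontrivial_iff_ne_bot V).2 hV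
    obtain ⟨n, hn0, hn⟩ := hV'.nontrivial_iff_card.mp inferInstance
    exact hn.symm ▸ dvd_pow_self _ (ne_of_gt hn0)
  have h1 : (1 : V) ∈ @MulAction.fixedPoints S V _ act := by
    intro s
    apply Subtype.ext
    show (s : G) * ((1 : V) : G) * (s : G)⁻¹ = ((1 : V) : G)
    simp
  obtain ⟨b, hb, hne⟩ := @IsPGroup.exists_fixed_point_of_prime_dvd_card_of_fixed_point p S _ hS
    _ V act _ hdvd _ h1
  refine ⟨b.1, b.2, ?_, ?_⟩
  · intro hb1
    apply hne
    exact (Subtype.ext hb1).symm
  · intro s hs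
    have h2 := hb ⟨s, hs⟩
    have h3 : s * (b : G) * s⁻¹ = b := congrArg Subtype.val h2
    calc s * (b : G) = (s * b * s⁻¹) * s := by group
      _ = b * s := by rw [h3]

/-- For `S ≤ N`, the order of `S` is at most `|S ⊓ C| * [N : C]`. -/
theorem card_le_card_inf_mul_relIndex {S C N : Subgroup G} (hSN : S ≤ N)
    (hr : C.relIndex N ≠ 0) :
    Nat.card S ≤ Nat.card (S ⊓ C : Subgroup G) * C.relIndex N := by
  have h1 := card_mul_relIndex_of_le (inf_le_left : S ⊓ C ≤ S)
  rw [Subgroup.inf_relIndex_left] at h1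
  rw [← h1]
  exact Nat.mul_le_mul_left _ (Subgroup.relIndex_le_of_le_right hSN hr)

/-- Conjugating an element of the centralizer by an element of the normalizer. -/
theorem conj_mem_centralizer_of_mem_normalizer (K : Subgroup G) {n c : G}
    (hn : n ∈ normalizer (K : Set G)) (hc : c ∈ centralizer (K : Set G)) :
    n * c * n⁻¹ ∈ centralizer (K : Set G) := by
  rw [Subgroup.mem_centralizer_iff]
  intro x hx
  have hx' : n⁻¹ * x * n ∈ K := by
    have := (Subgroup.mem_normalizer_iff.1 (Subgroup.inv_mem _ hn) x).1 hx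
    simpa using this
  have h := Subgroup.mem_centralizer_iff.1 hc _ hx'
  calc x * (n * c * n⁻¹) = n * ((n⁻¹ * x * n) * c) * n⁻¹ := by group
    _ = n * (c * (n⁻¹ * x * n)) * n⁻¹ := by rw [h]
    _ = n * c * n⁻¹ * x := by group

end General

variable {G : Type*} [Group G] [Finite G] [IsSimpleGroup G]

theorem fact7 : Fact (Nat.Prime 7) := ⟨by norm_num⟩
theorem fact3 : Fact (Nat.Prime 3) := ⟨by norm_num⟩
theorem fact2 : Fact (Nat.Prime 2) := ⟨by norm_num⟩

attribute [local instance] fact7 fact3 fact2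

theorem not_comm (h : Nat.card G = 4032) : ¬ IsMulCommutative G :=
  not_comm_of_simple_of_not_prime (by rw [h]; norm_num)

theorem center_eq_bot (h : Nat.card G = 4032) : center G = ⊥ := by
  have hnorm : (center G).Normal := inferInstance
  rcases hnorm.eq_bot_or_eq_top with hb | ht
  · exact hb
  · exfalso
    apply not_comm h
    refine ⟨⟨fun a b => ?_⟩⟩
    have ha : a ∈ center G := by rw [ht]; trivial
    exact ((Subgroup.mem_center_iff.1 ha) b).symm

theorem centralizer_singleton_ne_top (h : Nat.card G = 4032) (u : G) (hu : u ≠ 1) :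
    centralizer ({u} : Set G) ≠ ⊤ := by
  intro htop
  have hmem : u ∈ center G := by
    rw [Subgroup.mem_center_iff]
    intro g
    have hg : g ∈ centralizer ({u} : Set G) := by rw [htop]; trivial
    rw [Subgroup.mem_centralizer_singleton_iff] at hg
    exact hg
  rw [center_eq_bot h, Subgroup.mem_bot] at hmem
  exact hu hmem

omit [IsSimpleGroup G] in
theorem card_sylow7 (h : Nat.card G = 4032) (P : Sylow 7 G) :
    Nat.card (P : Subgroup G) = 7 := by
  have hcard : Nat.card G = 7 ^ 1 * 576 := by rw [h]; norm_num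
  rw [sylow_card_of_card_eq P hcard (by norm_num)]; norm_num

omit [IsSimpleGroup G] in
theorem card_sylow2 (h : Nat.card G = 4032) (T : Sylow 2 G) :
    Nat.card (T : Subgroup G) = 64 := by
  have hcard : Nat.card G = 2 ^ 6 * 63 := by rw [h]; norm_num
  rw [sylow_card_of_card_eq T hcard (by norm_num)]; norm_num

theorem index_ge_eight (h : Nat.card G = 4032) (H : Subgroup G) (hH : H ≠ ⊤) : 8 ≤ H.index := by
  have hfact := two_mul_card_dvd_factorial_index_of_simple (not_comm h) H hH
  rw [h] at hfact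
  by_contra hlt
  have hle : H.index ≤ 7 := by omega
  have h0 : H.index ≠ 0 := Subgroup.index_ne_zero_of_finite
  generalize H.index = k at *
  interval_cases k <;> revert hfact <;> decide

theorem index_ge_ten (h : Nat.card G = 4032) (P : Sylow 7 G)
    (hN : ¬ Nat.card (normalizer ((P : Subgroup G) : Set G)) ∣ 42) (H : Subgroup G)
    (hH : H ≠ ⊤) : 10 ≤ H.index := by
  have h8 := index_ge_eight h H hH
  by_contra hlt
  have hle : H.index ≤ 9 := by omega
  have := two_mul_card_normalizer_dvd_of_index_of_simple (not_comm h) 7 (by norm_num) H hH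
    (by omega) (by omega) P (by rw [h]; norm_num)
  apply hN
  generalize Nat.card (normalizer ((P : Subgroup G) : Set G)) = c at *
  generalize H.index = k at *
  interval_cases k
  · have h42 : 2 * c ∣ 2 * 21 := by simpa [Nat.factorial] using this
    exact dvd_trans (Nat.dvd_of_mul_dvd_mul_left (by norm_num) h42) (by norm_num)
  · have h42 : 2 * c ∣ 2 * 42 := by simpa [Nat.factorial] using this
    exact Nat.dvd_of_mul_dvd_mul_left (by norm_num) h42

theorem card_sylow7_cases (h : Nat.card G = 4032) :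
    Nat.card (Sylow 7 G) = 8 ∨ Nat.card (Sylow 7 G) = 36 ∨ Nat.card (Sylow 7 G) = 64 ∨
      Nat.card (Sylow 7 G) = 288 := by
  have hcard : Nat.card G = 7 ^ 1 * 576 := by rw [h]; norm_num
  have hdvd : Nat.card (Sylow 7 G) ∣ 576 := card_sylow_dvd_of_card_eq hcard (by norm_num)
  have hmod : Nat.card (Sylow 7 G) % 7 = 1 := card_sylow_modEq_one 7 G
  have hne1 : Nat.card (Sylow 7 G) ≠ 1 :=
    card_sylow_ne_one_of_simple hcard (by norm_num) (by norm_num) (by norm_num)
  have hle : Nat.card (Sylow 7 G) ≤ 576 := Nat.le_of_dvd (by norm_num) hdvd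
  generalize Nat.card (Sylow 7 G) = c at *
  interval_cases c <;> omega

/-- The case `n_7 = 8`. -/
theorem false_of_card_sylow7_eq_8 (h : Nat.card G = 4032) (hn : Nat.card (Sylow 7 G) = 8) :
    False := by
  have hG := not_comm h
  obtain ⟨P⟩ := (Sylow.nonempty : Nonempty (Sylow 7 G))
  have hN := card_sylow_mul_card_normalizer P
  rw [hn, h] at hN
  have := card_normalizer_dvd_of_card_sylow_of_simple hG 7 7 (Or.inr hn) P (by rw [h]; norm_num)
  have hN504 : Nat.card (normalizer ((P : Subgroup G) : Set G)) = 504 := by omega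
  rw [hN504] at this
  revert this
  decide

/-- The case `n_7 = 64`: an element of order `3` has a conjugacy class of `2`-power size. -/
theorem false_of_card_sylow7_eq_64 (h : Nat.card G = 4032) (hn : Nat.card (Sylow 7 G) = 64) :
    False := by
  classical
  have hG := not_comm h
  have h7dvd : 7 ∣ Nat.card G := by rw [h]; norm_num
  obtain ⟨P⟩ := (Sylow.nonempty : Nonempty (Sylow 7 G))
  have hP := card_sylow7 h P
  obtain ⟨N, hNdef⟩ : ∃ N, N = normalizer ((P : Subgroup G) : Set G) := ⟨_, rfl⟩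
  obtain ⟨C, hCdef⟩ : ∃ C, C = centralizer ((P : Subgroup G) : Set G) := ⟨_, rfl⟩
  have hCN : C ≤ N := by rw [hCdef, hNdef]; exact Subgroup.centralizer_le_normalizer _
  have hNcard : Nat.card N = 63 := by
    have := card_sylow_mul_card_normalizer P
    rw [hn, h, ← hNdef] at this
    omega
  have hr : C.relIndex N = 3 := by
    have h1 := relIndex_cent_norm_dvd_pred_of_card_prime P hP
    have h2 := mul_relIndex_cent_norm_dvd_of_card_prime P hP
    have h3 := relIndex_cent_norm_ne_one_of_simple hG P h7dvd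
    rw [← hNdef, ← hCdef] at h1 h2 h3
    rw [hNcard] at h2
    generalize C.relIndex N = r at *
    have hr9 : r ∣ 9 := Nat.dvd_of_mul_dvd_mul_left (by norm_num : 0 < 7) h2
    have hr6 : r ∣ 6 := h1
    have hle : r ≤ 6 := Nat.le_of_dvd (by norm_num) hr6
    interval_cases r <;> omega
  -- a subgroup of order 9 in `N`
  obtain ⟨Q', hQ'⟩ := Sylow.exists_subgroup_card_pow_prime 3 (n := 2) (G := N)
    (by rw [hNcard]; norm_num)
  obtain ⟨Q, hQdef⟩ : ∃ Q, Q = Q'.map N.subtype := ⟨_, rfl⟩
  have hQcard : Nat.card Q = 9 := by rw [hQdef, card_map_subtype, hQ']; norm_num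
  have hQN : Q ≤ N := by rw [hQdef]; exact map_subtype_le' N Q'
  have hQcomm : ∀ a ∈ Q, ∀ b ∈ Q, a * b = b * a := by
    intro a ha b hb
    have hc : IsMulCommutative Q :=
      IsPGroup.isMulCommutative_of_card_eq_prime_sq (p := 3) (by rw [hQcard]; norm_num)
    have := hc.is_comm.comm (⟨a, ha⟩ : Q) ⟨b, hb⟩
    exact congrArg Subtype.val this
  have hQC : 3 ≤ Nat.card (Q ⊓ C : Subgroup G) := by
    have := card_le_card_inf_mul_relIndex hQN (C := C) (by rw [hr]; norm_num)
    rw [hr, hQcard] at this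
    omega
  obtain ⟨r₀, hr₀mem, hr₀ne⟩ : ∃ x ∈ (Q ⊓ C : Subgroup G), x ≠ 1 := by
    by_contra hcon
    push Not at hcon
    have : (Q ⊓ C : Subgroup G) = ⊥ := (Subgroup.eq_bot_iff_forall _).2 hcon
    rw [this, Subgroup.card_bot] at hQC
    omega
  obtain ⟨H, hHdef⟩ : ∃ H, H = centralizer ({r₀} : Set G) := ⟨_, rfl⟩
  have hQH : Q ≤ H := by
    intro x hx
    rw [hHdef, Subgroup.mem_centralizer_singleton_iff]
    exact hQcomm x hx r₀ hr₀mem.1
  have hPH : (P : Subgroup G) ≤ H := by
    intro x hx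
    rw [hHdef, Subgroup.mem_centralizer_singleton_iff]
    have hrC : r₀ ∈ centralizer ((P : Subgroup G) : Set G) := hCdef ▸ hr₀mem.2
    exact Subgroup.mem_centralizer_iff.1 hrC x hx
  have h9 : 9 ∣ Nat.card H := hQcard ▸ Subgroup.card_dvd_of_le hQH
  have h7 : 7 ∣ Nat.card H := hP ▸ Subgroup.card_dvd_of_le hPH
  have h63 : 63 ∣ Nat.card H :=
    Nat.Coprime.mul_dvd_of_dvd_of_dvd (by norm_num : Nat.Coprime 9 7) h9 h7
  have hidx : H.index ∣ 2 ^ 6 := by
    have := H.index_mul_card
    rw [h] at this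
    obtain ⟨c, hc⟩ := h63
    rw [hc] at this
    refine ⟨c, ?_⟩
    have h' : 63 * (H.index * c) = 63 * 2 ^ 6 := by
      rw [show (63 : ℕ) * 2 ^ 6 = 4032 by norm_num, ← this]; ring
    exact (Nat.eq_of_mul_eq_mul_left (by norm_num) h').symm
  obtain ⟨j, -, hj⟩ := (Nat.dvd_prime_pow Nat.prime_two).1 hidx
  have := Cfsg.Agent.S0143.result 2 j Nat.prime_two r₀ hr₀ne (hHdef ▸ hj)
  rw [h] at this
  revert this
  norm_num

/-- In the case `n_7 = 36`: a nontrivial element of `C(P)` commuting with a subgroup of order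
`16` of `N(P)` has its centralizer inside `N(P)`. -/
theorem centralizer_le_normalizer_of_card_sylow7_eq_36 (h : Nat.card G = 4032)
    (hn : Nat.card (Sylow 7 G) = 36) (P : Sylow 7 G) (S : Subgroup G)
    (hSN : S ≤ normalizer ((P : Subgroup G) : Set G)) (hScard : Nat.card S = 16) (u : G)
    (hu1 : u ≠ 1) (huP : u ∈ centralizer ((P : Subgroup G) : Set G))
    (huS : ∀ s ∈ S, s * u = u * s) :
    centralizer ({u} : Set G) ≤ normalizer ((P : Subgroup G) : Set G) := by
  have hP := card_sylow7 h P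
  obtain ⟨N, hNdef⟩ : ∃ N, N = normalizer ((P : Subgroup G) : Set G) := ⟨_, rfl⟩
  rw [← hNdef] at hSN ⊢
  have hNcard : Nat.card N = 112 := by
    have := card_sylow_mul_card_normalizer P
    rw [hn, h, ← hNdef] at this
    omega
  obtain ⟨H, hHdef⟩ : ∃ H, H = centralizer ({u} : Set G) := ⟨_, rfl⟩
  rw [← hHdef]
  have hHtop : H ≠ ⊤ := hHdef ▸ centralizer_singleton_ne_top h u hu1
  have hSH : S ≤ H := by
    intro x hx
    rw [hHdef, Subgroup.mem_centralizer_singleton_iff]
    exact huS x hx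
  have hPH : (P : Subgroup G) ≤ H := by
    intro x hx
    rw [hHdef, Subgroup.mem_centralizer_singleton_iff]
    exact Subgroup.mem_centralizer_iff.1 huP x hx
  have hidx : 10 ≤ H.index :=
    index_ge_ten h P (by rw [← hNdef, hNcard]; decide) H hHtop
  have h16 : 16 ∣ Nat.card (N ⊓ H : Subgroup G) :=
    hScard ▸ Subgroup.card_dvd_of_le (le_inf hSN hSH)
  have h7 : 7 ∣ Nat.card (N ⊓ H : Subgroup G) :=
    hP ▸ Subgroup.card_dvd_of_le (le_inf (hNdef ▸ le_normalizer) hPH)
  have h112 : 112 ∣ Nat.card (N ⊓ H : Subgroup G) :=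
    Nat.Coprime.mul_dvd_of_dvd_of_dvd (by norm_num : Nat.Coprime 16 7) h16 h7
  have hmulH := card_sylow_mul_card_normalizer (P.subtype hPH)
  have hNH : Nat.card (normalizer (((P.subtype hPH : Sylow 7 H) : Subgroup H) : Set H)) =
      Nat.card (N ⊓ H : Subgroup G) := by
    rw [Sylow.coe_subtype, ← Subgroup.subgroupOf_normalizer_eq hPH,
      card_subgroupOf_eq_card_inf', hNdef]
  rw [hNH] at hmulH
  have hmod : Nat.card (Sylow 7 H) % 7 = 1 := card_sylow_modEq_one 7 H
  have hHc := H.index_mul_card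
  rw [h] at hHc
  have hone : Nat.card (Sylow 7 H) = 1 := by
    obtain ⟨c, hc⟩ := h112
    rw [hc] at hmulH
    have hcpos : 0 < c := by
      rcases Nat.eq_zero_or_pos c with h0 | h0
      · rw [h0, mul_zero] at hc
        have : 0 < Nat.card (N ⊓ H : Subgroup G) := Nat.card_pos
        omega
      · exact h0
    have hle : Nat.card (Sylow 7 H) ≤ 3 := by
      by_contra hlt
      have h4 : 4 ≤ Nat.card (Sylow 7 H) := by omega
      have h448 : 448 ≤ Nat.card H := by
        rw [← hmulH]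
        nlinarith
      nlinarith
    have hpos : 0 < Nat.card (Sylow 7 H) := Nat.card_pos
    generalize Nat.card (Sylow 7 H) = k at *
    interval_cases k <;> omega
  rw [hone, one_mul] at hmulH
  have heq : N ⊓ H = H := Subgroup.eq_of_le_of_card_ge inf_le_right (by rw [hmulH])
  rw [← heq]
  exact inf_le_left

/-- The case `n_7 = 36`. -/
theorem false_of_card_sylow7_eq_36 (h : Nat.card G = 4032) (hn : Nat.card (Sylow 7 G) = 36) :
    False := by
  classical
  have hG := not_comm h
  have h7dvd : 7 ∣ Nat.card G := by rw [h]; norm_num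
  obtain ⟨P⟩ := (Sylow.nonempty : Nonempty (Sylow 7 G))
  have hP := card_sylow7 h P
  obtain ⟨N, hNdef⟩ : ∃ N, N = normalizer ((P : Subgroup G) : Set G) := ⟨_, rfl⟩
  obtain ⟨C, hCdef⟩ : ∃ C, C = centralizer ((P : Subgroup G) : Set G) := ⟨_, rfl⟩
  have hCN : C ≤ N := by rw [hCdef, hNdef]; exact Subgroup.centralizer_le_normalizer _
  have hNcard : Nat.card N = 112 := by
    have := card_sylow_mul_card_normalizer P
    rw [hn, h, ← hNdef] at this
    omega
  have hr : C.relIndex N = 2 := by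
    have h1 := relIndex_cent_norm_dvd_pred_of_card_prime P hP
    have h2 := mul_relIndex_cent_norm_dvd_of_card_prime P hP
    have h3 := relIndex_cent_norm_ne_one_of_simple hG P h7dvd
    rw [← hNdef, ← hCdef] at h1 h2 h3
    rw [hNcard] at h2
    generalize C.relIndex N = r at *
    have hr16 : r ∣ 16 := Nat.dvd_of_mul_dvd_mul_left (by norm_num : 0 < 7) h2
    have hr6 : r ∣ 6 := h1
    have hle : r ≤ 6 := Nat.le_of_dvd (by norm_num) hr6
    interval_cases r <;> omega
  -- a subgroup of order 16 in `N`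
  obtain ⟨S', hS'⟩ := Sylow.exists_subgroup_card_pow_prime 2 (n := 4) (G := N)
    (by rw [hNcard]; norm_num)
  obtain ⟨S, hSdef⟩ : ∃ S, S = S'.map N.subtype := ⟨_, rfl⟩
  have hScard : Nat.card S = 16 := by rw [hSdef, card_map_subtype, hS']; norm_num
  have hSN : S ≤ N := by rw [hSdef]; exact map_subtype_le' N S'
  have hS2 : IsPGroup 2 S := IsPGroup.of_card (n := 4) (by rw [hScard]; norm_num)
  obtain ⟨T, hST⟩ := hS2.exists_le_sylow
  have hTcard := card_sylow2 h T
  have hne : S ≠ (T : Subgroup G) := by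
    intro e
    rw [e, hTcard] at hScard
    omega
  obtain ⟨m, hmT, hmS, hmnS⟩ :=
    exists_mem_normalizer_not_mem_of_ne (T : Subgroup G) S T.isPGroup' hST hne
  -- `T ∩ N = S`
  have hTN : ∀ x ∈ (T : Subgroup G), x ∈ N → x ∈ S := by
    intro x hxT hxN
    have hle : S ≤ (T : Subgroup G) ⊓ N := le_inf hST hSN
    have h2 : IsPGroup 2 ((T : Subgroup G) ⊓ N : Subgroup G) := T.isPGroup'.to_le inf_le_left
    obtain ⟨k, hk⟩ := IsPGroup.iff_card.1 h2
    have hdvd : Nat.card ((T : Subgroup G) ⊓ N : Subgroup G) ∣ 2 ^ 4 * 7 := by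
      have := Subgroup.card_dvd_of_le (inf_le_right : (T : Subgroup G) ⊓ N ≤ N)
      rw [hNcard] at this
      exact dvd_trans this (by norm_num)
    rw [hk] at hdvd
    have hk4 : 2 ^ k ∣ 2 ^ 4 := by
      have hcop : Nat.Coprime (2 ^ k) 7 := Nat.Coprime.pow_left k (by norm_num)
      exact hcop.dvd_of_dvd_mul_right hdvd
    have hle16 : 2 ^ k ≤ 16 := Nat.le_of_dvd (by norm_num) (by simpa using hk4)
    have : S = (T : Subgroup G) ⊓ N :=
      Subgroup.eq_of_le_of_card_ge hle (by rw [hk, hScard]; exact hle16)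
    rw [this]
    exact ⟨hxT, hxN⟩
  -- conjugation by `m` preserves `S`
  have hmS' : ∀ x, x ∈ S ↔ m * x * m⁻¹ ∈ S := fun x => Subgroup.mem_normalizer_iff.1 hmS x
  have hmS'' : ∀ x, x ∈ S ↔ m⁻¹ * x * m ∈ S := by
    intro x
    have := Subgroup.mem_normalizer_iff.1 (Subgroup.inv_mem _ hmS) x
    simpa using this
  obtain ⟨V, hVdef⟩ : ∃ V, V = S ⊓ C := ⟨_, rfl⟩
  obtain ⟨W, hWdef⟩ : ∃ W, W = V.map (MulAut.conj m).toMonoidHom := ⟨_, rfl⟩
  have hmemW : ∀ x, x ∈ W ↔ m⁻¹ * x * m ∈ V := by
    intro x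
    rw [hWdef]
    constructor
    · rintro ⟨v, hv, rfl⟩
      have e : m⁻¹ * ((MulAut.conj m).toMonoidHom v) * m = v := by
        show m⁻¹ * (m * v * m⁻¹) * m = v
        group
      rw [e]
      exact hv
    · intro hx
      refine ⟨m⁻¹ * x * m, hx, ?_⟩
      show m * (m⁻¹ * x * m) * m⁻¹ = x
      group
  have hVS : V ≤ S := by rw [hVdef]; exact inf_le_left
  have hWS : W ≤ S := by
    intro x hx
    exact (hmS'' x).2 (hVS ((hmemW x).1 hx))
  have hVcard : 16 ≤ Nat.card V * 2 := by
    have := card_le_card_inf_mul_relIndex hSN (C := C) (by rw [hr]; norm_num)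
    rwa [hr, hScard, ← hVdef] at this
  have hWcard : Nat.card W = Nat.card V := by
    rw [hWdef]
    exact Subgroup.card_map_of_injective (MulAut.conj m).injective
  have hVrel : V.relIndex S ≤ 2 := by
    have := card_mul_relIndex_of_le hVS
    rw [hScard] at this
    by_contra hlt
    have : 3 ≤ V.relIndex S := by omega
    nlinarith
  have hWrel : W.relIndex S ≤ 2 := by
    have := card_mul_relIndex_of_le hWS
    rw [hScard, hWcard] at this
    by_contra hlt
    have : 3 ≤ W.relIndex S := by omega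
    nlinarith
  have hV'bot : V ⊓ W ≠ ⊥ := by
    intro hb
    have h1 := card_mul_relIndex_of_le ((inf_le_left : V ⊓ W ≤ V).trans hVS)
    rw [hb, Subgroup.card_bot, one_mul, hScard] at h1
    have h2 : (V ⊓ W).relIndex S ≤ V.relIndex S * W.relIndex S := Subgroup.relIndex_inf_le
    rw [hb] at h2
    nlinarith
  have hVnorm : ∀ s ∈ S, ∀ v ∈ V, s * v * s⁻¹ ∈ V := by
    intro s hs v hv
    rw [hVdef] at hv ⊢
    refine ⟨S.mul_mem (S.mul_mem hs hv.1) (S.inv_mem hs), ?_⟩
    rw [hCdef]
    exact conj_mem_centralizer_of_mem_normalizer (P : Subgroup G) (hNdef ▸ hSN hs)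
      (hCdef ▸ hv.2)
  have hV'norm : ∀ s ∈ S, ∀ v ∈ V ⊓ W, s * v * s⁻¹ ∈ V ⊓ W := by
    intro s hs v hv
    refine ⟨hVnorm s hs v hv.1, ?_⟩
    apply (hmemW _).2
    have e : m⁻¹ * (s * v * s⁻¹) * m = (m⁻¹ * s * m) * (m⁻¹ * v * m) * (m⁻¹ * s * m)⁻¹ := by
      group
    rw [e]
    exact hVnorm _ ((hmS'' s).1 hs) _ ((hmemW v).1 hv.2)
  obtain ⟨w, hwV', hw1, hwS⟩ := exists_ne_one_mem_commute_of_normal S (V ⊓ W) hS2
    (inf_le_left.trans hVS) hV'norm hV'bot
  have hwC : w ∈ centralizer ((P : Subgroup G) : Set G) := by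
    have := hwV'.1
    rw [hVdef] at this
    exact hCdef ▸ this.2
  have hCw := centralizer_le_normalizer_of_card_sylow7_eq_36 h hn P S (hNdef ▸ hSN) hScard w hw1
    hwC hwS
  have hw'V : m⁻¹ * w * m ∈ V := (hmemW w).1 hwV'.2
  have hw'C : m⁻¹ * w * m ∈ centralizer ((P : Subgroup G) : Set G) := by
    rw [hVdef] at hw'V
    exact hCdef ▸ hw'V.2
  have hmN : m ∈ N := by
    rw [hNdef]
    refine Sylow.smul_eq_iff_mem_normalizer.1 ?_
    have hle : ((m • P : Sylow 7 G) : Subgroup G) ≤ normalizer ((P : Subgroup G) : Set G) := by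
      intro y hy
      rw [mem_smul_sylow_iff] at hy
      have hx := Subgroup.mem_centralizer_iff.1 hw'C _ hy
      apply hCw
      rw [Subgroup.mem_centralizer_singleton_iff]
      calc y * w = m * ((m⁻¹ * y * m) * (m⁻¹ * w * m)) * m⁻¹ := by group
        _ = m * ((m⁻¹ * w * m) * (m⁻¹ * y * m)) * m⁻¹ := by rw [hx]
        _ = w * y := by group
    have h2 : ((m • P : Sylow 7 G) : Subgroup G) ⊓ normalizer ((P : Subgroup G) : Set G) =
        ((m • P : Sylow 7 G) : Subgroup G) ⊓ (P : Subgroup G) :=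
      (m • P : Sylow 7 G).isPGroup'.inf_normalizer_sylow P
    rw [inf_of_le_left hle] at h2
    have hle' : ((m • P : Sylow 7 G) : Subgroup G) ≤ (P : Subgroup G) := by
      rw [h2]
      exact inf_le_right
    exact Sylow.ext ((m • P : Sylow 7 G).3 P.isPGroup' hle').symm
  exact hmnS (hTN m hmT hmN)

/-- Assembly: a simple group of order `4032` has a Sylow `7`-subgroup with normalizer of order
`14`. -/
theorem card_normalizer_sylow7_eq_14 (h : Nat.card G = 4032) (P : Sylow 7 G) :
    Nat.card (normalizer ((P : Subgroup G) : Set G)) = 14 := by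
  have hN := card_sylow_mul_card_normalizer P
  rw [h] at hN
  rcases card_sylow7_cases h with hc | hc | hc | hc
  · exact (false_of_card_sylow7_eq_8 h hc).elim
  · exact (false_of_card_sylow7_eq_36 h hc).elim
  · exact (false_of_card_sylow7_eq_64 h hc).elim
  · rw [hc] at hN
    omega

end Cfsg.Agent.Lib.Helper17.Simple4032
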