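import Mathlib
import Cfsg.Agent.Lib.Helper17.ConjCount
import Cfsg.Agent.Lib.Helper17.Misc
import Cfsg.Agent.Lib.Helper17.SylowCard
import Cfsg.Agent.Lib.Helper21.ElemAbPSL

set_option autoImplicit false

namespace Cfsg.Agent.Lib.Helper17

open Subgroup

section TwoElements

variable {G : Type*} [Group G] [Finite G] (n m : ℕ) (hcard : Nat.card G = 2 ^ n * m)
  (hle : Nat.card {g : G // g ≠ 1 ∧ ∃ k, orderOf g = 2 ^ k} ≤ m)
  (hC : ∀ w : G, w ≠ 1 → (∃ k, orderOf w = 2 ^ k) → Nat.card (centralizer ({w} : Set G)) ∣ 2 ^ n)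

include hcard hle hC

/-- If a group of order `2^n * m` has at most `m` non-identity 2-elements and the centralizer of
each of them has order dividing `2^n`, then all non-identity 2-elements are conjugate, with
centralizers of order `2^n`. -/
theorem isConj_of_two_elements {w v : G} (hw1 : w ≠ 1) (hw : ∃ k, orderOf w = 2 ^ k)
    (hv1 : v ≠ 1) (hv : ∃ k, orderOf v = 2 ^ k) :
    IsConj w v ∧ Nat.card (centralizer ({w} : Set G)) = 2 ^ n := by
  classical
  have := Fintype.ofFinite G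
  have hcl := card_conj_mul_card_centralizer w
  have hCw := hC w hw1 hw
  have hmpos : 0 < m := by
    rcases Nat.eq_zero_or_pos m with h0 | h0
    · rw [h0, mul_zero] at hcard
      have : 0 < Nat.card G := Nat.card_pos
      omega
    · exact h0
  rw [Nat.card_eq_fintype_card, Fintype.card_subtype] at hle hcl
  set S2 := Finset.univ.filter (fun g : G => g ≠ 1 ∧ ∃ k, orderOf g = 2 ^ k) with hS2
  set Cl := Finset.univ.filter (fun g : G => IsConj w g) with hCl
  obtain ⟨k, hk⟩ := hw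
  have hsub : Cl ⊆ S2 := by
    intro g hg
    simp only [hCl, hS2, Finset.mem_filter, Finset.mem_univ, true_and] at hg ⊢
    have ho := orderOf_eq_of_isConj hg
    refine ⟨?_, k, by rw [ho, hk]⟩
    rintro rfl
    rw [orderOf_one] at ho
    exact hw1 (orderOf_eq_one_iff.1 ho.symm)
  rw [hcard] at hcl
  have hCle : Nat.card (centralizer ({w} : Set G)) ≤ 2 ^ n :=
    Nat.le_of_dvd (by positivity) hCw
  have hClm : m ≤ Cl.card := by
    have h1 : 2 ^ n * m ≤ Cl.card * 2 ^ n := by
      rw [← hcl]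
      exact Nat.mul_le_mul_left _ hCle
    have h2 : 2 ^ n * m ≤ 2 ^ n * Cl.card := by rw [mul_comm (2 ^ n) Cl.card]; exact h1
    exact Nat.le_of_mul_le_mul_left h2 (by positivity)
  have hClS : Cl.card ≤ S2.card := Finset.card_le_card hsub
  have heq : Cl = S2 := Finset.eq_of_subset_of_card_le hsub (by omega)
  constructor
  · have hvS : v ∈ S2 := by
      simp only [hS2, Finset.mem_filter, Finset.mem_univ, true_and]
      exact ⟨hv1, hv⟩
    rw [← heq] at hvS
    simpa only [hCl, Finset.mem_filter, Finset.mem_univ, true_and] using hvS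
  · have hClm' : Cl.card = m := by omega
    rw [hClm'] at hcl
    have : m * Nat.card (centralizer ({w} : Set G)) = m * 2 ^ n := by rw [hcl]; ring
    exact Nat.eq_of_mul_eq_mul_left hmpos this

/-- Under the same hypotheses (with `n ≥ 1`) every non-identity 2-element is an involution. -/
theorem orderOf_eq_two_of_two_element' (hn : 1 ≤ n) {v : G} (hv1 : v ≠ 1)
    (hv : ∃ k, orderOf v = 2 ^ k) : orderOf v = 2 := by
  have : Fact (Nat.Prime 2) := ⟨Nat.prime_two⟩
  have h2 : 2 ∣ Nat.card G := by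
    rw [hcard]
    exact Dvd.dvd.mul_right (dvd_pow_self 2 (by omega)) m
  obtain ⟨u, hu⟩ := exists_prime_orderOf_dvd_card' (G := G) 2 h2
  have hu1 : u ≠ 1 := by
    rintro rfl
    rw [orderOf_one] at hu
    norm_num at hu
  have := (isConj_of_two_elements n m hcard hle hC hu1 ⟨1, by rw [hu, pow_one]⟩ hv1 hv).1
  rw [orderOf_eq_of_isConj this, hu]

/-- Under the same hypotheses the centralizer of every involution is an elementary abelian
2-group. -/
theorem invCentElemAb_of_two_elements (hn : 1 ≤ n) : Cfsg.Agent.Lib.Helper21.InvCentElemAb G := by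
  intro t ht
  have ht1 : t ≠ 1 := by
    rintro rfl
    rw [orderOf_one] at ht
    norm_num at ht
  have hCt := (isConj_of_two_elements n m hcard hle hC ht1 ⟨1, by rw [ht, pow_one]⟩ ht1
    ⟨1, by rw [ht, pow_one]⟩).2
  have hsq : ∀ c ∈ Subgroup.centralizer ({t} : Set G), c ^ 2 = 1 := by
    intro c hc
    have h1 := Subgroup.orderOf_dvd_natCard _ hc
    rw [hCt] at h1
    obtain ⟨j, -, hj⟩ := (Nat.dvd_prime_pow Nat.prime_two).1 h1
    by_cases hc1 : c = 1
    · rw [hc1, one_pow]
    · have := orderOf_eq_two_of_two_element' n m hcard hle hC hn hc1 ⟨j, hj⟩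
      rw [← this]
      exact pow_orderOf_eq_one c
  refine ⟨⟨⟨fun a b => ?_⟩⟩, hsq⟩
  apply Subtype.ext
  show (a : G) * b = b * a
  have ha := hsq a a.2
  have hb := hsq b b.2
  have hab := hsq (a * b) (Subgroup.mul_mem _ a.2 b.2)
  have ha' : (a : G)⁻¹ = a := by
    rw [inv_eq_iff_mul_eq_one, ← pow_two]; exact ha
  have hb' : (b : G)⁻¹ = b := by
    rw [inv_eq_iff_mul_eq_one, ← pow_two]; exact hb
  have hab' : ((a : G) * b)⁻¹ = a * b := by
    rw [inv_eq_iff_mul_eq_one, ← pow_two]; exact hab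
  rw [← hab', mul_inv_rev, ha', hb']

/-- Under the same hypotheses (with `n ≥ 2`, `m` odd) the Sylow 2-subgroups are not cyclic. -/
theorem sylow2_not_isCyclic_of_two_elements (hn : 2 ≤ n) (hm : ¬ 2 ∣ m) (T : Sylow 2 G) :
    ¬ IsCyclic (T : Subgroup G) := by
  have : Fact (Nat.Prime 2) := ⟨Nat.prime_two⟩
  intro hcyc
  obtain ⟨g, hg⟩ := hcyc.exists_generator
  have hT : Nat.card (T : Subgroup G) = 2 ^ n := sylow_card_of_card_eq T hcard hm
  have h8 : orderOf g = 2 ^ n := by
    rw [orderOf_eq_card_of_forall_mem_zpowers hg, hT]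
  have h8' : orderOf (g : G) = 2 ^ n := by rw [← h8, Subgroup.orderOf_coe]
  have hg1 : (g : G) ≠ 1 := by
    intro h1
    rw [h1, orderOf_one] at h8'
    have : 2 ^ n ≥ 2 ^ 2 := Nat.pow_le_pow_right (by norm_num) hn
    omega
  have h2 := orderOf_eq_two_of_two_element' n m hcard hle hC (by omega) hg1 ⟨n, h8'⟩
  rw [h8'] at h2
  have : 2 ^ n ≥ 2 ^ 2 := Nat.pow_le_pow_right (by norm_num) hn
  omega

end TwoElements

/-- A simple group of order `2^n * m` (`n ≥ 2`, `m` odd, `m ≠ 1`) with at most `m` non-identity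
2-elements, each with centralizer of order dividing `2^n`, is `PSL₂(F)` for any field `F` with
`2^n` elements. -/
theorem nonempty_mulEquiv_PSL_of_two_elements {G : Type*} [Group G] [Finite G] [IsSimpleGroup G]
    (n m : ℕ) (hcard : Nat.card G = 2 ^ n * m) (hn : 2 ≤ n) (hm : ¬ 2 ∣ m) (hm1 : m ≠ 1)
    (hle : Nat.card {g : G // g ≠ 1 ∧ ∃ k, orderOf g = 2 ^ k} ≤ m)
    (hC : ∀ w : G, w ≠ 1 → (∃ k, orderOf w = 2 ^ k) →
      Nat.card (centralizer ({w} : Set G)) ∣ 2 ^ n)
    {F : Type*} [Field F] [Fintype F] (hF : Fintype.card F = 2 ^ n) :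
    Nonempty (G ≃* Matrix.ProjectiveSpecialLinearGroup (Fin 2) F) := by
  have : Fact (Nat.Prime 2) := ⟨Nat.prime_two⟩
  obtain ⟨T⟩ := (Sylow.nonempty : Nonempty (Sylow 2 G))
  have hT : Nat.card (T : Subgroup G) = 2 ^ n := sylow_card_of_card_eq T hcard hm
  have hnn : ¬ (T : Subgroup G).Normal := by
    intro hnorm
    rcases hnorm.eq_bot_or_eq_top with hb | ht
    · rw [hb, Subgroup.card_bot] at hT
      have : 2 ^ n ≥ 2 ^ 2 := Nat.pow_le_pow_right (by norm_num) hn
      omega
    · rw [ht, Subgroup.card_top, hcard] at hT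
      have hpos : 0 < 2 ^ n := by positivity
      have : 2 ^ n * m = 2 ^ n * 1 := by rw [hT, mul_one]
      exact hm1 (Nat.eq_of_mul_eq_mul_left hpos this)
  obtain ⟨K, instK, instFK, hK, ⟨φ⟩⟩ := Cfsg.Agent.Lib.Helper21.eab_nonempty_mulEquiv_PSL T
    (sylow2_not_isCyclic_of_two_elements n m hcard hle hC hn hm T) hnn
    (invCentElemAb_of_two_elements n m hcard hle hC (by omega))
  rw [hT] at hK
  have e : K ≃+* F := FiniteField.ringEquivOfCardEq (hK.trans hF.symm)
  obtain ⟨ψ⟩ := Cfsg.Agent.Lib.Helper21.nonempty_psl_mulEquiv_of_ringEquiv e (Fin 2)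
  exact ⟨φ.trans ψ⟩

end Cfsg.Agent.Lib.Helper17
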