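import Mathlib
import Cfsg.Agent.Lib.Helper17.SimpleTools2
import Cfsg.Agent.Lib.Helper17.PartCount
import Cfsg.Agent.Lib.Helper17.TwoElements
import Cfsg.Agent.Lib.Helper17.OrderCount
import Cfsg.Agent.Lib.Helper17.SylowCard

set_option autoImplicit false

namespace Cfsg.Agent.Lib.Helper17

open Subgroup

/-- A subgroup of `H` of order `p ^ a` when `p ^ a` divides `|H|`. -/
theorem exists_subgroup_le_card_pow {G : Type*} [Group G] [Finite G] (H : Subgroup G) (p a : ℕ)
    [Fact p.Prime] (hd : p ^ a ∣ Nat.card H) : ∃ K : Subgroup G, K ≤ H ∧ Nat.card K = p ^ a := by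
  obtain ⟨K', hK'⟩ := Sylow.exists_subgroup_card_pow_prime (G := H) p hd
  refine ⟨K'.map H.subtype, Subgroup.map_subtype_le K', ?_⟩
  rw [Subgroup.card_map_of_injective H.subtype_injective, hK']

namespace Simple4080

theorem num17 (n : ℕ) (hd : n ∣ 240) (hm : n % 17 = 1) : n = 1 ∨ n = 120 := by
  have : n ≤ 240 := Nat.le_of_dvd (by norm_num) hd
  interval_cases n <;> omega

theorem num5 (n : ℕ) (hd : n ∣ 816) (hm : n % 5 = 1) (h17 : 17 ≤ n) :
    n = 51 ∨ n = 136 ∨ n = 816 := by
  have : n ≤ 816 := Nat.le_of_dvd (by norm_num) hd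
  interval_cases n <;> omega

theorem num3 (n : ℕ) (hd : n ∣ 136) (hm : n % 3 = 1) (h17 : 17 ≤ n) : n = 34 ∨ n = 136 := by
  have : n ≤ 136 := Nat.le_of_dvd (by norm_num) hd
  interval_cases n <;> omega

theorem num_c3 (c : ℕ) (hd : c ∣ 4080) (h3 : 3 ∣ c) (h5 : ¬ 5 ∣ c) (h17 : ¬ 17 ∣ c) :
    ∃ a, a ≤ 4 ∧ c = 3 * 2 ^ a := by
  obtain ⟨k, rfl⟩ := h3
  have hk : k ∣ 1360 := Nat.dvd_of_mul_dvd_mul_left (by norm_num : 0 < 3) (by simpa using hd)
  have h5' : ¬ 5 ∣ k := fun hh => h5 (Dvd.dvd.mul_left hh 3)
  have h17' : ¬ 17 ∣ k := fun hh => h17 (Dvd.dvd.mul_left hh 3)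
  have hcop : Nat.Coprime k 85 := by
    have : (85 : ℕ) = 5 * 17 := by norm_num
    rw [this]
    apply Nat.Coprime.mul_right
    · exact Nat.coprime_comm.1 ((Nat.Prime.coprime_iff_not_dvd (by norm_num)).2 h5')
    · exact Nat.coprime_comm.1 ((Nat.Prime.coprime_iff_not_dvd (by norm_num)).2 h17')
  have h16 : k ∣ 2 ^ 4 := by
    have : (1360 : ℕ) = 2 ^ 4 * 85 := by norm_num
    rw [this] at hk
    exact hcop.dvd_of_dvd_mul_right hk
  obtain ⟨a, ha, rfl⟩ := (Nat.dvd_prime_pow Nat.prime_two).1 h16
  exact ⟨a, ha, rfl⟩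

theorem num_c5 (c : ℕ) (hd : c ∣ 4080) (h5 : 5 ∣ c) (h3 : ¬ 3 ∣ c) (h17 : ¬ 17 ∣ c) :
    ∃ a, a ≤ 4 ∧ c = 5 * 2 ^ a := by
  obtain ⟨k, rfl⟩ := h5
  have hk : k ∣ 816 := Nat.dvd_of_mul_dvd_mul_left (by norm_num : 0 < 5) (by simpa using hd)
  have h3' : ¬ 3 ∣ k := fun hh => h3 (Dvd.dvd.mul_left hh 5)
  have h17' : ¬ 17 ∣ k := fun hh => h17 (Dvd.dvd.mul_left hh 5)
  have hcop : Nat.Coprime k 51 := by
    have : (51 : ℕ) = 3 * 17 := by norm_num
    rw [this]
    apply Nat.Coprime.mul_right
    · exact Nat.coprime_comm.1 ((Nat.Prime.coprime_iff_not_dvd (by norm_num)).2 h3')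
    · exact Nat.coprime_comm.1 ((Nat.Prime.coprime_iff_not_dvd (by norm_num)).2 h17')
  have h16 : k ∣ 2 ^ 4 := by
    have : (816 : ℕ) = 2 ^ 4 * 51 := by norm_num
    rw [this] at hk
    exact hcop.dvd_of_dvd_mul_right hk
  obtain ⟨a, ha, rfl⟩ := (Nat.dvd_prime_pow Nat.prime_two).1 h16
  exact ⟨a, ha, rfl⟩

theorem num_c2 (c : ℕ) (hd : c ∣ 4080) (h3 : ¬ 3 ∣ c) (h5 : ¬ 5 ∣ c) (h17 : ¬ 17 ∣ c) :
    c ∣ 2 ^ 4 := by
  have hcop : Nat.Coprime c 255 := by
    have : (255 : ℕ) = 3 * (5 * 17) := by norm_num
    rw [this]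
    apply Nat.Coprime.mul_right
    · exact Nat.coprime_comm.1 ((Nat.Prime.coprime_iff_not_dvd (by norm_num)).2 h3)
    · apply Nat.Coprime.mul_right
      · exact Nat.coprime_comm.1 ((Nat.Prime.coprime_iff_not_dvd (by norm_num)).2 h5)
      · exact Nat.coprime_comm.1 ((Nat.Prime.coprime_iff_not_dvd (by norm_num)).2 h17)
  have : (4080 : ℕ) = 2 ^ 4 * 255 := by norm_num
  rw [this] at hd
  exact hcop.dvd_of_dvd_mul_right hd

theorem fact17 : Fact (Nat.Prime 17) := ⟨by norm_num⟩
theorem fact5 : Fact (Nat.Prime 5) := ⟨by norm_num⟩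
theorem fact3 : Fact (Nat.Prime 3) := ⟨by norm_num⟩
theorem fact2 : Fact (Nat.Prime 2) := ⟨by norm_num⟩
attribute [local instance] fact17 fact5 fact3 fact2

variable {G : Type*} [Group G] [Finite G] [IsSimpleGroup G]

theorem not_comm (h : Nat.card G = 4080) : ¬ IsMulCommutative G :=
  not_comm_of_simple_of_not_prime (by rw [h]; norm_num)

/-- A simple group of order 4080 has no proper subgroup of index less than 17. -/
theorem seventeen_le_index (h : Nat.card G = 4080) (H : Subgroup G) (hH : H ≠ ⊤) :
    17 ≤ H.index := by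
  have hG := not_comm h
  have h1 := two_mul_card_dvd_factorial_index_of_simple hG H hH
  by_contra hlt
  have h16 : H.index ≤ 16 := by omega
  have h2 : (17 : ℕ) ∣ (H.index).factorial := by
    refine dvd_trans ?_ h1
    rw [h]
    norm_num
  have := (Nat.Prime.dvd_factorial (by norm_num : Nat.Prime 17)).1 h2
  omega

theorem card_le_240 (h : Nat.card G = 4080) (H : Subgroup G) (hH : H ≠ ⊤) :
    Nat.card H ≤ 240 := by
  have h1 := seventeen_le_index h H hH
  have h2 := H.index_mul_card
  rw [h] at h2
  nlinarith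

omit [IsSimpleGroup G] in
theorem card_sylow17_sub (h : Nat.card G = 4080) (P : Sylow 17 G) :
    Nat.card (P : Subgroup G) = 17 := by
  have := sylow_card_of_card_eq P (k := 1) (m := 240) (by rw [h]; norm_num) (by norm_num)
  simpa using this

omit [IsSimpleGroup G] in
theorem card_sylow5_sub (h : Nat.card G = 4080) (P : Sylow 5 G) :
    Nat.card (P : Subgroup G) = 5 := by
  have := sylow_card_of_card_eq P (k := 1) (m := 816) (by rw [h]; norm_num) (by norm_num)
  simpa using this

omit [IsSimpleGroup G] in
theorem card_sylow3_sub (h : Nat.card G = 4080) (P : Sylow 3 G) :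
    Nat.card (P : Subgroup G) = 3 := by
  have := sylow_card_of_card_eq P (k := 1) (m := 1360) (by rw [h]; norm_num) (by norm_num)
  simpa using this

omit [IsSimpleGroup G] in
theorem card_sylow2_sub (h : Nat.card G = 4080) (P : Sylow 2 G) :
    Nat.card (P : Subgroup G) = 16 := by
  have := sylow_card_of_card_eq P (k := 4) (m := 255) (by rw [h]; norm_num) (by norm_num)
  simpa using this

theorem card_sylow17 (h : Nat.card G = 4080) : Nat.card (Sylow 17 G) = 120 := by
  have hd : Nat.card (Sylow 17 G) ∣ 240 :=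
    card_sylow_dvd_of_card_eq (k := 1) (m := 240) (by rw [h]; norm_num) (by norm_num)
  have hm : Nat.card (Sylow 17 G) % 17 = 1 := by
    have := card_sylow_modEq_one 17 G
    unfold Nat.ModEq at this
    simpa using this
  have h1 : Nat.card (Sylow 17 G) ≠ 1 :=
    card_sylow_ne_one_of_simple (k := 1) (m := 240) (by rw [h]; norm_num) (by norm_num)
      (by norm_num) (by norm_num)
  rcases num17 _ hd hm with h' | h'
  · exact absurd h' h1
  · exact h'

theorem card_normalizer17 (h : Nat.card G = 4080) (P : Sylow 17 G) :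
    Nat.card (normalizer ((P : Subgroup G) : Set G)) = 34 := by
  have h3 := card_sylow_mul_card_normalizer P
  rw [card_sylow17 h, h] at h3
  omega

theorem centralizer17 (h : Nat.card G = 4080) (P : Sylow 17 G) :
    centralizer ((P : Subgroup G) : Set G) = (P : Subgroup G) := by
  have hG := not_comm h
  have hP := card_sylow17_sub h P
  have h2 := mul_relIndex_cent_norm_dvd_of_card_prime P hP
  have h3 := relIndex_cent_norm_ne_one_of_simple hG P (by rw [h]; norm_num)
  rw [card_normalizer17 h P] at h2
  have hc : IsCyclic (P : Subgroup G) := isCyclic_of_prime_card hP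
  have hcomm : IsMulCommutative (P : Subgroup G) := ⟨⟨IsCyclic.commGroup.mul_comm⟩⟩
  have hle : (P : Subgroup G) ≤ centralizer ((P : Subgroup G) : Set G) := Subgroup.le_centralizer _
  have h4 := card_mul_relIndex_of_le
    (Subgroup.centralizer_le_normalizer ((P : Subgroup G) : Set G))
  rw [card_normalizer17 h P] at h4
  set r := (centralizer ((P : Subgroup G) : Set G)).relIndex (normalizer ((P : Subgroup G) : Set G))
    with hr
  have hr2 : r = 2 := by
    have : r ∣ 2 := by
      have : 17 * r ∣ 17 * 2 := h2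
      exact Nat.dvd_of_mul_dvd_mul_left (by norm_num) this
    rcases (Nat.dvd_prime Nat.prime_two).1 this with h' | h'
    · exact absurd h' h3
    · exact h'
  rw [hr2] at h4
  symm
  apply Subgroup.eq_of_le_of_card_ge hle
  rw [hP]
  omega

/-- An element commuting with an element of order 17 is a power of it. -/
theorem mem_zpowers_of_commute17 (h : Nat.card G = 4080) {σ g : G} (hσ : orderOf σ = 17)
    (hc : g * σ = σ * g) : g ∈ zpowers σ := by
  obtain ⟨P, hP⟩ := exists_sylow_mem_of_orderOf_eq (p := 17) σ hσ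
  have hσ1 : σ ≠ 1 := by
    rintro rfl
    rw [orderOf_one] at hσ
    norm_num at hσ
  have hcard := card_sylow17_sub h P
  have h1 := mem_centralizer_of_commute_of_card_prime (P : Subgroup G) (by norm_num) hcard hP hσ1 hc
  rw [centralizer17 h P] at h1
  rwa [← eq_zpowers_of_card_prime (P : Subgroup G) (by norm_num) hcard hP hσ1]

/-- 17 does not divide the order of the centralizer of an element whose order is not 1 or 17. -/
theorem not_17_dvd_card_centralizer (h : Nat.card G = 4080) (x : G) (hx1 : orderOf x ≠ 1)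
    (hx17 : orderOf x ≠ 17) : ¬ 17 ∣ Nat.card (centralizer ({x} : Set G)) := by
  intro hd
  obtain ⟨σ, hσC, hσ⟩ := exists_mem_orderOf_eq_of_dvd_card (centralizer ({x} : Set G)) 17 hd
  have hc : x * σ = σ * x := by
    rw [Subgroup.mem_centralizer_singleton_iff] at hσC
    exact hσC.symm
  have hx := mem_zpowers_of_commute17 h hσ hc
  have h2 : orderOf x ∣ 17 := by
    have := Subgroup.orderOf_dvd_natCard _ hx
    rwa [Nat.card_zpowers, hσ] at this
  rcases (Nat.dvd_prime (by norm_num : Nat.Prime 17)).1 h2 with h' | h'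
  · exact hx1 h'
  · exact hx17 h'

theorem card_order17 (h : Nat.card G = 4080) : Nat.card {g : G // orderOf g = 17} = 1920 := by
  rw [card_orderOf_eq_prime (card_sylow17_sub h), card_sylow17 h]

/-! ### Elements of orders 3 and 5 -/

omit [IsSimpleGroup G] in
theorem card_pow16_one_ge (h : Nat.card G = 4080) :
    16 ≤ Nat.card {g : G // orderOf (g ^ 16) = 1} := by
  obtain ⟨T⟩ := (Sylow.nonempty : Nonempty (Sylow 2 G))
  have hT := card_sylow2_sub h T
  let φ : ↥(T : Subgroup G) → {g : G // orderOf (g ^ 16) = 1} := fun t =>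
    ⟨t.1, by
      have h1 : orderOf (t : G) ∣ 16 := by
        rw [← hT]
        exact Subgroup.orderOf_dvd_natCard _ t.2
      rw [orderOf_dvd_iff_pow_eq_one.1 h1, orderOf_one]⟩
  have hφ : Function.Injective φ := by
    intro a b hab
    have hval := congrArg Subtype.val hab
    exact Subtype.ext hval
  have := Nat.card_le_card_of_injective φ hφ
  rwa [hT] at this

theorem card_pow16_17_ge (h : Nat.card G = 4080) :
    1920 ≤ Nat.card {g : G // orderOf (g ^ 16) = 17} := by
  rw [← card_order17 h]
  let φ : {g : G // orderOf g = 17} → {g : G // orderOf (g ^ 16) = 17} := fun g =>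
    ⟨g.1, by
      have hco : (orderOf g.1).Coprime 16 := by rw [g.2]; norm_num
      rw [hco.orderOf_pow, g.2]⟩
  have hφ : Function.Injective φ := by
    intro a b hab
    have hval := congrArg Subtype.val hab
    exact Subtype.ext hval
  exact Nat.card_le_card_of_injective φ hφ

/-- Some element of order 3 commutes with some element of order 5. -/
theorem exists_commuting (h : Nat.card G = 4080) :
    ∃ x y : G, orderOf x = 3 ∧ orderOf y = 5 ∧ x * y = y * x := by
  by_contra hno
  push Not at hno
  obtain ⟨x₀, hx₀⟩ := exists_prime_orderOf_dvd_card' (G := G) 3 (by rw [h]; norm_num)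
  obtain ⟨y₀, hy₀⟩ := exists_prime_orderOf_dvd_card' (G := G) 5 (by rw [h]; norm_num)
  -- the centralizer of x₀
  have hx₀C : x₀ ∈ centralizer ({x₀} : Set G) := by
    rw [Subgroup.mem_centralizer_singleton_iff]
  have hy₀C : y₀ ∈ centralizer ({y₀} : Set G) := by
    rw [Subgroup.mem_centralizer_singleton_iff]
  obtain ⟨a, ha, hca⟩ := num_c3 (Nat.card (centralizer ({x₀} : Set G)))
    (by rw [← h]; exact Subgroup.card_subgroup_dvd_card _)
    (by rw [← hx₀]; exact Subgroup.orderOf_dvd_natCard _ hx₀C)
    (by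
      intro h5
      obtain ⟨y, hyC, hy⟩ := exists_mem_orderOf_eq_of_dvd_card (centralizer ({x₀} : Set G)) 5 h5
      rw [Subgroup.mem_centralizer_singleton_iff] at hyC
      exact hno x₀ y hx₀ hy hyC.symm)
    (not_17_dvd_card_centralizer h x₀ (by rw [hx₀]; norm_num) (by rw [hx₀]; norm_num))
  obtain ⟨b, hb, hcb⟩ := num_c5 (Nat.card (centralizer ({y₀} : Set G)))
    (by rw [← h]; exact Subgroup.card_subgroup_dvd_card _)
    (by rw [← hy₀]; exact Subgroup.orderOf_dvd_natCard _ hy₀C)
    (by
      intro h3
      obtain ⟨x, hxC, hx⟩ := exists_mem_orderOf_eq_of_dvd_card (centralizer ({y₀} : Set G)) 3 h3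
      rw [Subgroup.mem_centralizer_singleton_iff] at hxC
      exact hno x y₀ hx hy₀ hxC)
    (not_17_dvd_card_centralizer h y₀ (by rw [hy₀]; norm_num) (by rw [hy₀]; norm_num))
  obtain ⟨K3, hK3le, hK3⟩ := exists_subgroup_le_card_pow (centralizer ({x₀} : Set G)) 2 a
    (by rw [hca]; exact Dvd.intro_left 3 rfl)
  obtain ⟨K5, hK5le, hK5⟩ := exists_subgroup_le_card_pow (centralizer ({y₀} : Set G)) 2 b
    (by rw [hcb]; exact Dvd.intro_left 5 rfl)
  have e3 := card_mul_le_card_pow_orderOf_mul_card_centralizer x₀ K3 hK3le 16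
    (by rw [hK3]; exact pow_dvd_pow 2 ha) (by rw [hx₀]; decide)
  have e5 := card_mul_le_card_pow_orderOf_mul_card_centralizer y₀ K5 hK5le 16
    (by rw [hK5]; exact pow_dvd_pow 2 hb) (by rw [hy₀]; decide)
  rw [h, hK3, hca, hx₀] at e3
  rw [h, hK5, hcb, hy₀] at e5
  have hpa : 0 < 2 ^ a := by positivity
  have hpb : 0 < 2 ^ b := by positivity
  have e3' : 1360 ≤ Nat.card {g : G // orderOf (g ^ 16) = 3} := by
    have : 1360 * (3 * 2 ^ a) ≤ Nat.card {g : G // orderOf (g ^ 16) = 3} * (3 * 2 ^ a) := by
      calc 1360 * (3 * 2 ^ a) = 4080 * 2 ^ a := by ring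
        _ ≤ _ := e3
    exact Nat.le_of_mul_le_mul_right this (by positivity)
  have e5' : 816 ≤ Nat.card {g : G // orderOf (g ^ 16) = 5} := by
    have : 816 * (5 * 2 ^ b) ≤ Nat.card {g : G // orderOf (g ^ 16) = 5} * (5 * 2 ^ b) := by
      calc 816 * (5 * 2 ^ b) = 4080 * 2 ^ b := by ring
        _ ≤ _ := e5
    exact Nat.le_of_mul_le_mul_right this (by positivity)
  have e1 := card_pow16_one_ge h
  have e17 := card_pow16_17_ge h
  have hsum := sum_card_fiber_le (α := G) (fun g => orderOf (g ^ 16)) {1, 3, 5, 17}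
  rw [Finset.sum_insert (by decide), Finset.sum_insert (by decide), Finset.sum_insert (by decide),
    Finset.sum_singleton, h] at hsum
  omega

/-- If an element of order 3 commutes with an element of order 5 then `n_5 = 136`. -/
theorem card_sylow5 (h : Nat.card G = 4080) : Nat.card (Sylow 5 G) = 136 := by
  obtain ⟨x, y, hx, hy, hc⟩ := exists_commuting h
  have hd : Nat.card (Sylow 5 G) ∣ 816 :=
    card_sylow_dvd_of_card_eq (k := 1) (m := 816) (by rw [h]; norm_num) (by norm_num)
  have hm : Nat.card (Sylow 5 G) % 5 = 1 := by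
    have := card_sylow_modEq_one 5 G
    unfold Nat.ModEq at this
    simpa using this
  have h1 : Nat.card (Sylow 5 G) ≠ 1 :=
    card_sylow_ne_one_of_simple (k := 1) (m := 816) (by rw [h]; norm_num) (by norm_num)
      (by norm_num) (by norm_num)
  obtain ⟨P, hyP⟩ := exists_sylow_mem_of_orderOf_eq (p := 5) y hy
  have hidx : Nat.card (Sylow 5 G) = (normalizer ((P : Subgroup G) : Set G)).index :=
    P.card_eq_index_normalizer
  have h17 : 17 ≤ Nat.card (Sylow 5 G) := by
    rw [hidx]
    apply seventeen_le_index h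
    intro htop
    apply h1
    rw [hidx, htop, index_top]
  have hy1 : y ≠ 1 := by
    rintro rfl
    rw [orderOf_one] at hy
    norm_num at hy
  have hPcard := card_sylow5_sub h P
  have hxN : x ∈ normalizer ((P : Subgroup G) : Set G) :=
    Subgroup.centralizer_le_normalizer _
      (mem_centralizer_of_commute_of_card_prime (P : Subgroup G) (by norm_num) hPcard hyP hy1 hc)
  have hyN : y ∈ normalizer ((P : Subgroup G) : Set G) := le_normalizer hyP
  have h3N : 3 ∣ Nat.card (normalizer ((P : Subgroup G) : Set G)) := by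
    rw [← hx]; exact Subgroup.orderOf_dvd_natCard _ hxN
  have hmul := card_sylow_mul_card_normalizer P
  rw [h] at hmul
  rcases num5 _ hd hm h17 with h' | h' | h'
  · exfalso
    rw [h'] at hmul
    have : Nat.card (normalizer ((P : Subgroup G) : Set G)) = 80 := by omega
    rw [this] at h3N
    norm_num at h3N
  · exact h'
  · exfalso
    rw [h'] at hmul
    have : Nat.card (normalizer ((P : Subgroup G) : Set G)) = 5 := by omega
    rw [this] at h3N
    norm_num at h3N

/-- The centralizer of an element of order 5 has order 15. -/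
theorem card_centralizer5 (h : Nat.card G = 4080) {y : G} (hy : orderOf y = 5) :
    Nat.card (centralizer ({y} : Set G)) = 15 := by
  have hG := not_comm h
  obtain ⟨P, hyP⟩ := exists_sylow_mem_of_orderOf_eq (p := 5) y hy
  have hy1 : y ≠ 1 := by
    rintro rfl
    rw [orderOf_one] at hy
    norm_num at hy
  have hPcard := card_sylow5_sub h P
  have hmul := card_sylow_mul_card_normalizer P
  rw [h, card_sylow5 h] at hmul
  have hN : Nat.card (normalizer ((P : Subgroup G) : Set G)) = 30 := by omega
  have h1 := card_centralizer_mul_relIndex P hPcard hyP hy1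
  have h2 := relIndex_cent_norm_dvd_pred_of_card_prime P hPcard
  have h3 := relIndex_cent_norm_ne_one_of_simple hG P (by rw [h]; norm_num)
  rw [hN] at h1
  set r := (centralizer ((P : Subgroup G) : Set G)).relIndex (normalizer ((P : Subgroup G) : Set G))
    with hr
  have hr4 : r ∣ 4 := h2
  have hr30 : r ∣ 30 := Dvd.intro_left _ h1
  have hr2 : r = 2 := by
    have : r ≤ 4 := Nat.le_of_dvd (by norm_num) hr4
    interval_cases r <;> omega
  rw [hr2] at h1
  omega

/-- The centralizer of an element of order 3 has order 15. -/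
theorem card_centralizer3 (h : Nat.card G = 4080) {x : G} (hx : orderOf x = 3) :
    Nat.card (centralizer ({x} : Set G)) = 15 := by
  have hG := not_comm h
  -- first, for the special pair
  obtain ⟨x₀, y, hx₀, hy, hc⟩ := exists_commuting h
  have hd : Nat.card (Sylow 3 G) ∣ 1360 :=
    card_sylow_dvd_of_card_eq (k := 1) (m := 1360) (by rw [h]; norm_num) (by norm_num)
  have hm : Nat.card (Sylow 3 G) % 3 = 1 := by
    have := card_sylow_modEq_one 3 G
    unfold Nat.ModEq at this
    simpa using this
  have h1 : Nat.card (Sylow 3 G) ≠ 1 :=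
    card_sylow_ne_one_of_simple (k := 1) (m := 1360) (by rw [h]; norm_num) (by norm_num)
      (by norm_num) (by norm_num)
  have hrel : ∀ P : Sylow 3 G, (centralizer ((P : Subgroup G) : Set G)).relIndex
      (normalizer ((P : Subgroup G) : Set G)) = 2 := by
    intro P
    have h2 := relIndex_cent_norm_dvd_pred_of_card_prime P (card_sylow3_sub h P)
    have h3 := relIndex_cent_norm_ne_one_of_simple hG P (by rw [h]; norm_num)
    rcases (Nat.dvd_prime Nat.prime_two).1 h2 with h' | h'
    · exact absurd h' h3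
    · exact h'
  have hne1 : ∀ z : G, orderOf z = 3 → z ≠ 1 := by
    rintro z hz rfl
    rw [orderOf_one] at hz
    norm_num at hz
  -- the number of Sylow 3-subgroups
  have hn3 : Nat.card (Sylow 3 G) = 136 := by
    obtain ⟨P, hxP⟩ := exists_sylow_mem_of_orderOf_eq (p := 3) x₀ hx₀
    have hidx : Nat.card (Sylow 3 G) = (normalizer ((P : Subgroup G) : Set G)).index :=
      P.card_eq_index_normalizer
    have h17 : 17 ≤ Nat.card (Sylow 3 G) := by
      rw [hidx]
      apply seventeen_le_index h
      intro htop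
      apply h1
      rw [hidx, htop, index_top]
    have hmul := card_sylow_mul_card_normalizer P
    rw [h] at hmul
    have hcr := card_centralizer_mul_relIndex P (card_sylow3_sub h P) hxP (hne1 x₀ hx₀)
    rw [hrel P] at hcr
    have hxC : x₀ ∈ centralizer ({x₀} : Set G) := by
      rw [Subgroup.mem_centralizer_singleton_iff]
    have hyC : y ∈ centralizer ({x₀} : Set G) := by
      rw [Subgroup.mem_centralizer_singleton_iff]
      exact hc.symm
    have h3C : 3 ∣ Nat.card (centralizer ({x₀} : Set G)) := by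
      rw [← hx₀]; exact Subgroup.orderOf_dvd_natCard _ hxC
    have h5C : 5 ∣ Nat.card (centralizer ({x₀} : Set G)) := by
      rw [← hy]; exact Subgroup.orderOf_dvd_natCard _ hyC
    have h15C : 15 ∣ Nat.card (centralizer ({x₀} : Set G)) :=
      Nat.Coprime.mul_dvd_of_dvd_of_dvd (by norm_num : Nat.Coprime 3 5) h3C h5C
    obtain ⟨c, hcc⟩ := h15C
    have hd136 : Nat.card (Sylow 3 G) ∣ 136 := by
      refine ⟨c, ?_⟩
      have h30 : 30 * (Nat.card (Sylow 3 G) * c) = 30 * 136 := by
        calc 30 * (Nat.card (Sylow 3 G) * c) = Nat.card (Sylow 3 G) * (15 * c * 2) := by ring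
          _ = 4080 := by rw [← hcc, hcr]; exact hmul
      exact (Nat.eq_of_mul_eq_mul_left (by norm_num) h30).symm
    rcases num3 _ hd136 hm h17 with h' | h'
    · exfalso
      -- |C(x₀)| = 60
      rw [h'] at hmul
      have hN : Nat.card (normalizer ((P : Subgroup G) : Set G)) = 120 := by omega
      rw [hN] at hcr
      have h60 : Nat.card (centralizer ({x₀} : Set G)) = 60 := by omega
      -- Sylow 5-subgroups of H = C(x₀)
      set H := centralizer ({x₀} : Set G)
      let y' : H := ⟨y, hyC⟩
      let x' : H := ⟨x₀, hxC⟩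
      have hy' : orderOf y' = 5 := by rw [← hy]; exact Subgroup.orderOf_mk y hyC
      have hx' : orderOf x' = 3 := by rw [← hx₀]; exact Subgroup.orderOf_mk x₀ hxC
      obtain ⟨Q, hyQ⟩ := exists_sylow_mem_of_orderOf_eq (p := 5) y' hy'
      have hQmul := card_sylow_mul_card_normalizer Q
      rw [h60] at hQmul
      have hxNQ : x' ∈ normalizer ((Q : Subgroup H) : Set H) := by
        rw [Subgroup.mem_normalizer_iff]
        intro q
        have hcomm : x' * q * x'⁻¹ = q := by
          have : q * x' = x' * q := by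
            apply Subtype.ext
            exact Subgroup.mem_centralizer_singleton_iff.1 q.2
          rw [← this]; group
        rw [hcomm]
      have hyNQ : y' ∈ normalizer ((Q : Subgroup H) : Set H) := le_normalizer hyQ
      have h3Q : 3 ∣ Nat.card (normalizer ((Q : Subgroup H) : Set H)) := by
        have := Subgroup.orderOf_dvd_natCard _ hxNQ
        rwa [hx'] at this
      have h5Q : 5 ∣ Nat.card (normalizer ((Q : Subgroup H) : Set H)) := by
        have := Subgroup.orderOf_dvd_natCard _ hyNQ
        rwa [hy'] at this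
      have h15Q : 15 ∣ Nat.card (normalizer ((Q : Subgroup H) : Set H)) :=
        Nat.Coprime.mul_dvd_of_dvd_of_dvd (by norm_num : Nat.Coprime 3 5) h3Q h5Q
      have hmQ : Nat.card (Sylow 5 H) % 5 = 1 := by
        have := card_sylow_modEq_one 5 H
        unfold Nat.ModEq at this
        simpa using this
      have hnQ : Nat.card (Sylow 5 H) = 1 := by
        obtain ⟨e, he⟩ := h15Q
        rw [he] at hQmul
        have hle : Nat.card (Sylow 5 H) ≤ 4 := by
          have hepos : 0 < e := by
            rcases Nat.eq_zero_or_pos e with h0 | h0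
            · rw [h0] at hQmul; omega
            · exact h0
          nlinarith
        interval_cases (Nat.card (Sylow 5 H)) <;> omega
      have hQn : (Q : Subgroup H).Normal := sylow_normal_of_card_eq_one hnQ Q
      -- H normalizes the Sylow 5-subgroup of G containing y
      obtain ⟨P5, hyP5⟩ := exists_sylow_mem_of_orderOf_eq (p := 5) y hy
      have hP5card := card_sylow5_sub h P5
      have hQcard : Nat.card (Q : Subgroup H) = 5 := by
        have := sylow_card_of_card_eq Q (k := 1) (m := 12) (by rw [h60]; norm_num) (by norm_num)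
        simpa using this
      have hy'1 : y' ≠ 1 := by
        intro h1
        rw [h1, orderOf_one] at hy'
        norm_num at hy'
      have hQz : (Q : Subgroup H) = zpowers y' :=
        eq_zpowers_of_card_prime (Q : Subgroup H) (by norm_num) hQcard hyQ hy'1
      have hy1 : y ≠ 1 := by
        rintro rfl
        rw [orderOf_one] at hy
        norm_num at hy
      have hP5z : (P5 : Subgroup G) = zpowers y :=
        eq_zpowers_of_card_prime (P5 : Subgroup G) (by norm_num) hP5card hyP5 hy1
      · have hHle : H ≤ normalizer ((P5 : Subgroup G) : Set G) := by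
          intro g hg
          have hconj : (⟨g, hg⟩ : H) * y' * (⟨g, hg⟩ : H)⁻¹ ∈ (Q : Subgroup H) :=
            hQn.conj_mem y' hyQ ⟨g, hg⟩
          rw [hQz] at hconj
          obtain ⟨k, hk⟩ := Subgroup.mem_zpowers_iff.1 hconj
          have hk' : g * y * g⁻¹ = y ^ k := by
            have := congrArg (fun z : H => (z : G)) hk
            simpa [y'] using this.symm
          have hginv : g⁻¹ ∈ normalizer ((P5 : Subgroup G) : Set G) := by
            apply mem_normalizer_of_mem_smul_of_card_prime P5 hP5card hyP5 hy1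
            · rw [inv_inv, hk', hP5z]
              exact Subgroup.zpow_mem _ (Subgroup.mem_zpowers y) k
          simpa using Subgroup.inv_mem _ hginv
        have hcardle := Subgroup.card_le_of_le hHle
        have hN5 := card_sylow_mul_card_normalizer P5
        rw [h, card_sylow5 h] at hN5
        rw [h60] at hcardle
        omega
    · exact h'
  -- now for the given x
  obtain ⟨P, hxP⟩ := exists_sylow_mem_of_orderOf_eq (p := 3) x hx
  have hmul := card_sylow_mul_card_normalizer P
  rw [h, hn3] at hmul
  have hcr := card_centralizer_mul_relIndex P (card_sylow3_sub h P) hxP (hne1 x hx)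
  rw [hrel P] at hcr
  omega

/-! ### Counting -/

theorem card_sylow3 (h : Nat.card G = 4080) : Nat.card (Sylow 3 G) = 136 := by
  have hG := not_comm h
  obtain ⟨x, hx⟩ := exists_prime_orderOf_dvd_card' (G := G) 3 (by rw [h]; norm_num)
  obtain ⟨P, hxP⟩ := exists_sylow_mem_of_orderOf_eq (p := 3) x hx
  have hx1 : x ≠ 1 := by
    rintro rfl
    rw [orderOf_one] at hx
    norm_num at hx
  have hcr := card_centralizer_mul_relIndex P (card_sylow3_sub h P) hxP hx1
  have h2 := relIndex_cent_norm_dvd_pred_of_card_prime P (card_sylow3_sub h P)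
  have h3 := relIndex_cent_norm_ne_one_of_simple hG P (by rw [h]; norm_num)
  have hr : (centralizer ((P : Subgroup G) : Set G)).relIndex
      (normalizer ((P : Subgroup G) : Set G)) = 2 := by
    rcases (Nat.dvd_prime Nat.prime_two).1 h2 with h' | h'
    · exact absurd h' h3
    · exact h'
  rw [hr, card_centralizer3 h hx] at hcr
  have hmul := card_sylow_mul_card_normalizer P
  rw [h, ← hcr] at hmul
  omega

theorem card_order3 (h : Nat.card G = 4080) : Nat.card {g : G // orderOf g = 3} = 272 := by
  rw [card_orderOf_eq_prime (card_sylow3_sub h), card_sylow3 h]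

theorem card_order5 (h : Nat.card G = 4080) : Nat.card {g : G // orderOf g = 5} = 544 := by
  rw [card_orderOf_eq_prime (card_sylow5_sub h), card_sylow5 h]

theorem card_order15_ge (h : Nat.card G = 4080) :
    1088 ≤ Nat.card {g : G // orderOf g = 15} := by
  have hb : ∀ y : G, orderOf y = 5 →
      2 ≤ Nat.card {x : G // x ∈ centralizer ({y} : Set G) ∧ orderOf x = 3} := by
    intro y hy
    have hC := card_centralizer5 h hy
    obtain ⟨x, hxC, hx⟩ := exists_mem_orderOf_eq_of_dvd_card (centralizer ({y} : Set G)) 3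
      (by rw [hC]; norm_num)
    have hne : x⁻¹ ≠ x := by
      intro hinv
      have h2 : x ^ 2 = 1 := by
        rw [pow_two]
        nth_rewrite 1 [← hinv]
        exact inv_mul_cancel x
      have := orderOf_dvd_of_pow_eq_one h2
      rw [hx] at this
      norm_num at this
    have hnt : Nontrivial {x : G // x ∈ centralizer ({y} : Set G) ∧ orderOf x = 3} :=
      ⟨⟨⟨x⁻¹, Subgroup.inv_mem _ hxC, by rw [orderOf_inv, hx]⟩, ⟨x, hxC, hx⟩,
        fun hh => hne (congrArg Subtype.val hh)⟩⟩
    exact Finite.one_lt_card_iff_nontrivial.2 hnt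
  have h15 := card_orderOf_mul_ge (G := G) 5 3 2 (by norm_num) hb
  rw [card_order5 h] at h15
  norm_num at h15
  exact h15

/-- There are at most 255 non-identity 2-elements. -/
theorem card_two_elements_le (h : Nat.card G = 4080) :
    Nat.card {g : G // g ≠ 1 ∧ ∃ k, orderOf g = 2 ^ k} ≤ 255 := by
  have hsum := card_two_elements_add_le (G := G) {3, 5, 15, 17} (by
    intro n hn
    simp only [Finset.mem_insert, Finset.mem_singleton] at hn
    rcases hn with rfl | rfl | rfl | rfl <;> norm_num)
  rw [Finset.sum_insert (by decide), Finset.sum_insert (by decide), Finset.sum_insert (by decide),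
    Finset.sum_singleton, h, card_order3 h, card_order5 h, card_order17 h] at hsum
  have := card_order15_ge h
  omega

/-- The centralizer of a non-identity 2-element has order dividing 16. -/
theorem card_centralizer2_dvd (h : Nat.card G = 4080) (w : G) (hw1 : w ≠ 1)
    (hw : ∃ k, orderOf w = 2 ^ k) : Nat.card (centralizer ({w} : Set G)) ∣ 2 ^ 4 := by
  obtain ⟨k, hk⟩ := hw
  have hk1 : orderOf w ≠ 1 := fun h1 => hw1 (orderOf_eq_one_iff.1 h1)
  have key : ∀ x : G, x ∈ centralizer ({w} : Set G) →
      Nat.card (centralizer ({x} : Set G)) = 15 → False := by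
    intro x hxC hC
    have hwC : w ∈ centralizer ({x} : Set G) := by
      rw [Subgroup.mem_centralizer_singleton_iff] at hxC ⊢
      exact hxC.symm
    have h1 := Subgroup.orderOf_dvd_natCard _ hwC
    rw [hC, hk] at h1
    have hcop : Nat.Coprime (2 ^ k) 15 := Nat.Coprime.pow_left k (by norm_num)
    have := Nat.Coprime.eq_one_of_dvd hcop h1
    rw [this] at hk
    exact hk1 hk
  apply num_c2
  · rw [← h]
    exact Subgroup.card_subgroup_dvd_card _
  · intro h3
    obtain ⟨x, hxC, hx⟩ := exists_mem_orderOf_eq_of_dvd_card (centralizer ({w} : Set G)) 3 h3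
    exact key x hxC (card_centralizer3 h hx)
  · intro h5
    obtain ⟨y, hyC, hy⟩ := exists_mem_orderOf_eq_of_dvd_card (centralizer ({w} : Set G)) 5 h5
    exact key y hyC (card_centralizer5 h hy)
  · apply not_17_dvd_card_centralizer h w hk1
    rw [hk]
    exact two_pow_ne_of_odd (by norm_num) (by norm_num) k

end Simple4080

end Cfsg.Agent.Lib.Helper17
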