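import Mathlib
import Cfsg.Agent.Lib.Helper17.SimpleTools
import Cfsg.Agent.Lib.Helper17.PrimeSylow
import Cfsg.Agent.Lib.Helper17.OrderCount
import Cfsg.Agent.Lib.Helper17.ConjCount
import Cfsg.Agent.Lib.Helper17.CosetAction
import Cfsg.Agent.Lib.Helper17.Misc

set_option autoImplicit false

namespace Cfsg.Agent.Lib.Helper17

open Subgroup


/-- If the Sylow `p`-subgroups of order `m` intersect pairwise trivially, there are exactly
`n_p * (m - 1)` non-identity elements lying in Sylow `p`-subgroups. -/
theorem card_mem_sylow_ne_one_of_TI {G : Type*} [Group G] [Finite G] {p : ℕ} [Fact p.Prime]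
    (m : ℕ) (hP : ∀ P : Sylow p G, Nat.card (P : Subgroup G) = m)
    (hTI : ∀ P Q : Sylow p G, P ≠ Q → (P : Subgroup G) ⊓ (Q : Subgroup G) = ⊥) :
    Nat.card {g : G // g ≠ 1 ∧ ∃ P : Sylow p G, g ∈ (P : Subgroup G)} =
      Nat.card (Sylow p G) * (m - 1) := by
  classical
  have := Fintype.ofFinite (Sylow p G)
  let f : (Σ P : Sylow p G, {g : G // g ∈ (P : Subgroup G) ∧ g ≠ 1}) →
      {g : G // g ≠ 1 ∧ ∃ P : Sylow p G, g ∈ (P : Subgroup G)} :=
    fun x => ⟨x.2.1, x.2.2.2, x.1, x.2.2.1⟩
  have hf : Function.Bijective f := by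
    constructor
    · rintro ⟨P, g, hg, hg1⟩ ⟨Q, g', hg', hg1'⟩ h
      have hgg : g = g' := congrArg Subtype.val h
      subst hgg
      have hPQ : P = Q := by
        by_contra hne
        have hmem : g ∈ (P : Subgroup G) ⊓ (Q : Subgroup G) := ⟨hg, hg'⟩
        rw [hTI P Q hne, Subgroup.mem_bot] at hmem
        exact hg1 hmem
      subst hPQ
      rfl
    · rintro ⟨g, hg1, P, hgP⟩
      exact ⟨⟨P, g, hgP, hg1⟩, rfl⟩
  rw [← Nat.card_eq_of_bijective f hf, Nat.card_sigma]
  have : ∀ P : Sylow p G, Nat.card {g : G // g ∈ (P : Subgroup G) ∧ g ≠ 1} = m - 1 := by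
    intro P
    rw [card_subgroup_ne_one, hP P]
  simp only [this, Finset.sum_const, Finset.card_univ, smul_eq_mul]
  rw [Nat.card_eq_fintype_card]

namespace Simple504

theorem num7 (n : ℕ) (hd : n ∣ 72) (hm : n % 7 = 1) : n = 1 ∨ n = 8 ∨ n = 36 := by
  have : n ≤ 72 := Nat.le_of_dvd (by norm_num) hd
  interval_cases n <;> omega

theorem num3 (n : ℕ) (hd : n ∣ 56) (hm : n % 3 = 1) : n = 1 ∨ n = 4 ∨ n = 7 ∨ n = 28 := by
  have : n ≤ 56 := Nat.le_of_dvd (by norm_num) hd
  interval_cases n <;> omega

variable {G : Type*} [Group G] [Finite G] [IsSimpleGroup G]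

theorem not_comm (h : Nat.card G = 504) : ¬ IsMulCommutative G :=
  not_comm_of_simple_of_not_prime (by rw [h]; norm_num)

/-- A simple group of order 504 has no proper subgroup of index less than 8. -/
theorem eight_le_index (h : Nat.card G = 504) (H : Subgroup G) (hH : H ≠ ⊤) : 8 ≤ H.index := by
  have hG := not_comm h
  have h1 := two_mul_card_dvd_factorial_index_of_simple hG H hH
  have h0 : H.index ≠ 0 := Subgroup.index_ne_zero_of_finite
  by_contra hlt
  have h7 : H.index = 7 := by
    by_contra hne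
    have h6 : H.index ≤ 6 := by omega
    have h2 : (H.index).factorial ∣ Nat.factorial 6 := Nat.factorial_dvd_factorial h6
    have h3 := dvd_trans h1 h2
    rw [h] at h3
    norm_num [Nat.factorial] at h3
  rcases index_bound_of_simple hG H hH (by omega) with h2 | h2
  · rw [h7, h] at h2
    norm_num [Nat.factorial] at h2
  · rw [h7, h] at h2
    norm_num [Nat.factorial] at h2

theorem card_le_63 (h : Nat.card G = 504) (H : Subgroup G) (hH : H ≠ ⊤) : Nat.card H ≤ 63 := by
  have h1 := eight_le_index h H hH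
  have h2 := H.index_mul_card
  rw [h] at h2
  nlinarith

theorem fact7 : Fact (Nat.Prime 7) := ⟨by norm_num⟩
theorem fact3 : Fact (Nat.Prime 3) := ⟨by norm_num⟩
theorem fact2 : Fact (Nat.Prime 2) := ⟨by norm_num⟩
attribute [local instance] fact7 fact3 fact2

omit [IsSimpleGroup G] in
theorem card_sylow7_sub (h : Nat.card G = 504) (P : Sylow 7 G) : Nat.card (P : Subgroup G) = 7 := by
  have := sylow_card_of_card_eq P (k := 1) (m := 72) (by rw [h]; norm_num) (by norm_num)
  simpa using this

omit [IsSimpleGroup G] in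
theorem card_sylow3_sub (h : Nat.card G = 504) (P : Sylow 3 G) : Nat.card (P : Subgroup G) = 9 := by
  have := sylow_card_of_card_eq P (k := 2) (m := 56) (by rw [h]; norm_num) (by norm_num)
  simpa using this

omit [IsSimpleGroup G] in
theorem card_sylow2_sub (h : Nat.card G = 504) (P : Sylow 2 G) : Nat.card (P : Subgroup G) = 8 := by
  have := sylow_card_of_card_eq P (k := 3) (m := 63) (by rw [h]; norm_num) (by norm_num)
  simpa using this

theorem card_sylow7 (h : Nat.card G = 504) : Nat.card (Sylow 7 G) = 36 := by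
  have hG := not_comm h
  have hd : Nat.card (Sylow 7 G) ∣ 72 :=
    card_sylow_dvd_of_card_eq (k := 1) (m := 72) (by rw [h]; norm_num) (by norm_num)
  have hm : Nat.card (Sylow 7 G) % 7 = 1 := by
    have := card_sylow_modEq_one 7 G
    unfold Nat.ModEq at this
    simpa using this
  have h1 : Nat.card (Sylow 7 G) ≠ 1 :=
    card_sylow_ne_one_of_simple (k := 1) (m := 72) (by rw [h]; norm_num) (by norm_num) (by norm_num)
      (by norm_num)
  rcases num7 _ hd hm with h' | h' | h'
  · exact absurd h' h1
  · exfalso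
    obtain ⟨P⟩ := (Sylow.nonempty : Nonempty (Sylow 7 G))
    have h2 := card_normalizer_dvd_of_card_sylow_of_simple hG 7 7 (Or.inr h') P
      (by rw [h]; norm_num)
    have h3 := card_sylow_mul_card_normalizer P
    rw [h', h] at h3
    have h4 : Nat.card (normalizer ((P : Subgroup G) : Set G)) = 63 := by omega
    rw [h4] at h2
    norm_num at h2
  · exact h'

theorem card_normalizer7 (h : Nat.card G = 504) (P : Sylow 7 G) :
    Nat.card (normalizer ((P : Subgroup G) : Set G)) = 14 := by
  have h3 := card_sylow_mul_card_normalizer P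
  rw [card_sylow7 h, h] at h3
  omega

theorem centralizer7 (h : Nat.card G = 504) (P : Sylow 7 G) :
    centralizer ((P : Subgroup G) : Set G) = (P : Subgroup G) := by
  have hG := not_comm h
  have hP := card_sylow7_sub h P
  have h1 := relIndex_cent_norm_dvd_pred_of_card_prime P hP
  have h2 := mul_relIndex_cent_norm_dvd_of_card_prime P hP
  have h3 := relIndex_cent_norm_ne_one_of_simple hG P (by rw [h]; norm_num)
  rw [card_normalizer7 h P] at h2
  have hc : IsCyclic (P : Subgroup G) := isCyclic_of_prime_card hP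
  have hcomm : IsMulCommutative (P : Subgroup G) := ⟨⟨IsCyclic.commGroup.mul_comm⟩⟩
  have hle : (P : Subgroup G) ≤ centralizer ((P : Subgroup G) : Set G) := Subgroup.le_centralizer _
  have h4 := card_mul_relIndex_of_le
    (Subgroup.centralizer_le_normalizer ((P : Subgroup G) : Set G))
  rw [card_normalizer7 h P] at h4
  set r := (centralizer ((P : Subgroup G) : Set G)).relIndex (normalizer ((P : Subgroup G) : Set G))
    with hr
  have hr2 : r = 2 := by
    have : r ∣ 2 := by
      have : 7 * r ∣ 7 * 2 := h2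
      exact Nat.dvd_of_mul_dvd_mul_left (by norm_num) this
    rcases (Nat.dvd_prime Nat.prime_two).1 this with h' | h'
    · exact absurd h' h3
    · exact h'
  rw [hr2] at h4
  symm
  apply Subgroup.eq_of_le_of_card_ge hle
  rw [hP]
  omega

/-- An element commuting with an element of order 7 is a power of it. -/
theorem mem_zpowers_of_commute7 (h : Nat.card G = 504) {σ g : G} (hσ : orderOf σ = 7)
    (hc : g * σ = σ * g) : g ∈ zpowers σ := by
  obtain ⟨P, hP⟩ := exists_sylow_mem_of_orderOf_eq (p := 7) σ hσ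
  have hσ1 : σ ≠ 1 := by
    rintro rfl
    rw [orderOf_one] at hσ
    norm_num at hσ
  have hcard := card_sylow7_sub h P
  have h1 := mem_centralizer_of_commute_of_card_prime (P : Subgroup G) (by norm_num) hcard hP hσ1 hc
  rw [centralizer7 h P] at h1
  rwa [← eq_zpowers_of_card_prime (P : Subgroup G) (by norm_num) hcard hP hσ1]

/-- 7 does not divide the order of the centralizer of an element whose order is not 1 or 7. -/
theorem not_seven_dvd_card_centralizer (h : Nat.card G = 504) (x : G) (hx1 : orderOf x ≠ 1)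
    (hx7 : orderOf x ≠ 7) : ¬ 7 ∣ Nat.card (centralizer ({x} : Set G)) := by
  intro hd
  obtain ⟨σ, hσC, hσ⟩ := exists_mem_orderOf_eq_of_dvd_card (centralizer ({x} : Set G)) 7 hd
  have hc : x * σ = σ * x := by
    have := Subgroup.mem_centralizer_iff.1 hσC x (Set.mem_singleton x)
    exact this
  have hx := mem_zpowers_of_commute7 h hσ hc
  have h2 : orderOf x ∣ 7 := by
    have := Subgroup.orderOf_dvd_natCard _ hx
    rwa [Nat.card_zpowers, hσ] at this
  rcases (Nat.dvd_prime (by norm_num : Nat.Prime 7)).1 h2 with h' | h'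
  · exact hx1 h'
  · exact hx7 h'


/-! ### Sylow 3-subgroups -/

theorem card_sylow3 (h : Nat.card G = 504) : Nat.card (Sylow 3 G) = 28 := by
  have hd : Nat.card (Sylow 3 G) ∣ 56 :=
    card_sylow_dvd_of_card_eq (k := 2) (m := 56) (by rw [h]; norm_num) (by norm_num)
  have hm : Nat.card (Sylow 3 G) % 3 = 1 := by
    have := card_sylow_modEq_one 3 G
    unfold Nat.ModEq at this
    simpa using this
  have h1 : Nat.card (Sylow 3 G) ≠ 1 :=
    card_sylow_ne_one_of_simple (k := 2) (m := 56) (by rw [h]; norm_num) (by norm_num)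
      (by norm_num) (by norm_num)
  obtain ⟨P⟩ := (Sylow.nonempty : Nonempty (Sylow 3 G))
  have hidx : Nat.card (Sylow 3 G) = (normalizer ((P : Subgroup G) : Set G)).index :=
    P.card_eq_index_normalizer
  have h8 : 8 ≤ Nat.card (Sylow 3 G) := by
    rw [hidx]
    apply eight_le_index h
    intro htop
    apply h1
    rw [hidx, htop, index_top]
  rcases num3 _ hd hm with h' | h' | h' | h' <;> omega

theorem card_normalizer3 (h : Nat.card G = 504) (P : Sylow 3 G) :
    Nat.card (normalizer ((P : Subgroup G) : Set G)) = 18 := by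
  have h3 := card_sylow_mul_card_normalizer P
  rw [card_sylow3 h, h] at h3
  omega

omit [IsSimpleGroup G] in
theorem sylow3_comm (h : Nat.card G = 504) (P : Sylow 3 G) :
    IsMulCommutative (P : Subgroup G) :=
  IsPGroup.isMulCommutative_of_card_eq_prime_sq (p := 3)
    (by rw [card_sylow3_sub h P]; norm_num)

/-- Elements of `N(P) \ P` invert the Sylow 3-subgroup `P`. -/
theorem inverts3 (h : Nat.card G = 504) (P : Sylow 3 G) {s a : G}
    (hs : s ∈ normalizer ((P : Subgroup G) : Set G)) (hsP : s ∉ (P : Subgroup G))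
    (ha : a ∈ (P : Subgroup G)) : s * a * s⁻¹ = a⁻¹ :=
  haveI := sylow3_comm h P
  conj_eq_inv_of_card_normalizer_eq_two_mul (not_comm h) P
    (by rw [card_normalizer3 h P, card_sylow3_sub h P]) hs hsP ha

omit [Finite G] [IsSimpleGroup G] in
theorem mem_normalizer_zpowers_of_conj_eq_inv {s x : G} (hsx : s * x * s⁻¹ = x⁻¹) :
    s ∈ normalizer (zpowers x : Set G) := by
  have hsx' : s⁻¹ * x * s = x⁻¹ := by
    have : x = s⁻¹ * x⁻¹ * s := by rw [← hsx]; group
    have h2 : x⁻¹ = (s⁻¹ * x⁻¹ * s)⁻¹ := congrArg (·⁻¹) this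
    rw [h2]; group
  rw [Subgroup.mem_normalizer_iff]
  intro z
  constructor
  · intro hz
    obtain ⟨k, rfl⟩ := Subgroup.mem_zpowers_iff.1 hz
    have : s * x ^ k * s⁻¹ = (s * x * s⁻¹) ^ k := by
      rw [← MulAut.conj_apply, map_zpow, MulAut.conj_apply]
    rw [this, hsx]
    exact Subgroup.zpow_mem _ (Subgroup.inv_mem _ (Subgroup.mem_zpowers x)) k
  · intro hz
    obtain ⟨k, hk⟩ := Subgroup.mem_zpowers_iff.1 hz
    have hz' : z = s⁻¹ * x ^ k * s := by rw [hk]; group
    have : s⁻¹ * x ^ k * s = (s⁻¹ * x * s) ^ k := by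
      have := map_zpow (MulAut.conj s⁻¹) x k
      simpa [MulAut.conj_apply] using this
    rw [hz', this, hsx']
    exact Subgroup.zpow_mem _ (Subgroup.inv_mem _ (Subgroup.mem_zpowers x)) k

/-- No involution commutes with an element of order 3. -/
theorem not_commute_two_three (h : Nat.card G = 504) {u x : G} (hu : orderOf u = 2)
    (hx : orderOf x = 3) : u * x ≠ x * u := by
  intro hc
  obtain ⟨P, hxP⟩ := exists_sylow_mem_of_orderOf_eq (p := 3) x hx
  have hPcomm := sylow3_comm h P
  have hPcard := card_sylow3_sub h P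
  have hx1 : x ≠ x⁻¹ := by
    intro h1
    have h2 : x ^ 2 = 1 := by
      rw [pow_two]
      nth_rewrite 1 [h1]
      exact inv_mul_cancel x
    have := orderOf_dvd_of_pow_eq_one h2
    rw [hx] at this
    norm_num at this
  have hPC : (P : Subgroup G) ≤ centralizer ({x} : Set G) := by
    intro y hy
    rw [Subgroup.mem_centralizer_singleton_iff]
    exact setLike_mul_comm hy hxP
  have huC : u ∈ centralizer ({x} : Set G) := by
    rw [Subgroup.mem_centralizer_singleton_iff]
    exact hc
  -- an element of N(P) outside P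
  obtain ⟨s, hsN, hsP⟩ : ∃ s ∈ normalizer ((P : Subgroup G) : Set G), s ∉ (P : Subgroup G) := by
    by_contra hcon
    push Not at hcon
    have hle : normalizer ((P : Subgroup G) : Set G) ≤ (P : Subgroup G) := hcon
    have := Subgroup.card_le_of_le hle
    rw [card_normalizer3 h P, hPcard] at this
    omega
  have hsx : s * x * s⁻¹ = x⁻¹ := inverts3 h P hsN hsP hxP
  have hsM : s ∈ normalizer (zpowers x : Set G) := mem_normalizer_zpowers_of_conj_eq_inv hsx
  have hsC : s ∉ centralizer ({x} : Set G) := by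
    intro hsC
    rw [Subgroup.mem_centralizer_singleton_iff] at hsC
    apply hx1
    rw [← hsx, hsC]
    group
  have hCM : centralizer ({x} : Set G) ≤ normalizer (zpowers x : Set G) := by
    intro c hcC
    rw [Subgroup.mem_centralizer_singleton_iff] at hcC
    rw [Subgroup.mem_normalizer_iff]
    intro z
    have hcz : ∀ k : ℤ, c * x ^ k * c⁻¹ = x ^ k := by
      intro k
      have : Commute c (x ^ k) := (show Commute c x from hcC).zpow_right k
      rw [this.eq]; group
    constructor
    · intro hz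
      obtain ⟨k, rfl⟩ := Subgroup.mem_zpowers_iff.1 hz
      rw [hcz]
      exact hz
    · intro hz
      obtain ⟨k, hk⟩ := Subgroup.mem_zpowers_iff.1 hz
      have : z = c⁻¹ * (c * x ^ k * c⁻¹) * c := by rw [hcz, hk]; group
      rw [this, hcz]
      have : c⁻¹ * x ^ k * c = x ^ k := by
        have : Commute c (x ^ k) := (show Commute c x from hcC).zpow_right k
        rw [mul_assoc, ← this.eq]; group
      rw [this]
      exact Subgroup.zpow_mem _ (Subgroup.mem_zpowers x) k
  have hMtop : normalizer (zpowers x : Set G) ≠ ⊤ := by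
    intro htop
    have hn : (zpowers x).Normal := Subgroup.normalizer_eq_top_iff.1 htop
    have hcz : Nat.card (zpowers x) = 3 := by rw [Nat.card_zpowers, hx]
    rcases hn.eq_bot_or_eq_top with hb | ht
    · rw [hb, Subgroup.card_bot] at hcz
      omega
    · rw [ht, Subgroup.card_top, h] at hcz
      omega
  have hM63 := card_le_63 h _ hMtop
  have hClt : Nat.card (centralizer ({x} : Set G)) < Nat.card (normalizer (zpowers x : Set G)) := by
    refine lt_of_le_of_ne (Subgroup.card_le_of_le hCM) (fun heq => hsC ?_)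
    rw [Subgroup.eq_of_le_of_card_ge hCM heq.ge]
    exact hsM
  have hCdvd : Nat.card (centralizer ({x} : Set G)) ∣ Nat.card (normalizer (zpowers x : Set G)) :=
    Subgroup.card_dvd_of_le hCM
  have h9 : 9 ∣ Nat.card (centralizer ({x} : Set G)) := by
    rw [← hPcard]
    exact Subgroup.card_dvd_of_le hPC
  have h2 : 2 ∣ Nat.card (centralizer ({x} : Set G)) := by
    rw [← hu]
    exact Subgroup.orderOf_dvd_natCard _ huC
  have hC18 : Nat.card (centralizer ({x} : Set G)) = 18 := by
    obtain ⟨m, hm⟩ := hCdvd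
    have hm2 : 2 ≤ m := by
      rcases m with _ | _ | m
      · omega
      · omega
      · omega
    have h18 : 18 ∣ Nat.card (centralizer ({x} : Set G)) :=
      Nat.Coprime.mul_dvd_of_dvd_of_dvd (by norm_num) h2 h9
    obtain ⟨k, hk⟩ := h18
    have : Nat.card (centralizer ({x} : Set G)) * 2 ≤ 63 := by
      calc Nat.card (centralizer ({x} : Set G)) * 2 ≤ Nat.card (centralizer ({x} : Set G)) * m :=
            Nat.mul_le_mul_left _ hm2
        _ ≤ 63 := by rw [← hm]; exact hM63
    have hpos : 0 < Nat.card (centralizer ({x} : Set G)) := Nat.card_pos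
    omega
  -- P has index 2 in C, hence is normal in C
  have hidx : ((P : Subgroup G).subgroupOf (centralizer ({x} : Set G))).index = 2 := by
    have h1 := card_mul_relIndex_of_le hPC
    rw [hC18, hPcard] at h1
    show (P : Subgroup G).relIndex (centralizer ({x} : Set G)) = 2
    omega
  have hnorm : ((P : Subgroup G).subgroupOf (centralizer ({x} : Set G))).Normal :=
    Subgroup.normal_of_index_eq_two hidx
  have hCN : centralizer ({x} : Set G) ≤ normalizer ((P : Subgroup G) : Set G) :=
    (Subgroup.normal_subgroupOf_iff_le_normalizer hPC).1 hnorm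
  have huN := hCN huC
  have huP : u ∉ (P : Subgroup G) := by
    intro huP
    have := Subgroup.orderOf_dvd_natCard _ huP
    rw [hu, hPcard] at this
    norm_num at this
  have hux : u * x * u⁻¹ = x⁻¹ := inverts3 h P huN huP hxP
  apply hx1
  rw [← hux, hc]
  group

/-! ### Counting -/

theorem num_cent3 (c : ℕ) (hd : c ∣ 504) (h9 : 9 ∣ c) (h2 : ¬ 2 ∣ c) (h7 : ¬ 7 ∣ c) : c = 9 := by
  obtain ⟨k, rfl⟩ := h9
  have hk : k ∣ 56 := Nat.dvd_of_mul_dvd_mul_left (by norm_num : 0 < 9) (by simpa using hd)
  have : k ≤ 56 := Nat.le_of_dvd (by norm_num) hk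
  interval_cases k <;> omega

theorem num_cent2 (c : ℕ) (hd : c ∣ 504) (h3 : ¬ 3 ∣ c) (h7 : ¬ 7 ∣ c) : c ∣ 8 := by
  have h1 : Nat.Coprime c 63 := by
    have : (63 : ℕ) = 3 ^ 2 * 7 := by norm_num
    rw [this]
    apply Nat.Coprime.mul_right
    · exact Nat.Coprime.pow_right 2 ((Nat.coprime_comm.1 ((Nat.Prime.coprime_iff_not_dvd (by norm_num)).2 h3)))
    · exact Nat.coprime_comm.1 ((Nat.Prime.coprime_iff_not_dvd (by norm_num)).2 h7)
  have : (504 : ℕ) = 8 * 63 := by norm_num
  rw [this] at hd
  exact h1.dvd_of_dvd_mul_right hd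

/-- The centralizer of an element of order 3 has order 9. -/
theorem card_centralizer3 (h : Nat.card G = 504) {x : G} (hx : orderOf x = 3) :
    Nat.card (centralizer ({x} : Set G)) = 9 := by
  obtain ⟨P, hxP⟩ := exists_sylow_mem_of_orderOf_eq (p := 3) x hx
  have hPcomm := sylow3_comm h P
  have hPC : (P : Subgroup G) ≤ centralizer ({x} : Set G) := by
    intro y hy
    rw [Subgroup.mem_centralizer_singleton_iff]
    exact setLike_mul_comm hy hxP
  apply num_cent3
  · rw [← h]
    exact Subgroup.card_subgroup_dvd_card _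
  · rw [← card_sylow3_sub h P]
    exact Subgroup.card_dvd_of_le hPC
  · intro h2
    obtain ⟨u, huC, hu⟩ := exists_mem_orderOf_eq_of_dvd_card (centralizer ({x} : Set G)) 2 h2
    rw [Subgroup.mem_centralizer_singleton_iff] at huC
    exact not_commute_two_three h hu hx huC
  · exact not_seven_dvd_card_centralizer h x (by rw [hx]; norm_num) (by rw [hx]; norm_num)

/-- Distinct Sylow 3-subgroups intersect trivially. -/
theorem sylow3_inf_eq_bot (h : Nat.card G = 504) (P Q : Sylow 3 G) (hne : P ≠ Q) :
    (P : Subgroup G) ⊓ (Q : Subgroup G) = ⊥ := by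
  by_contra hbot
  have hcard1 : Nat.card ((P : Subgroup G) ⊓ (Q : Subgroup G) : Subgroup G) ≠ 1 := by
    intro h1
    exact hbot (Subgroup.card_eq_one.1 h1)
  have hdvd9 : Nat.card ((P : Subgroup G) ⊓ (Q : Subgroup G) : Subgroup G) ∣ 9 := by
    rw [← card_sylow3_sub h P]
    exact Subgroup.card_dvd_of_le inf_le_left
  have h3 : 3 ∣ Nat.card ((P : Subgroup G) ⊓ (Q : Subgroup G) : Subgroup G) := by
    have : (9 : ℕ) = 3 ^ 2 := by norm_num
    rw [this] at hdvd9
    obtain ⟨j, hj, hj2⟩ := (Nat.dvd_prime_pow (by norm_num : Nat.Prime 3)).1 hdvd9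
    rw [hj2] at hcard1 ⊢
    rcases j with _ | j
    · simp at hcard1
    · exact Dvd.intro _ (pow_succ' 3 j).symm
  obtain ⟨y, hy, hyo⟩ := exists_mem_orderOf_eq_of_dvd_card _ 3 h3
  have hC := card_centralizer3 h hyo
  have hPcomm := sylow3_comm h P
  have hQcomm := sylow3_comm h Q
  have hPC : (P : Subgroup G) ≤ centralizer ({y} : Set G) := by
    intro z hz
    rw [Subgroup.mem_centralizer_singleton_iff]
    exact setLike_mul_comm hz hy.1
  have hQC : (Q : Subgroup G) ≤ centralizer ({y} : Set G) := by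
    intro z hz
    rw [Subgroup.mem_centralizer_singleton_iff]
    exact setLike_mul_comm hz hy.2
  have e1 := Subgroup.eq_of_le_of_card_ge hPC (by rw [hC, card_sylow3_sub h P])
  have e2 := Subgroup.eq_of_le_of_card_ge hQC (by rw [hC, card_sylow3_sub h Q])
  exact hne (Sylow.ext (e1.trans e2.symm))

theorem card_three_elements (h : Nat.card G = 504) :
    Nat.card {g : G // g ≠ 1 ∧ ∃ P : Sylow 3 G, g ∈ (P : Subgroup G)} = 224 := by
  rw [card_mem_sylow_ne_one_of_TI 9 (card_sylow3_sub h) (sylow3_inf_eq_bot h), card_sylow3 h]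

theorem card_seven_elements (h : Nat.card G = 504) :
    Nat.card {g : G // orderOf g = 7} = 216 := by
  rw [card_orderOf_eq_prime (card_sylow7_sub h), card_sylow7 h]

theorem two_pow_ne_seven (k : ℕ) : 2 ^ k ≠ 7 := by
  intro hk
  rcases k with _ | k
  · simp at hk
  · rw [pow_succ] at hk
    omega

/-- There are at most 63 non-identity 2-elements. -/
theorem card_two_elements_le (h : Nat.card G = 504) :
    Nat.card {g : G // g ≠ 1 ∧ ∃ k, orderOf g = 2 ^ k} ≤ 63 := by
  classical
  have := Fintype.ofFinite G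
  have h7 := card_seven_elements h
  have h3 := card_three_elements h
  rw [Nat.card_eq_fintype_card, Fintype.card_subtype] at h7 h3 ⊢
  rw [Nat.card_eq_fintype_card] at h
  set S7 := Finset.univ.filter (fun g : G => orderOf g = 7) with hS7
  set S3 := Finset.univ.filter
    (fun g : G => g ≠ 1 ∧ ∃ P : Sylow 3 G, g ∈ (P : Subgroup G)) with hS3
  set S2 := Finset.univ.filter (fun g : G => g ≠ 1 ∧ ∃ k, orderOf g = 2 ^ k) with hS2
  have hord3 : ∀ g : G, (∃ P : Sylow 3 G, g ∈ (P : Subgroup G)) → orderOf g ∣ 9 := by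
    rintro g ⟨P, hg⟩
    have := Subgroup.orderOf_dvd_natCard _ hg
    rwa [card_sylow3_sub (by rw [Nat.card_eq_fintype_card]; exact h) P] at this
  have d73 : Disjoint S7 S3 := by
    rw [Finset.disjoint_left]
    intro g hg7 hg3
    simp only [hS7, hS3, Finset.mem_filter, Finset.mem_univ, true_and] at hg7 hg3
    have := hord3 g hg3.2
    rw [hg7] at this
    norm_num at this
  have d72 : Disjoint S7 S2 := by
    rw [Finset.disjoint_left]
    intro g hg7 hg2
    simp only [hS7, hS2, Finset.mem_filter, Finset.mem_univ, true_and] at hg7 hg2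
    obtain ⟨k, hk⟩ := hg2.2
    rw [hg7] at hk
    exact two_pow_ne_seven k hk.symm
  have d32 : Disjoint S3 S2 := by
    rw [Finset.disjoint_left]
    intro g hg3 hg2
    simp only [hS3, hS2, Finset.mem_filter, Finset.mem_univ, true_and] at hg3 hg2
    obtain ⟨k, hk⟩ := hg2.2
    have h9 := hord3 g hg3.2
    rw [hk] at h9
    have hcop : Nat.Coprime (2 ^ k) 9 := Nat.Coprime.pow_left k (by norm_num)
    have h1 : 2 ^ k = 1 := Nat.Coprime.eq_one_of_dvd hcop h9
    rw [h1] at hk
    exact hg3.1 (orderOf_eq_one_iff.1 hk)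
  have d1 : (1 : G) ∉ S7 ∪ S3 ∪ S2 := by
    simp only [hS7, hS3, hS2, Finset.mem_union, Finset.mem_filter, Finset.mem_univ, true_and,
      orderOf_one]
    rintro ((h1 | h1) | h1)
    · norm_num at h1
    · exact h1.1 rfl
    · exact h1.1 rfl
  have hcard : (S7 ∪ S3 ∪ S2).card = S7.card + S3.card + S2.card := by
    rw [Finset.card_union_of_disjoint, Finset.card_union_of_disjoint d73]
    rw [Finset.disjoint_union_left]
    exact ⟨d72, d32⟩
  have hle : (insert (1 : G) (S7 ∪ S3 ∪ S2)).card ≤ (Finset.univ : Finset G).card :=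
    Finset.card_le_card (Finset.subset_univ _)
  rw [Finset.card_insert_of_notMem d1, hcard, Finset.card_univ, h, h7, h3] at hle
  omega

/-! ### 2-elements -/

/-- The centralizer of a non-identity 2-element has order dividing 8. -/
theorem card_centralizer2_dvd (h : Nat.card G = 504) {w : G} (hw1 : w ≠ 1) {k : ℕ}
    (hw : orderOf w = 2 ^ k) : Nat.card (centralizer ({w} : Set G)) ∣ 8 := by
  have hk : k ≠ 0 := by
    rintro rfl
    rw [pow_zero] at hw
    exact hw1 (orderOf_eq_one_iff.1 hw)
  obtain ⟨j, rfl⟩ : ∃ j, k = j + 1 := ⟨k - 1, by omega⟩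
  apply num_cent2
  · rw [← h]
    exact Subgroup.card_subgroup_dvd_card _
  · intro h3
    obtain ⟨x, hxC, hx⟩ := exists_mem_orderOf_eq_of_dvd_card (centralizer ({w} : Set G)) 3 h3
    rw [Subgroup.mem_centralizer_singleton_iff] at hxC
    have hu : orderOf (w ^ 2 ^ j) = 2 := by
      rw [orderOf_pow_of_dvd (by positivity) (by rw [hw, pow_succ]; exact Dvd.intro _ rfl), hw,
        pow_succ, Nat.mul_div_cancel_left _ (by positivity)]
    have hc : Commute (w ^ 2 ^ j) x := (show Commute x w from hxC).symm.pow_left _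
    exact not_commute_two_three h hu hx hc.eq
  · apply not_seven_dvd_card_centralizer h w
    · rw [hw]
      intro h1
      rw [← hw] at h1
      exact hw1 (orderOf_eq_one_iff.1 h1)
    · rw [hw]
      exact two_pow_ne_seven _

/-- All non-identity 2-elements are conjugate. -/
theorem isConj_of_two_elements (h : Nat.card G = 504) {w v : G} (hw1 : w ≠ 1) {k : ℕ}
    (hw : orderOf w = 2 ^ k) (hv1 : v ≠ 1) {j : ℕ} (hv : orderOf v = 2 ^ j) :
    IsConj w v ∧ Nat.card (centralizer ({w} : Set G)) = 8 := by
  classical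
  have := Fintype.ofFinite G
  have hle := card_two_elements_le h
  have hcl := card_conj_mul_card_centralizer w
  have hC := card_centralizer2_dvd h hw1 hw
  rw [Nat.card_eq_fintype_card, Fintype.card_subtype] at hle hcl
  set S2 := Finset.univ.filter (fun g : G => g ≠ 1 ∧ ∃ k, orderOf g = 2 ^ k) with hS2
  set Cl := Finset.univ.filter (fun g : G => IsConj w g) with hCl
  have hsub : Cl ⊆ S2 := by
    intro g hg
    simp only [hCl, hS2, Finset.mem_filter, Finset.mem_univ, true_and] at hg ⊢
    have ho := orderOf_eq_of_isConj hg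
    refine ⟨?_, k, by rw [ho, hw]⟩
    rintro rfl
    rw [orderOf_one] at ho
    exact hw1 (orderOf_eq_one_iff.1 ho.symm)
  rw [h] at hcl
  have hCle : Nat.card (centralizer ({w} : Set G)) ≤ 8 := Nat.le_of_dvd (by norm_num) hC
  have hCl63 : 63 ≤ Cl.card := by
    by_contra hlt
    have : Cl.card * Nat.card (centralizer ({w} : Set G)) ≤ 62 * 8 :=
      Nat.mul_le_mul (by omega) hCle
    omega
  have hClS : Cl.card ≤ S2.card := Finset.card_le_card hsub
  have heq : Cl = S2 := Finset.eq_of_subset_of_card_le hsub (by omega)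
  constructor
  · have hvS : v ∈ S2 := by
      simp only [hS2, Finset.mem_filter, Finset.mem_univ, true_and]
      exact ⟨hv1, j, hv⟩
    rw [← heq] at hvS
    simpa only [hCl, Finset.mem_filter, Finset.mem_univ, true_and] using hvS
  · have hCl63' : Cl.card = 63 := by omega
    rw [hCl63'] at hcl
    omega

/-- Every non-identity 2-element is an involution. -/
theorem orderOf_eq_two_of_two_element (h : Nat.card G = 504) {v : G} (hv1 : v ≠ 1) {j : ℕ}
    (hv : orderOf v = 2 ^ j) : orderOf v = 2 := by
  obtain ⟨u, hu⟩ := exists_prime_orderOf_dvd_card' (G := G) 2 (by rw [h]; norm_num)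
  have hu1 : u ≠ 1 := by
    rintro rfl
    rw [orderOf_one] at hu
    norm_num at hu
  have := (isConj_of_two_elements h hu1 (k := 1) (by rw [hu, pow_one]) hv1 hv).1
  rw [orderOf_eq_of_isConj this, hu]

/-- The centralizer of an involution has order 8. -/
theorem card_centralizer_involution (h : Nat.card G = 504) {t : G} (ht : orderOf t = 2) :
    Nat.card (centralizer ({t} : Set G)) = 8 := by
  have ht1 : t ≠ 1 := by
    rintro rfl
    rw [orderOf_one] at ht
    norm_num at ht
  exact (isConj_of_two_elements h ht1 (k := 1) (by rw [ht, pow_one]) ht1 (j := 1)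
    (by rw [ht, pow_one])).2

/-- Every element of the centralizer of an involution squares to 1. -/
theorem sq_eq_one_of_mem_centralizer_involution (h : Nat.card G = 504) {t : G}
    (ht : orderOf t = 2) {c : G} (hc : c ∈ centralizer ({t} : Set G)) : c ^ 2 = 1 := by
  have h1 := Subgroup.orderOf_dvd_natCard _ hc
  rw [card_centralizer_involution h ht] at h1
  have : (8 : ℕ) = 2 ^ 3 := by norm_num
  rw [this] at h1
  obtain ⟨j, -, hj⟩ := (Nat.dvd_prime_pow Nat.prime_two).1 h1
  by_cases hc1 : c = 1
  · rw [hc1, one_pow]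
  · have := orderOf_eq_two_of_two_element h hc1 hj
    rw [← this]
    exact pow_orderOf_eq_one c

/-- Every 2-element squares to 1. -/
theorem sq_eq_one_of_mem_sylow2 (h : Nat.card G = 504) (T : Sylow 2 G) {c : G}
    (hc : c ∈ (T : Subgroup G)) : c ^ 2 = 1 := by
  have h1 := Subgroup.orderOf_dvd_natCard _ hc
  rw [card_sylow2_sub h T] at h1
  have : (8 : ℕ) = 2 ^ 3 := by norm_num
  rw [this] at h1
  obtain ⟨j, -, hj⟩ := (Nat.dvd_prime_pow Nat.prime_two).1 h1
  by_cases hc1 : c = 1
  · rw [hc1, one_pow]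
  · have := orderOf_eq_two_of_two_element h hc1 hj
    rw [← this]
    exact pow_orderOf_eq_one c

theorem sylow2_not_isCyclic (h : Nat.card G = 504) (T : Sylow 2 G) :
    ¬ IsCyclic (T : Subgroup G) := by
  intro hcyc
  obtain ⟨g, hg⟩ := hcyc.exists_generator
  have h8 : orderOf g = 8 := by
    rw [orderOf_eq_card_of_forall_mem_zpowers hg, card_sylow2_sub h T]
  have h2 : (g : G) ^ 2 = 1 := sq_eq_one_of_mem_sylow2 h T g.2
  have h3 : g ^ 2 = 1 := Subtype.ext (by simpa using h2)
  have := orderOf_dvd_of_pow_eq_one h3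
  rw [h8] at this
  norm_num at this

theorem sylow2_not_normal (h : Nat.card G = 504) (T : Sylow 2 G) :
    ¬ (T : Subgroup G).Normal := by
  intro hn
  have hc := card_sylow2_sub h T
  rcases hn.eq_bot_or_eq_top with hb | ht
  · rw [hb, Subgroup.card_bot] at hc
    omega
  · rw [ht, Subgroup.card_top, h] at hc
    omega

end Simple504

end Cfsg.Agent.Lib.Helper17
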