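import Mathlib
import Cfsg.Agent.Lib.Helper17.Simple5472b
import Cfsg.Agent.Lib.Helper17.FocalSimple
import Cfsg.Agent.Lib.Helper17.SylowBasic

set_option autoImplicit false

/-!
# Simple groups of order 5472: the Sylow 3-subgroup containing an element of order 3 with a
centralizer of order 9 or 18
-/

namespace Cfsg.Agent.Lib.Helper17.Simple5472

open MulAction Subgroup

attribute [local instance] fact19 fact3 fact2

variable {G : Type*} [Group G] [Finite G] [IsSimpleGroup G]

/-- The normalizer of a Sylow `3`-subgroup. -/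
abbrev NQ (Q : Sylow 3 G) : Subgroup G := normalizer ((Q : Subgroup G) : Set G)

/-- Sylow `3`-subgroups are abelian. -/
theorem sylow3_comm (h : Nat.card G = 5472) (Q : Sylow 3 G) (a b : G)
    (ha : a ∈ (Q : Subgroup G)) (hb : b ∈ (Q : Subgroup G)) : a * b = b * a := by
  have h9 : Nat.card (Q : Subgroup G) = 3 ^ 2 := by rw [card_sylow3 h Q]; norm_num
  have hc : IsMulCommutative (Q : Subgroup G) := IsPGroup.isMulCommutative_of_card_eq_prime_sq h9
  have := hc.is_comm.comm (⟨a, ha⟩ : (Q : Subgroup G)) ⟨b, hb⟩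
  exact congrArg Subtype.val this

theorem pow_nine_eq_one_of_mem (h : Nat.card G = 5472) (Q : Sylow 3 G) (g : G)
    (hg : g ∈ (Q : Subgroup G)) : g ^ 9 = 1 := by
  have := Subgroup.orderOf_dvd_natCard _ hg
  rw [card_sylow3 h Q] at this
  exact orderOf_dvd_iff_pow_eq_one.1 this

omit [Finite G] [IsSimpleGroup G] in
theorem isPGroup_zpowers_of_pow_nine (g : G) (hg : g ^ 9 = 1) :
    IsPGroup 3 (Subgroup.zpowers g) := by
  have h1 : orderOf g ∣ 3 ^ 2 := by
    have : (3 : ℕ) ^ 2 = 9 := by norm_num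
    rw [this]
    exact orderOf_dvd_of_pow_eq_one hg
  obtain ⟨k, -, hk⟩ := (Nat.dvd_prime_pow (by norm_num : Nat.Prime 3)).1 h1
  apply IsPGroup.of_card (n := k)
  rw [Nat.card_zpowers, hk]

theorem sylow3_le_centralizer (h : Nat.card G = 5472) (Q : Sylow 3 G) (x : G)
    (hxQ : x ∈ (Q : Subgroup G)) : (Q : Subgroup G) ≤ centralizer ({x} : Set G) := by
  intro q hq
  rw [Subgroup.mem_centralizer_singleton_iff]
  exact sylow3_comm h Q q x hq hxQ

/-- A `3`-element centralizing `x` lies in the Sylow `3`-subgroup containing `x`. -/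
theorem mem_sylow3_of_mem_centralizer (h : Nat.card G = 5472) (Q : Sylow 3 G) (x : G)
    (hxQ : x ∈ (Q : Subgroup G))
    (hc : Nat.card (centralizer ({x} : Set G)) = 9 ∨ Nat.card (centralizer ({x} : Set G)) = 18)
    (g : G) (hgC : g ∈ centralizer ({x} : Set G)) (hg : g ^ 9 = 1) : g ∈ (Q : Subgroup G) := by
  have hle := sylow3_le_centralizer h Q x hxQ
  rcases hc with hc | hc
  · have : (Q : Subgroup G) = centralizer ({x} : Set G) := by
      apply Subgroup.eq_of_le_of_card_ge hle
      rw [hc, card_sylow3 h Q]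
    rw [this]
    exact hgC
  · set K := centralizer ({x} : Set G) with hK
    have hidx : ((Q : Subgroup G).subgroupOf K).index = 2 := by
      have h1 := card_mul_relIndex_of_le hle
      rw [hc, card_sylow3 h Q] at h1
      have : (Q : Subgroup G).relIndex K = 2 := by omega
      exact this
    have hgg : g * g ∈ (Q : Subgroup G) := by
      have := (Subgroup.mul_mem_iff_of_index_two hidx (a := (⟨g, hgC⟩ : K))
        (b := ⟨g, hgC⟩)).2 Iff.rfl
      simpa [Subgroup.mem_subgroupOf] using this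
    have h5 : g = (g * g) ^ 5 := by
      have : (g * g) ^ 5 = g ^ 9 * g := by
        rw [← pow_two, ← pow_mul, pow_succ]
      rw [this, hg, one_mul]
    rw [h5]
    exact (Q : Subgroup G).pow_mem hgg 5

/-- The Sylow `3`-subgroup containing `x` is unique. -/
theorem sylow3_unique (h : Nat.card G = 5472) (Q Q' : Sylow 3 G) (x : G)
    (hxQ : x ∈ (Q : Subgroup G)) (hxQ' : x ∈ (Q' : Subgroup G))
    (hc : Nat.card (centralizer ({x} : Set G)) = 9 ∨ Nat.card (centralizer ({x} : Set G)) = 18) :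
    Q' = Q := by
  apply Sylow.ext
  apply Subgroup.eq_of_le_of_card_ge
  · intro q hq
    exact mem_sylow3_of_mem_centralizer h Q x hxQ hc q (sylow3_le_centralizer h Q' x hxQ' hq)
      (pow_nine_eq_one_of_mem h Q' q hq)
  · rw [card_sylow3 h Q, card_sylow3 h Q']

/-- `x` fixes exactly one coset of `N(Q)`. -/
theorem card_fixedBy_sylow3 (h : Nat.card G = 5472) (Q : Sylow 3 G) (x : G)
    (hxQ : x ∈ (Q : Subgroup G))
    (hc : Nat.card (centralizer ({x} : Set G)) = 9 ∨ Nat.card (centralizer ({x} : Set G)) = 18) :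
    Nat.card (fixedBy (G ⧸ NQ Q) x) = 1 := by
  rw [Nat.card_eq_one_iff_unique]
  have hb : ((1 : G) : G ⧸ NQ Q) ∈ fixedBy (G ⧸ NQ Q) x := by
    rw [mk_mem_fixedBy_iff, inv_one, one_mul, mul_one]
    exact le_normalizer hxQ
  refine ⟨⟨fun a b => ?_⟩, ⟨⟨_, hb⟩⟩⟩
  have key : ∀ a : fixedBy (G ⧸ NQ Q) x, a.1 = ((1 : G) : G ⧸ NQ Q) := by
    rintro ⟨a, ha⟩
    induction a using QuotientGroup.induction_on with
    | H g =>
      rw [mk_mem_fixedBy_iff] at ha
      have h1 : g⁻¹ * x * g ∈ (Q : Subgroup G) := by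
        apply mem_sylow_of_mem_normalizer Q _ _ ha
        apply isPGroup_zpowers_of_pow_nine
        have : (g⁻¹ * x * g) ^ 9 = g⁻¹ * x ^ 9 * g := by
          have := conj_pow (a := g⁻¹) (b := x) (i := 9)
          rw [inv_inv] at this
          exact this
        rw [this, pow_nine_eq_one_of_mem h Q x hxQ]
        group
      have h2 : x ∈ ((g • Q : Sylow 3 G) : Subgroup G) := (mem_smul_sylow_iff Q g x).2 h1
      have h3 : g • Q = Q := sylow3_unique h Q (g • Q) x hxQ h2 hc
      have h4 : g ∈ NQ Q := Sylow.smul_eq_iff_mem_normalizer.1 h3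
      show ((g : G) : G ⧸ NQ Q) = ((1 : G) : G ⧸ NQ Q)
      rw [QuotientGroup.eq]
      simpa using h4
  exact Subtype.ext ((key a).trans (key b).symm)

/-- The conjugates of `x` in `N(Q)` lie in `Q`. -/
theorem card_conj_inter_normalizer3 (Q : Sylow 3 G) (x : G) (hx : orderOf x = 3) :
    Nat.card {g : G // IsConj x g ∧ g ∈ NQ Q} =
      Nat.card {g : G // IsConj x g ∧ g ∈ (Q : Subgroup G)} := by
  apply Nat.card_congr
  apply Equiv.subtypeEquivRight
  intro g
  constructor
  · rintro ⟨hc, hgN⟩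
    refine ⟨hc, mem_sylow_of_mem_normalizer Q g (isPGroup_zpowers_of_orderOf_eq g ?_) hgN⟩
    rw [← hx]
    exact orderOf_eq_of_isConj hc
  · rintro ⟨hc, hgQ⟩
    exact ⟨hc, le_normalizer hgQ⟩

/-- `|N(Q)| = |x^G ∩ Q| * |C(x)|`. -/
theorem card_normalizer3_eq (h : Nat.card G = 5472) (Q : Sylow 3 G) (x : G)
    (hx : orderOf x = 3) (hxQ : x ∈ (Q : Subgroup G))
    (hc : Nat.card (centralizer ({x} : Set G)) = 9 ∨ Nat.card (centralizer ({x} : Set G)) = 18) :
    Nat.card (NQ Q) = Nat.card {g : G // IsConj x g ∧ g ∈ (Q : Subgroup G)} *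
      Nat.card (centralizer ({x} : Set G)) := by
  have hform := card_fixedBy_mul_card_conj (NQ Q) x
  rw [card_fixedBy_sylow3 h Q x hxQ hc, one_mul, card_conj_inter_normalizer3 Q x hx] at hform
  have h2 := card_conj_mul_card_centralizer x
  have h3 := (NQ Q).index_mul_card
  have hpos : 0 < (NQ Q).index := Nat.pos_of_ne_zero Subgroup.index_ne_zero_of_finite
  apply Nat.eq_of_mul_eq_mul_left hpos
  rw [h3, ← h2, hform]
  ring

theorem card_normalizer3_mod (h : Nat.card G = 5472) (Q : Sylow 3 G) :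
    ∃ n : ℕ, n * Nat.card (NQ Q) = 5472 ∧ n % 3 = 1 :=
  ⟨Nat.card (Sylow 3 G), by rw [← h]; exact card_sylow_mul_card_normalizer Q,
    card_sylow_modEq_one 3 G⟩

omit [Finite G] [IsSimpleGroup G] in
theorem isConj_inv_inv {a b : G} (hab : IsConj a b) : IsConj a⁻¹ b⁻¹ := by
  obtain ⟨c, hc⟩ := isConj_iff.1 hab
  exact isConj_iff.2 ⟨c, by rw [← hc]; group⟩

omit [Finite G] [IsSimpleGroup G] in
theorem isConj_inv_of_isConj {a b : G} (hab : IsConj a b) (hb : IsConj b b⁻¹) : IsConj a a⁻¹ :=
  (hab.trans hb).trans (isConj_inv_inv hab).symm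

/-- Counting the conjugates of `x` inside `Q`. -/
theorem conj_inter_sylow3 (h : Nat.card G = 5472) (Q : Sylow 3 G) (x : G) (hx1 : x ≠ 1) :
    Nat.card {g : G // IsConj x g ∧ g ∈ (Q : Subgroup G)} ≤ 8 ∧
    (Nat.card {g : G // IsConj x g ∧ g ∈ (Q : Subgroup G)} = 8 →
      ∀ r ∈ (Q : Subgroup G), r ≠ 1 → IsConj x r) ∧
    (¬ IsConj x x⁻¹ → 2 * Nat.card {g : G // IsConj x g ∧ g ∈ (Q : Subgroup G)} ≤ 8 ∧
      (Nat.card {g : G // IsConj x g ∧ g ∈ (Q : Subgroup G)} = 4 →
        ∀ r ∈ (Q : Subgroup G), r ≠ 1 → IsConj x r ∨ IsConj x r⁻¹)) := by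
  classical
  have := Fintype.ofFinite G
  set QS : Finset G := Finset.univ.filter (fun g : G => g ∈ (Q : Subgroup G)) with hQS
  have hQScard : QS.card = 9 := by
    rw [← card_sylow3 h Q, Nat.card_eq_fintype_card, Fintype.card_subtype]
  set A : Finset G := Finset.univ.filter (fun g : G => IsConj x g ∧ g ∈ (Q : Subgroup G)) with hA
  have hAcard : Nat.card {g : G // IsConj x g ∧ g ∈ (Q : Subgroup G)} = A.card := by
    rw [Nat.card_eq_fintype_card, Fintype.card_subtype]
  have h1Q : (1 : G) ∈ QS := by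
    rw [hQS, Finset.mem_filter]
    exact ⟨Finset.mem_univ _, (Q : Subgroup G).one_mem⟩
  have hE : (QS.erase 1).card = 8 := by
    rw [Finset.card_erase_of_mem h1Q, hQScard]
  have hAsub : A ⊆ QS.erase 1 := by
    intro g hg
    rw [hA, Finset.mem_filter] at hg
    rw [Finset.mem_erase, hQS, Finset.mem_filter]
    refine ⟨?_, Finset.mem_univ _, hg.2.2⟩
    rintro rfl
    exact hx1 (isConj_one_right.1 hg.2.1.symm)
  rw [hAcard]
  refine ⟨?_, ?_, ?_⟩
  · rw [← hE]
    exact Finset.card_le_card hAsub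
  · intro h8 r hr hr1
    have hAE : A = QS.erase 1 := Finset.eq_of_subset_of_card_le hAsub (by rw [hE, h8])
    have : r ∈ A := by
      rw [hAE, Finset.mem_erase, hQS, Finset.mem_filter]
      exact ⟨hr1, Finset.mem_univ _, hr⟩
    rw [hA, Finset.mem_filter] at this
    exact this.2.1
  · intro hne
    set B : Finset G := A.image (fun g => g⁻¹) with hB
    have hBcard : B.card = A.card := Finset.card_image_of_injective _ inv_injective
    have hBsub : B ⊆ QS.erase 1 := by
      intro g hg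
      rw [hB, Finset.mem_image] at hg
      obtain ⟨g', hg', rfl⟩ := hg
      have := hAsub hg'
      rw [Finset.mem_erase, hQS, Finset.mem_filter] at this ⊢
      exact ⟨inv_ne_one.2 this.1, Finset.mem_univ _, (Q : Subgroup G).inv_mem this.2.2⟩
    have hdisj : Disjoint A B := by
      rw [Finset.disjoint_left]
      intro g hgA hgB
      rw [hB, Finset.mem_image] at hgB
      obtain ⟨g', hg', rfl⟩ := hgB
      rw [hA, Finset.mem_filter] at hgA hg'
      -- `x ~ g'⁻¹` and `x ~ g'`
      apply hne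
      exact hgA.2.1.trans (isConj_inv_inv hg'.2.1).symm
    have hunion : A ∪ B ⊆ QS.erase 1 := Finset.union_subset hAsub hBsub
    have hcard : (A ∪ B).card = 2 * A.card := by
      rw [Finset.card_union_of_disjoint hdisj, hBcard]
      ring
    refine ⟨?_, ?_⟩
    · rw [← hcard, ← hE]
      exact Finset.card_le_card hunion
    · intro h4 r hr hr1
      have hAE : A ∪ B = QS.erase 1 :=
        Finset.eq_of_subset_of_card_le hunion (by rw [hE, hcard, h4])
      have : r ∈ A ∪ B := by
        rw [hAE, Finset.mem_erase, hQS, Finset.mem_filter]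
        exact ⟨hr1, Finset.mem_univ _, hr⟩
      rcases Finset.mem_union.1 this with hrA | hrB
      · left
        rw [hA, Finset.mem_filter] at hrA
        exact hrA.2.1
      · right
        rw [hB, Finset.mem_image] at hrB
        obtain ⟨g', hg', rfl⟩ := hrB
        rw [hA, Finset.mem_filter] at hg'
        rw [inv_inv]
        exact hg'.2.1

/-- An element of `N(Q)` outside `Q` exists when `|N(Q)| > 9`. -/
theorem exists_mem_normalizer3_not_mem (h : Nat.card G = 5472) (Q : Sylow 3 G)
    (hN : 9 < Nat.card (NQ Q)) : ∃ s ∈ NQ Q, s ∉ (Q : Subgroup G) := by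
  by_contra hall
  push Not at hall
  have hle : NQ Q ≤ (Q : Subgroup G) := hall
  have := Subgroup.card_le_of_le hle
  rw [card_sylow3 h Q] at this
  omega

/-- Elements of order `3` with centralizer of order `9` or `18` are conjugate to their inverses. -/
theorem isConj_inv (h : Nat.card G = 5472) (x : G) (hx : orderOf x = 3)
    (hc : Nat.card (centralizer ({x} : Set G)) = 9 ∨ Nat.card (centralizer ({x} : Set G)) = 18) :
    IsConj x x⁻¹ := by
  by_contra hne
  have hG := not_comm h
  obtain ⟨Q, hxQ⟩ := exists_sylow_mem_of_orderOf_eq x hx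
  have hx1 := ne_one_of_orderOf_three hx
  have hN := card_normalizer3_eq h Q x hx hxQ hc
  obtain ⟨-, -, hcount⟩ := conj_inter_sylow3 h Q x hx1
  obtain ⟨hm, hm4⟩ := hcount hne
  obtain ⟨n, hn, hn3⟩ := card_normalizer3_mod h Q
  haveI : IsMulCommutative (Q : Subgroup G) :=
    ⟨⟨fun a b => Subtype.ext (sylow3_comm h Q a b a.2 b.2)⟩⟩
  -- the case `|N(Q)| = 18`
  have case18 : Nat.card (NQ Q) = 18 → False := by
    intro h18
    obtain ⟨s, hsN, hsQ⟩ := exists_mem_normalizer3_not_mem h Q (by rw [h18]; norm_num)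
    have hinv := conj_eq_inv_of_card_normalizer_eq_two_mul hG Q
      (by rw [card_sylow3 h Q]; exact h18) hsN hsQ hxQ
    exact hne (isConj_iff.2 ⟨s, hinv⟩)
  -- the case `|N(Q)| = 72`
  have case72 : Nat.card (NQ Q) = 72 →
      Nat.card {g : G // IsConj x g ∧ g ∈ (Q : Subgroup G)} = 4 → False := by
    intro h72 h4
    have hodd : ∀ n ∈ normalizer ((Q : Subgroup G) : Set G), Odd (orderOf n) →
        n ∈ centralizer ((Q : Subgroup G) : Set G) := by
      intro n hnN hodd
      have h1 : orderOf n ∣ 8 * 9 := by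
        have := Subgroup.orderOf_dvd_natCard _ hnN
        have h72' : Nat.card (normalizer ((Q : Subgroup G) : Set G)) = 72 := h72
        rw [h72'] at this
        exact this
      have hcop : Nat.Coprime (orderOf n) 8 := by
        have : Nat.Coprime (orderOf n) 2 := Nat.coprime_two_right.2 hodd
        exact Nat.Coprime.pow_right 3 this
      have h9 : orderOf n ∣ 9 := hcop.dvd_of_dvd_mul_left h1
      have hn9 : n ^ 9 = 1 := orderOf_dvd_iff_pow_eq_one.1 h9
      have hnQ : n ∈ (Q : Subgroup G) :=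
        mem_sylow_of_mem_normalizer Q n (isPGroup_zpowers_of_pow_nine n hn9) hnN
      rw [Subgroup.mem_centralizer_iff]
      intro q hq
      exact sylow3_comm h Q q n hq hnQ
    obtain ⟨n', -, r, hrQ, hr1, hnr⟩ := exists_inverted_of_odd_mem_centralizer hG Q
      (by rw [h]; norm_num) hodd
    have hrr : IsConj r r⁻¹ := isConj_iff.2 ⟨n', hnr⟩
    rcases hm4 h4 r hrQ hr1 with hxr | hxr
    · exact hne (isConj_inv_of_isConj hxr hrr)
    · apply hne
      apply isConj_inv_of_isConj hxr
      rw [inv_inv]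
      exact hrr.symm
  have hmpos : 1 ≤ Nat.card {g : G // IsConj x g ∧ g ∈ (Q : Subgroup G)} := by
    have : Nonempty {g : G // IsConj x g ∧ g ∈ (Q : Subgroup G)} := ⟨⟨x, IsConj.refl x, hxQ⟩⟩
    exact Nat.card_pos
  generalize Nat.card {g : G // IsConj x g ∧ g ∈ (Q : Subgroup G)} = m at *
  rcases hc with hc | hc
  · rw [hc] at hN
    have hm' : m ≤ 4 := by omega
    interval_cases m
    · rw [hN] at hn; omega
    · exact case18 (by rw [hN])
    · rw [hN] at hn; omega
    · rw [hN] at hn; omega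
  · rw [hc] at hN
    have hm' : m ≤ 4 := by omega
    interval_cases m
    · exact case18 (by rw [hN])
    · rw [hN] at hn; omega
    · rw [hN] at hn; omega
    · exact case72 (by rw [hN]) rfl

/-- When `|C(x)| = 9`, the normalizer of the Sylow `3`-subgroup `Q ∋ x` has order `18`, or it has
order `72` and all non-identity elements of `Q` are conjugate to `x`. -/
theorem card_normalizer3_cases (h : Nat.card G = 5472) (Q : Sylow 3 G) (x : G)
    (hx : orderOf x = 3) (hxQ : x ∈ (Q : Subgroup G))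
    (hc : Nat.card (centralizer ({x} : Set G)) = 9) :
    Nat.card (NQ Q) = 18 ∨
      (Nat.card (NQ Q) = 72 ∧ ∀ r ∈ (Q : Subgroup G), r ≠ 1 → IsConj x r) := by
  have hx1 := ne_one_of_orderOf_three hx
  have hN := card_normalizer3_eq h Q x hx hxQ (Or.inl hc)
  obtain ⟨hm8, hall, -⟩ := conj_inter_sylow3 h Q x hx1
  obtain ⟨n, hn, hn3⟩ := card_normalizer3_mod h Q
  have hmpos : 1 ≤ Nat.card {g : G // IsConj x g ∧ g ∈ (Q : Subgroup G)} := by
    have : Nonempty {g : G // IsConj x g ∧ g ∈ (Q : Subgroup G)} := ⟨⟨x, IsConj.refl x, hxQ⟩⟩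
    exact Nat.card_pos
  generalize Nat.card {g : G // IsConj x g ∧ g ∈ (Q : Subgroup G)} = m at *
  rw [hc] at hN
  rw [hN] at hn
  interval_cases m
  · omega
  · left; rw [hN]
  · omega
  · omega
  · omega
  · omega
  · omega
  · right; exact ⟨by rw [hN], hall rfl⟩

end Cfsg.Agent.Lib.Helper17.Simple5472
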