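import Mathlib
import Cfsg.Agent.Lib.Helper17.Simple5472c
import Cfsg.Agent.Lib.Helper17.OrderCount

set_option autoImplicit false

/-!
# Simple groups of order 5472: the design on the cosets of `N(P₁₉)`
-/

namespace Cfsg.Agent.Lib.Helper17.Simple5472

open MulAction Subgroup

attribute [local instance] fact19 fact3 fact2

variable {G : Type*} [Group G] [Finite G] [IsSimpleGroup G]

omit [Finite G] [IsSimpleGroup G] in
/-- Conjugate elements have the same number of fixed points. -/
theorem card_fixedBy_conj {α : Type*} [MulAction G α] (g x : G) :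
    Nat.card (fixedBy α (g * x * g⁻¹)) = Nat.card (fixedBy α x) := by
  apply Nat.card_congr
  refine
    { toFun := fun q => ⟨g⁻¹ • q.1, ?_⟩
      invFun := fun q => ⟨g • q.1, ?_⟩
      left_inv := fun q => Subtype.ext (smul_inv_smul g q.1)
      right_inv := fun q => Subtype.ext (inv_smul_smul g q.1) }
  · have h1 := q.2
    rw [mem_fixedBy] at h1 ⊢
    calc x • g⁻¹ • q.1 = (g⁻¹ * (g * x * g⁻¹)) • q.1 := by
          rw [← mul_smul]
          congr 1
          group
      _ = g⁻¹ • ((g * x * g⁻¹) • q.1) := mul_smul _ _ _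
      _ = g⁻¹ • q.1 := by rw [h1]
  · have h1 := q.2
    rw [mem_fixedBy] at h1 ⊢
    rw [← mul_smul]
    have h2 : g * x * g⁻¹ * g = g * x := by group
    rw [h2, mul_smul, h1]

omit [IsSimpleGroup G] in
theorem card_centralizer_eq_of_isConj {a b : G} (hab : IsConj a b) :
    Nat.card (centralizer ({a} : Set G)) = Nat.card (centralizer ({b} : Set G)) := by
  have h1 := card_conj_mul_card_centralizer a
  have h2 := card_conj_mul_card_centralizer b
  have h3 : Nat.card {y : G // IsConj a y} = Nat.card {y : G // IsConj b y} := by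
    apply Nat.card_congr
    apply Equiv.subtypeEquivRight
    intro y
    exact ⟨fun hy => hab.symm.trans hy, fun hy => hab.trans hy⟩
  have hpos : 0 < Nat.card {y : G // IsConj b y} := by
    have : Nonempty {y : G // IsConj b y} := ⟨⟨b, IsConj.refl b⟩⟩
    exact Nat.card_pos
  rw [h3, ← h2] at h1
  exact Nat.eq_of_mul_eq_mul_left hpos h1

omit [IsSimpleGroup G] in
/-- Removing the base point from the fixed points. -/
theorem card_fixed_ne_base (N : Subgroup G) (u : G) (hu : u ∈ N) :
    Nat.card {q : G ⧸ N // q ≠ ((1 : G) : G ⧸ N) ∧ u • q = q} + 1 =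
      Nat.card (fixedBy (G ⧸ N) u) := by
  classical
  have := Fintype.ofFinite (G ⧸ N)
  have e1 : Nat.card {q : G ⧸ N // q ≠ ((1 : G) : G ⧸ N) ∧ u • q = q} =
      (Finset.univ.filter (fun q : G ⧸ N => q ≠ ((1 : G) : G ⧸ N) ∧ u • q = q)).card := by
    rw [Nat.card_eq_fintype_card, Fintype.card_subtype]
  have e2 : Nat.card (fixedBy (G ⧸ N) u) =
      (Finset.univ.filter (fun q : G ⧸ N => u • q = q)).card := by
    rw [Nat.card_eq_fintype_card]
    exact Fintype.card_subtype _
  have e3 : Finset.univ.filter (fun q : G ⧸ N => q ≠ ((1 : G) : G ⧸ N) ∧ u • q = q) =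
      (Finset.univ.filter (fun q : G ⧸ N => u • q = q)).erase ((1 : G) : G ⧸ N) := by
    ext q
    simp only [Finset.mem_filter, Finset.mem_univ, true_and, Finset.mem_erase]
  have hb : ((1 : G) : G ⧸ N) ∈ Finset.univ.filter (fun q : G ⧸ N => u • q = q) := by
    rw [Finset.mem_filter]
    exact ⟨Finset.mem_univ _, (smul_base_eq_iff N u).2 hu⟩
  rw [e1, e2, e3, Finset.card_erase_of_mem hb]
  have : 0 < (Finset.univ.filter (fun q : G ⧸ N => u • q = q)).card := Finset.card_pos.2 ⟨_, hb⟩
  omega

/-- `x⁻¹` is not a `P`-conjugate of `x`. -/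
theorem inv_ne_conj (h : Nat.card G = 5472) (P : Sylow 19 G) (x : G)
    (hxN : x ∈ NP P) (hx : orderOf x = 3) (y : G) (hy : y ∈ (P : Subgroup G)) :
    y * x * y⁻¹ ≠ x⁻¹ := by
  intro heq
  have h1 : x * y⁻¹ * x⁻¹ ∈ (P : Subgroup G) :=
    (Subgroup.mem_normalizer_iff.1 hxN y⁻¹).1 ((P : Subgroup G).inv_mem hy)
  have h2 : y * (x * y⁻¹ * x⁻¹) ∈ (P : Subgroup G) := (P : Subgroup G).mul_mem hy h1
  have h3 : y * (x * y⁻¹ * x⁻¹) = x := by
    have : y * (x * y⁻¹ * x⁻¹) = (y * x * y⁻¹) * x⁻¹ := by group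
    rw [this, heq]
    have h3 := pow_three_eq_one hx
    calc x⁻¹ * x⁻¹ = x⁻¹ * x⁻¹ * x ^ 3 := by rw [h3, mul_one]
      _ = x := by group
  rw [h3] at h2
  exact not_mem_sylow_of_orderOf_three h P x hx h2

/-- Once `x` is conjugate to its inverse, the configuration is determined. -/
theorem config (h : Nat.card G = 5472) (P : Sylow 19 G) (x : G)
    (hxN : x ∈ NP P) (hx : orderOf x = 3) :
    Nat.card (fixedBy (G ⧸ NP P) x) = 6 ∧ Nat.card {g : G // IsConj x g ∧ g ∈ NP P} = 38 ∧
      Nat.card (centralizer ({x} : Set G)) = 9 := by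
  have hcases := card_cases h P x hxN hx
  have hc : Nat.card (centralizer ({x} : Set G)) = 9 ∨
      Nat.card (centralizer ({x} : Set G)) = 18 := by
    rcases hcases with h1 | h1 | h1
    · exact Or.inl h1.2.2
    · exact Or.inr h1.2.2
    · exact Or.inl h1.2.2
  have hinv := isConj_inv h x hx hc
  have h20 : 20 ≤ Nat.card {g : G // IsConj x g ∧ g ∈ NP P} := by
    let φ : Option ↥(P : Subgroup G) → {g : G // IsConj x g ∧ g ∈ NP P} := fun o =>
      match o with
      | none => ⟨x⁻¹, hinv, (NP P).inv_mem hxN⟩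
      | some y => ⟨(y : G) * x * (y : G)⁻¹, isConj_iff.2 ⟨y, rfl⟩,
          (NP P).mul_mem ((NP P).mul_mem (le_normalizer y.2) hxN)
            ((NP P).inv_mem (le_normalizer y.2))⟩
    have hφ : Function.Injective φ := by
      intro o o' hoo
      have h1 : (φ o).1 = (φ o').1 := congrArg Subtype.val hoo
      match o, o', h1 with
      | none, none, _ => rfl
      | none, some y, h1 =>
        exact absurd h1.symm (inv_ne_conj h P x hxN hx y.1 y.2)
      | some y, none, h1 =>
        exact absurd h1 (inv_ne_conj h P x hxN hx y.1 y.2)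
      | some y, some y', h1 =>
        exact congrArg some (Subtype.ext (conj_injective h P x hx _ _ y.2 y'.2 h1))
    have := Nat.card_le_card_of_injective φ hφ
    rwa [Finite.card_option, card_sylow19 h P] at this
  rcases hcases with h1 | h1 | h1
  · omega
  · omega
  · exact h1

/-- Every element of `N(P) \ P` is conjugate to `x`. -/
theorem isConj_of_mem_diff (h : Nat.card G = 5472) (P : Sylow 19 G) (x : G)
    (hxN : x ∈ NP P) (hx : orderOf x = 3) (u : G) (huN : u ∈ NP P)
    (huP : u ∉ (P : Subgroup G)) : IsConj x u := by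
  let φ : {g : G // IsConj x g ∧ g ∈ NP P} → {u : G // u ∈ NP P ∧ u ∉ (P : Subgroup G)} :=
    fun g => ⟨g.1, g.2.2, not_mem_sylow_of_orderOf_three h P g.1
      (by rw [← hx]; exact orderOf_eq_of_isConj g.2.1)⟩
  have hφ : Function.Injective φ := by
    intro g g' hgg
    have h1 : (φ g).1 = (φ g').1 := congrArg Subtype.val hgg
    exact Subtype.ext h1
  have hbij : Function.Bijective φ := by
    apply hφ.bijective_of_nat_card_le
    rw [card_normalizer_diff h P, (config h P x hxN hx).2.1]
  obtain ⟨g, hg⟩ := hbij.2 ⟨u, huN, huP⟩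
  have h1 : g.1 = u := congrArg Subtype.val hg
  rw [← h1]
  exact g.2.1

theorem orderOf_of_isConj {x u : G} (hx : orderOf x = 3) (hu : IsConj x u) : orderOf u = 3 := by
  rw [← hx]; exact orderOf_eq_of_isConj hu

theorem card_centralizer_of_isConj (h : Nat.card G = 5472) (P : Sylow 19 G) (x : G)
    (hxN : x ∈ NP P) (hx : orderOf x = 3) (u : G) (hu : IsConj x u) :
    Nat.card (centralizer ({u} : Set G)) = 9 := by
  rw [← card_centralizer_eq_of_isConj hu]
  exact (config h P x hxN hx).2.2

theorem card_fixedBy_of_isConj (h : Nat.card G = 5472) (P : Sylow 19 G) (x : G)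
    (hxN : x ∈ NP P) (hx : orderOf x = 3) (u : G) (hu : IsConj x u) :
    Nat.card (fixedBy (G ⧸ NP P) u) = 6 := by
  obtain ⟨g, rfl⟩ := isConj_iff.1 hu
  rw [card_fixedBy_conj]
  exact (config h P x hxN hx).1

/-- The stabilizer in `N(P)` of a non-base point has at most `3` elements. -/
theorem card_stabilizer_le (h : Nat.card G = 5472) (P : Sylow 19 G) (x : G)
    (hxN : x ∈ NP P) (hx : orderOf x = 3) (β : G ⧸ NP P) (hβ : β ≠ ((1 : G) : G ⧸ NP P)) :
    Nat.card (stabilizer G β ⊓ NP P : Subgroup G) ≤ 3 := by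
  set S : Subgroup G := stabilizer G β ⊓ NP P with hS
  have hp : IsPGroup 3 S := by
    intro g
    have hg : g.1 ∈ stabilizer G β ⊓ NP P := g.2
    rw [Subgroup.mem_inf, mem_stabilizer_iff] at hg
    by_cases hgP : g.1 ∈ (P : Subgroup G)
    · refine ⟨0, ?_⟩
      have : g.1 = 1 := by
        by_contra h1
        exact hβ (eq_base_of_smul_eq h P g.1 hgP h1 β hg.1)
      apply Subtype.ext
      rw [pow_zero, pow_one]
      exact this
    · refine ⟨1, ?_⟩
      have ho := orderOf_of_isConj hx (isConj_of_mem_diff h P x hxN hx g.1 hg.2 hgP)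
      apply Subtype.ext
      rw [pow_one]
      push_cast
      exact pow_three_eq_one ho
  obtain ⟨k, hk⟩ := IsPGroup.iff_card.1 hp
  have hdvd : Nat.card S ∣ 57 := by
    have h57 : Nat.card (NP P) = 57 := card_normalizer19 h P
    rw [← h57]
    exact Subgroup.card_dvd_of_le inf_le_right
  rw [hk] at hdvd ⊢
  have hk1 : k ≤ 1 := by
    by_contra hk2
    push Not at hk2
    have h9 : 3 ^ 2 ∣ 3 ^ k := pow_dvd_pow 3 hk2
    have := h9.trans hdvd
    norm_num at this
  interval_cases k <;> norm_num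

/-- At most two elements of `N(P) \ P` fix a given non-base point. -/
theorem card_fix_le (h : Nat.card G = 5472) (P : Sylow 19 G) (x : G)
    (hxN : x ∈ NP P) (hx : orderOf x = 3) (β : G ⧸ NP P) (hβ : β ≠ ((1 : G) : G ⧸ NP P)) :
    Nat.card {u : G // (u ∈ NP P ∧ u ∉ (P : Subgroup G)) ∧ u • β = β} ≤ 2 := by
  set S : Subgroup G := stabilizer G β ⊓ NP P with hS
  have h1 := card_subgroup_ne_one S
  have h2 := card_stabilizer_le h P x hxN hx β hβ
  let φ : {u : G // (u ∈ NP P ∧ u ∉ (P : Subgroup G)) ∧ u • β = β} →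
      {g : G // g ∈ S ∧ g ≠ 1} := fun u =>
    ⟨u.1, by
      rw [hS, Subgroup.mem_inf, mem_stabilizer_iff]
      exact ⟨u.2.2, u.2.1.1⟩, by
      rintro h1
      apply u.2.1.2
      rw [h1]
      exact (P : Subgroup G).one_mem⟩
  have hφ : Function.Injective φ := by
    intro u u' huu
    have h1 : (φ u).1 = (φ u').1 := congrArg Subtype.val huu
    exact Subtype.ext h1
  have h3 := Nat.card_le_card_of_injective φ hφ
  rw [h1] at h3
  have h4 : Nat.card S ≤ 3 := h2
  omega

/-- Exactly two elements of `N(P) \ P` fix a given non-base point. -/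
theorem card_fix_eq (h : Nat.card G = 5472) (P : Sylow 19 G) (x : G)
    (hxN : x ∈ NP P) (hx : orderOf x = 3) (β : G ⧸ NP P) (hβ : β ≠ ((1 : G) : G ⧸ NP P)) :
    Nat.card {u : G // (u ∈ NP P ∧ u ∉ (P : Subgroup G)) ∧ u • β = β} = 2 := by
  classical
  have := Fintype.ofFinite G
  have := Fintype.ofFinite (G ⧸ NP P)
  set base : G ⧸ NP P := ((1 : G) : G ⧸ NP P) with hbase
  set U : Finset G := Finset.univ.filter (fun u : G => u ∈ NP P ∧ u ∉ (P : Subgroup G)) with hU
  have hUcard : U.card = 38 := by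
    rw [← card_normalizer_diff h P, Nat.card_eq_fintype_card, Fintype.card_subtype]
  set Ω' : Finset (G ⧸ NP P) := Finset.univ.erase base with hΩ'
  have hΩ'card : Ω'.card = 95 := by
    rw [hΩ', Finset.card_erase_of_mem (Finset.mem_univ _), Finset.card_univ,
      ← Nat.card_eq_fintype_card, card_quotient19 h P]
  have hdc := Finset.sum_card_bipartiteAbove_eq_sum_card_bipartiteBelow
    (fun (u : G) (q : G ⧸ NP P) => u • q = q) (s := U) (t := Ω')
  have hleft : ∀ u ∈ U, (Ω'.bipartiteAbove (fun (u : G) (q : G ⧸ NP P) => u • q = q) u).card = 5 := by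
    intro u hu
    rw [hU, Finset.mem_filter] at hu
    have e : Ω'.bipartiteAbove (fun (u : G) (q : G ⧸ NP P) => u • q = q) u =
        Finset.univ.filter (fun q : G ⧸ NP P => q ≠ base ∧ u • q = q) := by
      ext q
      simp only [Finset.bipartiteAbove, hΩ', Finset.mem_filter, Finset.mem_erase, Finset.mem_univ,
        true_and, and_true]
    rw [e]
    have h1 : Nat.card {q : G ⧸ NP P // q ≠ base ∧ u • q = q} + 1 =
        Nat.card (fixedBy (G ⧸ NP P) u) := card_fixed_ne_base (NP P) u hu.2.1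
    have h2 := card_fixedBy_of_isConj h P x hxN hx u
      (isConj_of_mem_diff h P x hxN hx u hu.2.1 hu.2.2)
    rw [h2] at h1
    have h3 : Nat.card {q : G ⧸ NP P // q ≠ base ∧ u • q = q} =
        (Finset.univ.filter (fun q : G ⧸ NP P => q ≠ base ∧ u • q = q)).card := by
      rw [Nat.card_eq_fintype_card, Fintype.card_subtype]
    rw [← h3]
    omega
  have hright : ∀ q ∈ Ω',
      (U.bipartiteBelow (fun (u : G) (q : G ⧸ NP P) => u • q = q) q).card ≤ 2 := by
    intro q hq
    rw [hΩ', Finset.mem_erase] at hq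
    have h1 := card_fix_le h P x hxN hx q hq.1
    have e : U.bipartiteBelow (fun (u : G) (q : G ⧸ NP P) => u • q = q) q =
        Finset.univ.filter
          (fun u : G => (u ∈ NP P ∧ u ∉ (P : Subgroup G)) ∧ u • q = q) := by
      ext u
      simp only [Finset.bipartiteBelow, hU, Finset.mem_filter, Finset.mem_univ, true_and]
    rw [e]
    have h3 : Nat.card {u : G // (u ∈ NP P ∧ u ∉ (P : Subgroup G)) ∧ u • q = q} =
        (Finset.univ.filter
          (fun u : G => (u ∈ NP P ∧ u ∉ (P : Subgroup G)) ∧ u • q = q)).card := by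
      rw [Nat.card_eq_fintype_card, Fintype.card_subtype]
    rw [← h3]
    exact h1
  have hsum : ∑ q ∈ Ω', (U.bipartiteBelow (fun (u : G) (q : G ⧸ NP P) => u • q = q) q).card =
      ∑ _q ∈ Ω', 2 := by
    rw [← hdc, Finset.sum_congr rfl hleft, Finset.sum_const, Finset.sum_const, hUcard, hΩ'card]
    rfl
  have hall := (Finset.sum_eq_sum_iff_of_le hright).1 hsum
  have hβ' : β ∈ Ω' := by
    rw [hΩ', Finset.mem_erase]
    exact ⟨hβ, Finset.mem_univ _⟩
  have h2 := hall β hβ'
  have e : U.bipartiteBelow (fun (u : G) (q : G ⧸ NP P) => u • q = q) β =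
      Finset.univ.filter
        (fun u : G => (u ∈ NP P ∧ u ∉ (P : Subgroup G)) ∧ u • β = β) := by
    ext u
    simp only [Finset.bipartiteBelow, hU, Finset.mem_filter, Finset.mem_univ, true_and]
  rw [e] at h2
  rw [Nat.card_eq_fintype_card, Fintype.card_subtype]
  exact h2

end Cfsg.Agent.Lib.Helper17.Simple5472
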