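import Mathlib
import Cfsg.Agent.Lib.Helper17.Simple5472d

set_option autoImplicit false

/-!
# Simple groups of order 5472: involutions and the elements they invert
-/

namespace Cfsg.Agent.Lib.Helper17.Simple5472

open MulAction Subgroup

attribute [local instance] fact19 fact3 fact2

variable {G : Type*} [Group G] [Finite G] [IsSimpleGroup G]

theorem not_mem_normalizer_of_orderOf_two (h : Nat.card G = 5472) (P : Sylow 19 G) (z : G)
    (hz : orderOf z = 2) : z ∉ NP P := by
  intro hzN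
  have := Subgroup.orderOf_dvd_natCard _ hzN
  have h57 : Nat.card (NP P) = 57 := card_normalizer19 h P
  rw [hz, h57] at this
  revert this
  decide

omit [Finite G] [IsSimpleGroup G] in
theorem mul_self_of_orderOf_two {z : G} (hz : orderOf z = 2) : z * z = 1 := by
  rw [← pow_two, ← hz]; exact pow_orderOf_eq_one z

omit [Finite G] [IsSimpleGroup G] in
theorem inv_eq_self_of_orderOf_two {z : G} (hz : orderOf z = 2) : z⁻¹ = z :=
  inv_eq_of_mul_eq_one_right (mul_self_of_orderOf_two hz)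

theorem inv_ne_self_of_orderOf_three {u : G} (hu : orderOf u = 3) : u⁻¹ ≠ u := by
  intro h1
  have h2 : u * u = 1 := by
    calc u * u = u⁻¹ * u := by rw [h1]
      _ = 1 := inv_mul_cancel u
  have h3 := pow_three_eq_one hu
  have : u = 1 := by
    calc u = (u * u)⁻¹ * u ^ 3 := by group
      _ = 1 := by rw [h2, h3]; group
  exact ne_one_of_orderOf_three hu this

/-- No involution centralizes a conjugate of `x`. -/
theorem not_commute_involution (h : Nat.card G = 5472) (P : Sylow 19 G) (x : G)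
    (hxN : x ∈ NP P) (hx : orderOf x = 3) (u : G) (hu : IsConj x u) (z : G)
    (hz : orderOf z = 2) : z * u ≠ u * z := by
  intro hcomm
  have hzC : z ∈ centralizer ({u} : Set G) := by
    rw [Subgroup.mem_centralizer_singleton_iff]
    exact hcomm
  have := Subgroup.orderOf_dvd_natCard _ hzC
  rw [hz, card_centralizer_of_isConj h P x hxN hx u hu] at this
  revert this
  decide

/-- An involution `z` inverts the elements of `N(P) \\ P` fixing `z • base`. -/
theorem conj_eq_inv_of_fix (h : Nat.card G = 5472) (P : Sylow 19 G) (x : G)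
    (hxN : x ∈ NP P) (hx : orderOf x = 3) (z : G) (hz : orderOf z = 2) (u : G)
    (huN : u ∈ NP P) (huP : u ∉ (P : Subgroup G))
    (hfix : u • (z • ((1 : G) : G ⧸ NP P)) = z • ((1 : G) : G ⧸ NP P)) :
    z * u * z⁻¹ = u⁻¹ := by
  have hzz := mul_self_of_orderOf_two hz
  have hzinv := inv_eq_self_of_orderOf_two hz
  have hzN := not_mem_normalizer_of_orderOf_two h P z hz
  have hconj := isConj_of_mem_diff h P x hxN hx u huN huP
  have huo := orderOf_of_isConj hx hconj
  have hβ : z • ((1 : G) : G ⧸ NP P) ≠ ((1 : G) : G ⧸ NP P) := by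
    intro h1
    exact hzN ((smul_base_eq_iff (NP P) z).1 h1)
  have hub : u • ((1 : G) : G ⧸ NP P) = ((1 : G) : G ⧸ NP P) := (smul_base_eq_iff (NP P) u).2 huN
  -- `v = z u z⁻¹` fixes the base point and `z • base`
  have hvβ : (z * u * z⁻¹) • (z • ((1 : G) : G ⧸ NP P)) = z • ((1 : G) : G ⧸ NP P) := by
    rw [← mul_smul]
    have : z * u * z⁻¹ * z = z * u := by group
    rw [this, mul_smul, hub]
  have hvb : (z * u * z⁻¹) • ((1 : G) : G ⧸ NP P) = ((1 : G) : G ⧸ NP P) := by
    rw [hzinv, mul_smul, mul_smul, hfix, ← mul_smul, hzz, one_smul]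
  have hvN : z * u * z⁻¹ ∈ NP P := (smul_base_eq_iff (NP P) _).1 hvb
  have hvo : orderOf (z * u * z⁻¹) = 3 := by rw [orderOf_conj_eq, huo]
  have hvP : z * u * z⁻¹ ∉ (P : Subgroup G) := not_mem_sylow_of_orderOf_three h P _ hvo
  have huinvN : u⁻¹ ∈ NP P := (NP P).inv_mem huN
  have huinvP : u⁻¹ ∉ (P : Subgroup G) := fun h1 => huP (by simpa using (P : Subgroup G).inv_mem h1)
  have huinvβ : u⁻¹ • (z • ((1 : G) : G ⧸ NP P)) = z • ((1 : G) : G ⧸ NP P) := by
    calc u⁻¹ • (z • ((1 : G) : G ⧸ NP P)) = u⁻¹ • (u • (z • ((1 : G) : G ⧸ NP P))) := by rw [hfix]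
      _ = z • ((1 : G) : G ⧸ NP P) := inv_smul_smul u _
  have h2 := card_fix_eq h P x hxN hx _ hβ
  obtain ⟨y, -, hyuniq⟩ := (Nat.card_eq_two_iff'
    (⟨u, ⟨huN, huP⟩, hfix⟩ : {u : G // (u ∈ NP P ∧ u ∉ (P : Subgroup G)) ∧
      u • (z • ((1 : G) : G ⧸ NP P)) = z • ((1 : G) : G ⧸ NP P)})).1 h2
  have e1 := hyuniq ⟨u⁻¹, ⟨huinvN, huinvP⟩, huinvβ⟩ (by
    intro h1
    exact inv_ne_self_of_orderOf_three huo (congrArg Subtype.val h1))
  have e2 := hyuniq ⟨z * u * z⁻¹, ⟨hvN, hvP⟩, hvβ⟩ (by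
    intro h1
    have h3 : z * u * z⁻¹ = u := congrArg Subtype.val h1
    apply not_commute_involution h P x hxN hx u hconj z hz
    calc z * u = (z * u * z⁻¹) * z := by group
      _ = u * z := by rw [h3])
  exact congrArg Subtype.val (e2.trans e1.symm)

/-- Exactly two conjugates of `x` inverted by the involution `z` fix the base point. -/
theorem card_inverted_fix_base (h : Nat.card G = 5472) (P : Sylow 19 G) (x : G)
    (hxN : x ∈ NP P) (hx : orderOf x = 3) (z : G) (hz : orderOf z = 2) :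
    Nat.card {u : G // (IsConj x u ∧ z * u * z⁻¹ = u⁻¹) ∧
      u • ((1 : G) : G ⧸ NP P) = ((1 : G) : G ⧸ NP P)} = 2 := by
  have hzz := mul_self_of_orderOf_two hz
  have hzinv := inv_eq_self_of_orderOf_two hz
  have hzN := not_mem_normalizer_of_orderOf_two h P z hz
  have hβ : z • ((1 : G) : G ⧸ NP P) ≠ ((1 : G) : G ⧸ NP P) := by
    intro h1
    exact hzN ((smul_base_eq_iff (NP P) z).1 h1)
  rw [← card_fix_eq h P x hxN hx _ hβ]
  apply Nat.card_congr
  apply Equiv.subtypeEquivRight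
  intro u
  constructor
  · rintro ⟨⟨hconj, hinv⟩, hfix⟩
    have huN : u ∈ NP P := (smul_base_eq_iff (NP P) u).1 hfix
    refine ⟨⟨huN, not_mem_sylow_of_orderOf_three h P u (orderOf_of_isConj hx hconj)⟩, ?_⟩
    have h1 : u * z = z * u⁻¹ := by
      rw [← hinv, hzinv]
      calc u * z = (z * z) * u * z := by rw [hzz, one_mul]
        _ = z * (z * u * z) := by group
    rw [← mul_smul, h1, mul_smul, (smul_base_eq_iff (NP P) u⁻¹).2 ((NP P).inv_mem huN)]
  · rintro ⟨⟨huN, huP⟩, hfix⟩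
    exact ⟨⟨isConj_of_mem_diff h P x hxN hx u huN huP,
      conj_eq_inv_of_fix h P x hxN hx z hz u huN huP hfix⟩, (smul_base_eq_iff (NP P) u).2 huN⟩

/-- Exactly two conjugates of `x` inverted by the involution `z` fix a given point. -/
theorem card_inverted_fix (h : Nat.card G = 5472) (P : Sylow 19 G) (x : G)
    (hxN : x ∈ NP P) (hx : orderOf x = 3) (z : G) (hz : orderOf z = 2) (α : G ⧸ NP P) :
    Nat.card {u : G // (IsConj x u ∧ z * u * z⁻¹ = u⁻¹) ∧ u • α = α} = 2 := by
  obtain ⟨g, rfl⟩ : ∃ g : G, g • ((1 : G) : G ⧸ NP P) = α := by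
    obtain ⟨g, hg⟩ := QuotientGroup.mk_surjective α
    refine ⟨g, ?_⟩
    rw [← hg, MulAction.Quotient.smul_coe, smul_eq_mul, mul_one]
  have hz' : orderOf (g⁻¹ * z * g) = 2 := by
    have := orderOf_conj_eq g⁻¹ z
    rw [inv_inv] at this
    rw [this, hz]
  rw [← card_inverted_fix_base h P x hxN hx (g⁻¹ * z * g) hz']
  apply Nat.card_congr
  refine
    { toFun := fun u => ⟨g⁻¹ * u.1 * g, ⟨?_, ?_⟩, ?_⟩
      invFun := fun u => ⟨g * u.1 * g⁻¹, ⟨?_, ?_⟩, ?_⟩
      left_inv := fun u => Subtype.ext (by group)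
      right_inv := fun u => Subtype.ext (by group) }
  · exact u.2.1.1.trans (isConj_iff.2 ⟨g⁻¹, by group⟩)
  · have h1 := u.2.1.2
    calc g⁻¹ * z * g * (g⁻¹ * u.1 * g) * (g⁻¹ * z * g)⁻¹
        = g⁻¹ * (z * u.1 * z⁻¹) * g := by group
      _ = g⁻¹ * u.1⁻¹ * g := by rw [h1]
      _ = (g⁻¹ * u.1 * g)⁻¹ := by group
  · have h1 := u.2.2
    rw [mul_smul, mul_smul, h1, inv_smul_smul]
  · exact u.2.1.1.trans (isConj_iff.2 ⟨g, rfl⟩)
  · have h1 := u.2.1.2
    calc z * (g * u.1 * g⁻¹) * z⁻¹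
        = g * (g⁻¹ * z * g * u.1 * (g⁻¹ * z * g)⁻¹) * g⁻¹ := by group
      _ = g * u.1⁻¹ * g⁻¹ := by rw [h1]
      _ = (g * u.1 * g⁻¹)⁻¹ := by group
  · have h1 := u.2.2
    rw [mul_smul, mul_smul, inv_smul_smul, h1]

/-- An involution inverts exactly `32` conjugates of `x`. -/
theorem card_inverted (h : Nat.card G = 5472) (P : Sylow 19 G) (x : G)
    (hxN : x ∈ NP P) (hx : orderOf x = 3) (z : G) (hz : orderOf z = 2) :
    Nat.card {u : G // IsConj x u ∧ z * u * z⁻¹ = u⁻¹} = 32 := by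
  classical
  have := Fintype.ofFinite G
  have := Fintype.ofFinite (G ⧸ NP P)
  set I : Finset G := Finset.univ.filter (fun u : G => IsConj x u ∧ z * u * z⁻¹ = u⁻¹) with hI
  have hIcard : Nat.card {u : G // IsConj x u ∧ z * u * z⁻¹ = u⁻¹} = I.card := by
    rw [Nat.card_eq_fintype_card, Fintype.card_subtype]
  have hΩcard : (Finset.univ : Finset (G ⧸ NP P)).card = 96 := by
    rw [Finset.card_univ, ← Nat.card_eq_fintype_card, card_quotient19 h P]
  have hdc := Finset.sum_card_bipartiteAbove_eq_sum_card_bipartiteBelow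
    (fun (u : G) (q : G ⧸ NP P) => u • q = q) (s := I) (t := (Finset.univ : Finset (G ⧸ NP P)))
  have hleft : ∀ u ∈ I, ((Finset.univ : Finset (G ⧸ NP P)).bipartiteAbove
      (fun (u : G) (q : G ⧸ NP P) => u • q = q) u).card = 6 := by
    intro u hu
    rw [hI, Finset.mem_filter] at hu
    have h2 := card_fixedBy_of_isConj h P x hxN hx u hu.2.1
    rw [← h2, Nat.card_eq_fintype_card]
    have e : Fintype.card (fixedBy (G ⧸ NP P) u) =
        (Finset.univ.filter (fun q : G ⧸ NP P => u • q = q)).card := Fintype.card_subtype _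
    rw [e]
    rfl
  have hright : ∀ q ∈ (Finset.univ : Finset (G ⧸ NP P)),
      (I.bipartiteBelow (fun (u : G) (q : G ⧸ NP P) => u • q = q) q).card = 2 := by
    intro q _
    have h1 := card_inverted_fix h P x hxN hx z hz q
    have e : I.bipartiteBelow (fun (u : G) (q : G ⧸ NP P) => u • q = q) q =
        Finset.univ.filter
          (fun u : G => (IsConj x u ∧ z * u * z⁻¹ = u⁻¹) ∧ u • q = q) := by
      ext u
      simp only [Finset.bipartiteBelow, hI, Finset.mem_filter, Finset.mem_univ, true_and]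
    rw [e, ← h1, Nat.card_eq_fintype_card, Fintype.card_subtype]
  rw [Finset.sum_congr rfl hleft, Finset.sum_congr rfl hright, Finset.sum_const, Finset.sum_const,
    hΩcard, smul_eq_mul, smul_eq_mul] at hdc
  rw [hIcard]
  omega

end Cfsg.Agent.Lib.Helper17.Simple5472
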