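import Mathlib
import Cfsg.Agent.Lib.Helper17.Simple5472e

set_option autoImplicit false

/-!
# Simple groups of order 5472: elements of order 6 do not exist, and the final count
-/

namespace Cfsg.Agent.Lib.Helper17.Simple5472

open MulAction Subgroup

attribute [local instance] fact19 fact3 fact2

/-- A subgroup acting freely by conjugation on a set of elements has order dividing the size of
the set. -/
theorem card_dvd_of_free_conj {G : Type*} [Group G] (H : Subgroup G) (S : Set G)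
    (hinv : ∀ a ∈ H, ∀ s ∈ S, a * s * a⁻¹ ∈ S)
    (hfree : ∀ a ∈ H, ∀ s ∈ S, a * s * a⁻¹ = s → a = 1) : Nat.card H ∣ Nat.card S := by
  let act : MulAction H S :=
    { smul := fun a s => ⟨a.1 * s.1 * a.1⁻¹, hinv a.1 a.2 s.1 s.2⟩
      one_smul := fun s => Subtype.ext (by
        show ((1 : H) : G) * s.1 * ((1 : H) : G)⁻¹ = s.1
        rw [Subgroup.coe_one]; group)
      mul_smul := fun a b s => Subtype.ext (by
        show ((a * b : H) : G) * s.1 * ((a * b : H) : G)⁻¹ = a.1 * (b.1 * s.1 * b.1⁻¹) * a.1⁻¹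
        rw [Subgroup.coe_mul]; group) }
  have hstab : ∀ s : S, MulAction.stabilizer H s = ⊥ := by
    intro s
    rw [eq_bot_iff]
    intro a ha
    rw [MulAction.mem_stabilizer_iff] at ha
    have h1 : a.1 * s.1 * a.1⁻¹ = s.1 := congrArg Subtype.val ha
    rw [Subgroup.mem_bot]
    exact Subtype.ext (hfree a.1 a.2 s.1 s.2 h1)
  have e := MulAction.selfEquivOrbitsQuotientProd hstab
  rw [Nat.card_congr e, Nat.card_prod]
  exact Dvd.intro_left _ rfl

/-- A set closed under conjugation by an element `y` with `y ^ p = 1`, without fixed points, has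
cardinality divisible by `p`. -/
theorem dvd_card_of_conj_invariant {G : Type*} [Group G] (p : ℕ) [hp : Fact p.Prime] (y : G)
    (hy : y ^ p = 1)
    (S : Set G) [Finite S] (hS : ∀ s ∈ S, y * s * y⁻¹ ∈ S) (hS' : ∀ s ∈ S, y⁻¹ * s * y ∈ S)
    (hfix : ∀ s ∈ S, y * s * y⁻¹ ≠ s) : p ∣ Nat.card S := by
  classical
  have := Fintype.ofFinite S
  let σ : Equiv.Perm S :=
    { toFun := fun s => ⟨y * s.1 * y⁻¹, hS s.1 s.2⟩
      invFun := fun s => ⟨y⁻¹ * s.1 * y, hS' s.1 s.2⟩
      left_inv := fun s => Subtype.ext (by simp [mul_assoc])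
      right_inv := fun s => Subtype.ext (by simp [mul_assoc]) }
  have hpow : ∀ (k : ℕ) (s : S), ((σ ^ k) s).1 = y ^ k * s.1 * (y ^ k)⁻¹ := by
    intro k
    induction k with
    | zero => intro s; simp
    | succ k ih =>
      intro s
      rw [pow_succ', Equiv.Perm.mul_apply]
      show y * ((σ ^ k) s).1 * y⁻¹ = _
      rw [ih s, pow_succ']
      group
  have hσ : σ ^ p ^ 1 = 1 := by
    rw [pow_one]
    ext s
    rw [hpow p s, hy]
    simp
  by_contra hdvd
  rw [Nat.card_eq_fintype_card] at hdvd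
  obtain ⟨a, ha⟩ := Equiv.Perm.exists_fixed_point_of_prime hdvd hσ
  exact hfix a.1 a.2 (congrArg Subtype.val ha)

variable {G : Type*} [Group G] [Finite G] [IsSimpleGroup G]

/-- No element of order `3` commutes with an involution. -/
theorem not_commute_three_two (h : Nat.card G = 5472) (P : Sylow 19 G) (x : G)
    (hxN : x ∈ NP P) (hx : orderOf x = 3) (c z : G) (hc : orderOf c = 3) (hz : orderOf z = 2) :
    c * z ≠ z * c := by
  intro hcz
  have hG := not_comm h
  have hzz := mul_self_of_orderOf_two hz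
  have hzinv := inv_eq_self_of_orderOf_two hz
  have hc3 := pow_three_eq_one hc
  set S : Set G := {u : G | IsConj x u ∧ z * u * z⁻¹ = u⁻¹} with hS
  have hScard : Nat.card S = 32 := card_inverted h P x hxN hx z hz
  have hczinv : c⁻¹ * z = z * c⁻¹ := by
    calc c⁻¹ * z = c⁻¹ * (z * c) * c⁻¹ := by group
      _ = c⁻¹ * (c * z) * c⁻¹ := by rw [hcz]
      _ = z * c⁻¹ := by group
  have hex : ∃ u ∈ S, c * u * c⁻¹ = u := by
    by_contra hall
    push Not at hall
    have hd := dvd_card_of_conj_invariant 3 c hc3 S ?_ ?_ hall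
    · rw [hScard] at hd
      revert hd
      decide
    · rintro s ⟨hs1, hs2⟩
      refine ⟨hs1.trans (isConj_iff.2 ⟨c, rfl⟩), ?_⟩
      calc z * (c * s * c⁻¹) * z⁻¹ = (z * c) * s * (c⁻¹ * z⁻¹) := by group
        _ = (c * z) * s * (z * c)⁻¹ := by rw [hcz]; group
        _ = (c * z) * s * (c * z)⁻¹ := by rw [hcz]
        _ = c * (z * s * z⁻¹) * c⁻¹ := by group
        _ = c * s⁻¹ * c⁻¹ := by rw [hs2]
        _ = (c * s * c⁻¹)⁻¹ := by group
    · rintro s ⟨hs1, hs2⟩
      refine ⟨hs1.trans (isConj_iff.2 ⟨c⁻¹, by group⟩), ?_⟩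
      calc z * (c⁻¹ * s * c) * z⁻¹ = (z * c⁻¹) * s * (z * c⁻¹)⁻¹ := by group
        _ = (c⁻¹ * z) * s * (c⁻¹ * z)⁻¹ := by rw [hczinv]
        _ = c⁻¹ * (z * s * z⁻¹) * c := by group
        _ = c⁻¹ * s⁻¹ * c := by rw [hs2]
        _ = (c⁻¹ * s * c)⁻¹ := by group
  obtain ⟨u, ⟨hu1, hu2⟩, hcu⟩ := hex
  have huo := orderOf_of_isConj hx hu1
  have h9 := card_centralizer_of_isConj h P x hxN hx u hu1
  obtain ⟨Q, huQ⟩ := exists_sylow_mem_of_orderOf_eq u huo
  have hcC : c ∈ centralizer ({u} : Set G) := by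
    rw [Subgroup.mem_centralizer_singleton_iff]
    calc c * u = (c * u * c⁻¹) * c := by group
      _ = u * c := by rw [hcu]
  have hc9 : c ^ 9 = 1 := by
    calc c ^ 9 = (c ^ 3) ^ 3 := by rw [← pow_mul]
      _ = 1 := by rw [hc3, one_pow]
  have hcQ : c ∈ (Q : Subgroup G) := mem_sylow3_of_mem_centralizer h Q u huQ (Or.inl h9) c hcC hc9
  have hQC : (Q : Subgroup G) = centralizer ({u} : Set G) := by
    apply Subgroup.eq_of_le_of_card_ge (sylow3_le_centralizer h Q u huQ)
    rw [h9, card_sylow3 h Q]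
  have huinv : z * u⁻¹ * z⁻¹ = u := by
    calc z * u⁻¹ * z⁻¹ = (z * u * z⁻¹)⁻¹ := by group
      _ = u := by rw [hu2, inv_inv]
  have hstep : ∀ q : G, q ∈ (Q : Subgroup G) → z * q * z⁻¹ ∈ (Q : Subgroup G) := by
    intro q hq
    rw [hQC, Subgroup.mem_centralizer_singleton_iff] at hq ⊢
    have hq' : q * u⁻¹ = u⁻¹ * q := by
      calc q * u⁻¹ = u⁻¹ * (u * q) * u⁻¹ := by group
        _ = u⁻¹ * (q * u) * u⁻¹ := by rw [hq]
        _ = u⁻¹ * q := by group
    calc z * q * z⁻¹ * u = z * q * z⁻¹ * (z * u⁻¹ * z⁻¹) := by rw [huinv]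
      _ = z * (q * u⁻¹) * z⁻¹ := by group
      _ = z * (u⁻¹ * q) * z⁻¹ := by rw [hq']
      _ = (z * u⁻¹ * z⁻¹) * (z * q * z⁻¹) := by group
      _ = u * (z * q * z⁻¹) := by rw [huinv]
  have hzN : z ∈ NQ Q := by
    rw [Subgroup.mem_normalizer_iff]
    intro q
    refine ⟨hstep q, fun hq => ?_⟩
    have := hstep _ hq
    have e : z * (z * q * z⁻¹) * z⁻¹ = q := by
      calc z * (z * q * z⁻¹) * z⁻¹ = (z * z) * q * (z * z)⁻¹ := by group
        _ = q := by rw [hzz]; group
    rwa [e] at this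
  have hzQ : z ∉ (Q : Subgroup G) := by
    intro hzQ
    have := Subgroup.orderOf_dvd_natCard _ hzQ
    rw [hz, card_sylow3 h Q] at this
    revert this
    decide
  have hc1 := ne_one_of_orderOf_three hc
  rcases card_normalizer3_cases h Q u huo huQ h9 with h18 | ⟨-, hall⟩
  · have : IsMulCommutative (Q : Subgroup G) :=
      ⟨⟨fun a b => Subtype.ext (sylow3_comm h Q a b a.2 b.2)⟩⟩
    have hinv := conj_eq_inv_of_card_normalizer_eq_two_mul hG Q
      (by rw [card_sylow3 h Q]; exact h18) hzN hzQ hcQ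
    apply inv_ne_self_of_orderOf_three hc
    rw [← hinv]
    calc z * c * z⁻¹ = (c * z) * z⁻¹ := by rw [hcz]
      _ = c := by group
  · have hconj := hall c hcQ hc1
    have h9c : Nat.card (centralizer ({c} : Set G)) = 9 := by
      rw [← card_centralizer_eq_of_isConj hconj]
      exact h9
    have hzC : z ∈ centralizer ({c} : Set G) := by
      rw [Subgroup.mem_centralizer_singleton_iff]
      exact hcz.symm
    have := Subgroup.orderOf_dvd_natCard _ hzC
    rw [hz, h9c] at this
    revert this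
    decide

/-- No element of even order commutes with an element of order divisible by `3`. -/
theorem not_commute_of_two_dvd_of_three_dvd (h : Nat.card G = 5472) (P : Sylow 19 G) (x : G)
    (hxN : x ∈ NP P) (hx : orderOf x = 3) (a b : G) (ha : 2 ∣ orderOf a) (hb : 3 ∣ orderOf b) :
    a * b ≠ b * a := by
  intro hab
  have hz : orderOf (a ^ (orderOf a / 2)) = 2 :=
    orderOf_pow_orderOf_div (orderOf_pos a).ne' ha
  have hc : orderOf (b ^ (orderOf b / 3)) = 3 :=
    orderOf_pow_orderOf_div (orderOf_pos b).ne' hb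
  have hcomm : Commute b a := hab.symm
  have := (hcomm.pow_pow (orderOf b / 3) (orderOf a / 2)).eq
  exact not_commute_three_two h P x hxN hx _ _ hc hz this

end Cfsg.Agent.Lib.Helper17.Simple5472
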