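import Mathlib
import Cfsg.Agent.Lib.Helper17.Simple5472f

set_option autoImplicit false

/-!
# Simple groups of order 5472: the final count
-/

namespace Cfsg.Agent.Lib.Helper17.Simple5472

open MulAction Subgroup

attribute [local instance] fact19 fact3 fact2

variable {G : Type*} [Group G] [Finite G] [IsSimpleGroup G]

omit [Finite G] [IsSimpleGroup G] in
theorem two_dvd_orderOf_of_pow (a : G) (ha : a ^ 32 = 1) (ha1 : a ≠ 1) : 2 ∣ orderOf a := by
  have h1 : orderOf a ∣ 2 ^ 5 := by
    have : (2 : ℕ) ^ 5 = 32 := by norm_num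
    rw [this]
    exact orderOf_dvd_of_pow_eq_one ha
  obtain ⟨k, -, hk⟩ := (Nat.dvd_prime_pow (by norm_num : Nat.Prime 2)).1 h1
  rw [hk]
  have hk0 : k ≠ 0 := by
    rintro rfl
    rw [pow_zero] at hk
    exact ha1 (orderOf_eq_one_iff.1 hk)
  exact dvd_pow_self 2 hk0

omit [Finite G] [IsSimpleGroup G] in
theorem three_dvd_orderOf_of_pow (a : G) (ha : a ^ 9 = 1) (ha1 : a ≠ 1) : 3 ∣ orderOf a := by
  have h1 : orderOf a ∣ 3 ^ 2 := by
    have : (3 : ℕ) ^ 2 = 9 := by norm_num
    rw [this]
    exact orderOf_dvd_of_pow_eq_one ha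
  obtain ⟨k, -, hk⟩ := (Nat.dvd_prime_pow (by norm_num : Nat.Prime 3)).1 h1
  rw [hk]
  have hk0 : k ≠ 0 := by
    rintro rfl
    rw [pow_zero] at hk
    exact ha1 (orderOf_eq_one_iff.1 hk)
  exact dvd_pow_self 3 hk0

omit [Finite G] [IsSimpleGroup G] in
theorem conj_pow_eq_one (a s : G) (n : ℕ) (hs : s ^ n = 1) : (a * s * a⁻¹) ^ n = 1 := by
  rw [conj_pow, hs]; group

omit [Finite G] [IsSimpleGroup G] in
theorem conj_ne_one (a s : G) (hs : s ≠ 1) : a * s * a⁻¹ ≠ 1 := by
  intro h1
  apply hs
  calc s = a⁻¹ * (a * s * a⁻¹) * a := by group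
    _ = 1 := by rw [h1]; group

omit [Finite G] [IsSimpleGroup G] in
theorem commute_of_conj_eq {a s : G} (h1 : a * s * a⁻¹ = s) : a * s = s * a := by
  calc a * s = (a * s * a⁻¹) * a := by group
    _ = s * a := by rw [h1]

/-- An element of order `19` does not centralize a non-identity `3`-element or `2`-element. -/
theorem conj_ne_of_orderOf_19 (h : Nat.card G = 5472) (y s : G) (hy : orderOf y = 19)
    (hs1 : s ≠ 1) (hs : s ^ 9 = 1 ∨ s ^ 32 = 1) : y * s * y⁻¹ ≠ s := by
  intro h1
  have hcomm : s * y = y * s := (commute_of_conj_eq h1).symm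
  have h19 := orderOf_dvd_of_commute_19 h y s hy hcomm
  have hd : orderOf s ∣ 1 := by
    rcases hs with hs | hs
    · have h9 := orderOf_dvd_of_pow_eq_one hs
      have := Nat.dvd_gcd h19 h9
      simpa using this
    · have h32 := orderOf_dvd_of_pow_eq_one hs
      have := Nat.dvd_gcd h19 h32
      simpa using this
  exact hs1 (orderOf_eq_one_iff.1 (Nat.dvd_one.1 hd))

/-- Every non-identity element has prime power order. -/
theorem orderOf_cases (h : Nat.card G = 5472) (P : Sylow 19 G) (x : G)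
    (hxN : x ∈ NP P) (hx : orderOf x = 3) (g : G) (hg1 : g ≠ 1) :
    orderOf g = 19 ∨ g ^ 9 = 1 ∨ g ^ 32 = 1 := by
  have ho : orderOf g ∣ 5472 := by rw [← h]; exact orderOf_dvd_natCard g
  by_cases h19 : 19 ∣ orderOf g
  · left
    have hy : orderOf (g ^ (orderOf g / 19)) = 19 :=
      orderOf_pow_orderOf_div (orderOf_pos g).ne' h19
    have hcomm : g * g ^ (orderOf g / 19) = g ^ (orderOf g / 19) * g :=
      (Commute.self_pow g _).eq
    have := orderOf_dvd_of_commute_19 h _ g hy hcomm
    rcases (Nat.dvd_prime (by norm_num)).1 this with h1 | h1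
    · exact absurd (orderOf_eq_one_iff.1 h1) hg1
    · exact h1
  · right
    have hcop : Nat.Coprime (orderOf g) 19 :=
      ((Nat.Prime.coprime_iff_not_dvd (by norm_num)).2 h19).symm
    have h288 : orderOf g ∣ 288 := by
      have ho' : orderOf g ∣ 19 * 288 := by norm_num; exact ho
      exact hcop.dvd_of_dvd_mul_left ho'
    by_cases h2 : 2 ∣ orderOf g
    · by_cases h3 : 3 ∣ orderOf g
      · exact absurd rfl (not_commute_of_two_dvd_of_three_dvd h P x hxN hx g g h2 h3)
      · right
        have hcop3 : Nat.Coprime (orderOf g) 9 := by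
          have : Nat.Coprime (orderOf g) 3 :=
            ((Nat.Prime.coprime_iff_not_dvd (by norm_num)).2 h3).symm
          have h9 : (9 : ℕ) = 3 ^ 2 := by norm_num
          rw [h9]
          exact Nat.Coprime.pow_right 2 this
        have ho' : orderOf g ∣ 9 * 32 := by norm_num; exact h288
        exact orderOf_dvd_iff_pow_eq_one.1 (hcop3.dvd_of_dvd_mul_left ho')
    · left
      have hcop2 : Nat.Coprime (orderOf g) 32 := by
        have : Nat.Coprime (orderOf g) 2 :=
          ((Nat.Prime.coprime_iff_not_dvd (by norm_num)).2 h2).symm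
        have h32 : (32 : ℕ) = 2 ^ 5 := by norm_num
        rw [h32]
        exact Nat.Coprime.pow_right 5 this
      have ho' : orderOf g ∣ 32 * 9 := by norm_num; exact h288
      exact orderOf_dvd_iff_pow_eq_one.1 (hcop2.dvd_of_dvd_mul_left ho')

/-- The number of non-identity `3`-elements is divisible by `608`. -/
theorem dvd_card_three_elements (h : Nat.card G = 5472) (P : Sylow 19 G) (x : G)
    (hxN : x ∈ NP P) (hx : orderOf x = 3) :
    608 ∣ Nat.card ({g : G | g ≠ 1 ∧ g ^ 9 = 1} : Set G) := by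
  set S : Set G := {g : G | g ≠ 1 ∧ g ^ 9 = 1} with hS
  obtain ⟨T⟩ := (Sylow.nonempty : Nonempty (Sylow 2 G))
  have h32 : 32 ∣ Nat.card S := by
    rw [← card_sylow2 h T]
    apply card_dvd_of_free_conj
    · rintro a - s ⟨hs1, hs9⟩
      exact ⟨conj_ne_one a s hs1, conj_pow_eq_one a s 9 hs9⟩
    · rintro a ha s ⟨hs1, hs9⟩ hfix
      by_contra ha1
      have ha32 : a ^ 32 = 1 := by
        have := Subgroup.orderOf_dvd_natCard _ ha
        rw [card_sylow2 h T] at this
        exact orderOf_dvd_iff_pow_eq_one.1 this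
      exact not_commute_of_two_dvd_of_three_dvd h P x hxN hx a s
        (two_dvd_orderOf_of_pow a ha32 ha1) (three_dvd_orderOf_of_pow s hs9 hs1)
        (commute_of_conj_eq hfix)
  have h19 : 19 ∣ Nat.card S := by
    obtain ⟨y, hy⟩ := exists_prime_orderOf_dvd_card' (G := G) 19 (by rw [h]; norm_num)
    have hy19 : y ^ 19 = 1 := by rw [← hy]; exact pow_orderOf_eq_one y
    apply dvd_card_of_conj_invariant 19 y hy19 S
    · rintro s ⟨hs1, hs9⟩
      exact ⟨conj_ne_one y s hs1, conj_pow_eq_one y s 9 hs9⟩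
    · rintro s ⟨hs1, hs9⟩
      have := conj_pow_eq_one y⁻¹ s 9 hs9
      have h2 := conj_ne_one y⁻¹ s hs1
      rw [inv_inv] at this h2
      exact ⟨h2, this⟩
    · rintro s ⟨hs1, hs9⟩
      exact conj_ne_of_orderOf_19 h y s hy hs1 (Or.inl hs9)
  exact Nat.Coprime.mul_dvd_of_dvd_of_dvd (by norm_num : Nat.Coprime 32 19) h32 h19

/-- The number of non-identity `2`-elements is divisible by `171`. -/
theorem dvd_card_two_elements (h : Nat.card G = 5472) (P : Sylow 19 G) (x : G)
    (hxN : x ∈ NP P) (hx : orderOf x = 3) :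
    171 ∣ Nat.card ({g : G | g ≠ 1 ∧ g ^ 32 = 1} : Set G) := by
  set S : Set G := {g : G | g ≠ 1 ∧ g ^ 32 = 1} with hS
  obtain ⟨Q⟩ := (Sylow.nonempty : Nonempty (Sylow 3 G))
  have h9 : 9 ∣ Nat.card S := by
    rw [← card_sylow3 h Q]
    apply card_dvd_of_free_conj
    · rintro a - s ⟨hs1, hs32⟩
      exact ⟨conj_ne_one a s hs1, conj_pow_eq_one a s 32 hs32⟩
    · rintro a ha s ⟨hs1, hs32⟩ hfix
      by_contra ha1
      have ha9 : a ^ 9 = 1 := pow_nine_eq_one_of_mem h Q a ha
      exact not_commute_of_two_dvd_of_three_dvd h P x hxN hx s a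
        (two_dvd_orderOf_of_pow s hs32 hs1) (three_dvd_orderOf_of_pow a ha9 ha1)
        (commute_of_conj_eq hfix).symm
  have h19 : 19 ∣ Nat.card S := by
    obtain ⟨y, hy⟩ := exists_prime_orderOf_dvd_card' (G := G) 19 (by rw [h]; norm_num)
    have hy19 : y ^ 19 = 1 := by rw [← hy]; exact pow_orderOf_eq_one y
    apply dvd_card_of_conj_invariant 19 y hy19 S
    · rintro s ⟨hs1, hs32⟩
      exact ⟨conj_ne_one y s hs1, conj_pow_eq_one y s 32 hs32⟩
    · rintro s ⟨hs1, hs32⟩
      have := conj_pow_eq_one y⁻¹ s 32 hs32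
      have h2 := conj_ne_one y⁻¹ s hs1
      rw [inv_inv] at this h2
      exact ⟨h2, this⟩
    · rintro s ⟨hs1, hs32⟩
      exact conj_ne_of_orderOf_19 h y s hy hs1 (Or.inr hs32)
  exact Nat.Coprime.mul_dvd_of_dvd_of_dvd (by norm_num : Nat.Coprime 9 19) h9 h19

/-- The class equation by element orders. -/
theorem card_eq_sum (h : Nat.card G = 5472) (P : Sylow 19 G) (x : G)
    (hxN : x ∈ NP P) (hx : orderOf x = 3) :
    5472 = 1 + 1728 + Nat.card ({g : G | g ≠ 1 ∧ g ^ 9 = 1} : Set G) +
      Nat.card ({g : G | g ≠ 1 ∧ g ^ 32 = 1} : Set G) := by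
  classical
  have := Fintype.ofFinite G
  have h19 : (Finset.univ.filter (fun g : G => orderOf g = 19)).card = 1728 := by
    have := card_orderOf_eq_prime (G := G) (p := 19) (fun P => card_sylow19 h P)
    rw [card_sylow19_eq h, Nat.card_eq_fintype_card, Fintype.card_subtype] at this
    rw [this]
  have hT3 : Nat.card ({g : G | g ≠ 1 ∧ g ^ 9 = 1} : Set G) + 1 =
      (Finset.univ.filter (fun g : G => g ^ 9 = 1)).card := by
    have e1 : Nat.card ({g : G | g ≠ 1 ∧ g ^ 9 = 1} : Set G) =
        (Finset.univ.filter (fun g : G => g ≠ 1 ∧ g ^ 9 = 1)).card := by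
      rw [Nat.card_eq_fintype_card]
      exact Fintype.card_subtype _
    have e2 : Finset.univ.filter (fun g : G => g ≠ 1 ∧ g ^ 9 = 1) =
        (Finset.univ.filter (fun g : G => g ^ 9 = 1)).erase 1 := by
      ext g
      simp only [Finset.mem_filter, Finset.mem_univ, true_and, Finset.mem_erase]
    have hmem : (1 : G) ∈ Finset.univ.filter (fun g : G => g ^ 9 = 1) := by
      rw [Finset.mem_filter]
      exact ⟨Finset.mem_univ _, one_pow 9⟩
    rw [e1, e2, Finset.card_erase_of_mem hmem]
    have : 0 < (Finset.univ.filter (fun g : G => g ^ 9 = 1)).card := Finset.card_pos.2 ⟨_, hmem⟩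
    omega
  have hT2 : Nat.card ({g : G | g ≠ 1 ∧ g ^ 32 = 1} : Set G) =
      (Finset.univ.filter (fun g : G => g ≠ 1 ∧ g ^ 32 = 1)).card := by
    rw [Nat.card_eq_fintype_card]
    exact Fintype.card_subtype _
  have step1 := Finset.card_filter_add_card_filter_not (s := (Finset.univ : Finset G))
    (fun g : G => orderOf g = 19)
  have step2 := Finset.card_filter_add_card_filter_not
    (s := Finset.univ.filter (fun g : G => ¬ orderOf g = 19)) (fun g : G => g ^ 9 = 1)
  have e3 : (Finset.univ.filter (fun g : G => ¬ orderOf g = 19)).filter (fun g : G => g ^ 9 = 1) =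
      Finset.univ.filter (fun g : G => g ^ 9 = 1) := by
    ext g
    simp only [Finset.mem_filter, Finset.mem_univ, true_and]
    constructor
    · exact fun hg => hg.2
    · intro hg
      refine ⟨?_, hg⟩
      intro h19'
      have := orderOf_dvd_of_pow_eq_one hg
      rw [h19'] at this
      revert this
      decide
  have e4 : (Finset.univ.filter (fun g : G => ¬ orderOf g = 19)).filter
      (fun g : G => ¬ g ^ 9 = 1) = Finset.univ.filter (fun g : G => g ≠ 1 ∧ g ^ 32 = 1) := by
    ext g
    simp only [Finset.mem_filter, Finset.mem_univ, true_and]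
    constructor
    · rintro ⟨hg19, hg9⟩
      have hg1 : g ≠ 1 := by
        rintro rfl
        exact hg9 (one_pow 9)
      refine ⟨hg1, ?_⟩
      rcases orderOf_cases h P x hxN hx g hg1 with h1 | h1 | h1
      · exact absurd h1 hg19
      · exact absurd h1 hg9
      · exact h1
    · rintro ⟨hg1, hg32⟩
      have h32 := orderOf_dvd_of_pow_eq_one hg32
      refine ⟨?_, ?_⟩
      · intro h19'
        rw [h19'] at h32
        revert h32
        decide
      · intro hg9
        have h9 := orderOf_dvd_of_pow_eq_one hg9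
        have := Nat.dvd_gcd h9 h32
        have h1 : orderOf g ∣ 1 := by simpa using this
        exact hg1 (orderOf_eq_one_iff.1 (Nat.dvd_one.1 h1))
  rw [e3, e4] at step2
  rw [Finset.card_univ, ← Nat.card_eq_fintype_card, h] at step1
  omega

/-- The final contradiction, given an element of order `3` in `N(P)`. -/
theorem false_of_mem (h : Nat.card G = 5472) (P : Sylow 19 G) (x : G)
    (hxN : x ∈ NP P) (hx : orderOf x = 3) : False := by
  have h1 := dvd_card_three_elements h P x hxN hx
  have h2 := dvd_card_two_elements h P x hxN hx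
  have h3 := card_eq_sum h P x hxN hx
  omega

/-- There is no simple group of order `5472`. -/
theorem false_of_card (h : Nat.card G = 5472) : False := by
  obtain ⟨P⟩ := (Sylow.nonempty : Nonempty (Sylow 19 G))
  obtain ⟨x, hxN, hx⟩ := exists_orderOf_three h P
  exact false_of_mem h P x hxN hx

end Cfsg.Agent.Lib.Helper17.Simple5472
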