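import Mathlib
import Cfsg.Prelude.Def_Transfer
import Cfsg.Agent.Lib.Helper17.TransferFour
import Cfsg.Agent.Lib.Helper17.SylowInter

/-!
# An involution with centralizer of order 4 in a group with large Sylow 2-subgroups

(helper17)  If `x` is an involution of the finite group `G` with `C_G(x)` elementary abelian of
order 4, and the Sylow 2-subgroups of `G` have order `≠ 4`, then `G` has a normal elementary
abelian 2-subgroup of order 2 or 4.

Proof: by Thompson transfer `G` has a normal subgroup `M` of index 2 with `x ∉ M`; write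
`C_M(x) = {1, z}`.  A dihedral-group argument shows that `z` commutes with every involution of `M`;
the elements of order `≤ 2` of `M` commuting with every involution of `M` then form a normal
elementary abelian subgroup `E ∋ z`, and `|E| ≤ |C_E(x)|² = 4`.
-/

set_option autoImplicit false

namespace Cfsg.Agent.Lib.Helper17

open Cfsg

/-- Dihedral lemma: for involutions `x`, `t` with `t, t^x ∈ H`, there is `w ∈ H` of order `≤ 2`
commuting with `x` such that either `w ≠ 1` commutes with `t`, or `w` conjugates `t` to `t^x`. -/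
theorem exists_fixed_of_involution_pair {G : Type*} [Group G] [Finite G] (H : Subgroup G)
    (x t : G) (hxx : x * x = 1) (htt : t * t = 1) (ht : t ∈ H) (hxt : x * t * x⁻¹ ∈ H) :
    ∃ w ∈ H, w * w = 1 ∧ x * w = w * x ∧
      ((w ≠ 1 ∧ w * t = t * w) ∨ w * t * w⁻¹ = x * t * x⁻¹) := by
  have htinv : t⁻¹ = t := inv_eq_of_mul_eq_one_left htt
  obtain ⟨t', ht'⟩ : ∃ t', t' = x * t * x⁻¹ := ⟨_, rfl⟩
  rw [← ht'] at hxt ⊢
  have ht't' : t' * t' = 1 := by
    rw [ht']
    calc x * t * x⁻¹ * (x * t * x⁻¹) = x * (t * t) * x⁻¹ := by group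
      _ = 1 := by rw [htt]; group
  have ht'inv : t'⁻¹ = t' := inv_eq_of_mul_eq_one_left ht't'
  have hxt'x : x * t' * x⁻¹ = t := by
    rw [ht']
    calc x * (x * t * x⁻¹) * x⁻¹ = (x * x) * t * (x * x)⁻¹ := by group
      _ = t := by rw [hxx]; group
  obtain ⟨y, hy⟩ : ∃ y, y = t * t' := ⟨_, rfl⟩
  have hyinv : y⁻¹ = t' * t := by
    rw [hy, mul_inv_rev, ht'inv, htinv]
  have hF1 : x * y * x⁻¹ = y⁻¹ := by
    rw [hyinv, hy]
    calc x * (t * t') * x⁻¹ = (x * t * x⁻¹) * (x * t' * x⁻¹) := by group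
      _ = t' * t := by rw [hxt'x, ← ht']
  have hF2 : t * y * t⁻¹ = y⁻¹ := by
    rw [hyinv, hy, htinv]
    calc t * (t * t') * t = (t * t) * t' * t := by group
      _ = t' * t := by rw [htt, one_mul]
  have hyH : y ∈ H := by
    rw [hy]
    exact H.mul_mem ht hxt
  have hF1' : ∀ i : ℕ, x * y ^ i * x⁻¹ = (y ^ i)⁻¹ := by
    intro i
    rw [← conj_pow, hF1, inv_pow]
  have hF2' : ∀ i : ℕ, t * y ^ i * t⁻¹ = (y ^ i)⁻¹ := by
    intro i
    rw [← conj_pow, hF2, inv_pow]
  have hn0 : 0 < orderOf y := orderOf_pos y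
  rcases Nat.even_or_odd' (orderOf y) with ⟨k, hk | hk⟩
  · -- even order
    have hk0 : k ≠ 0 := by omega
    obtain ⟨w, hw⟩ : ∃ w, w = y ^ k := ⟨_, rfl⟩
    have hww : w * w = 1 := by
      rw [hw, ← pow_add, ← two_mul, ← hk]
      exact pow_orderOf_eq_one y
    have hwinv : w⁻¹ = w := inv_eq_of_mul_eq_one_left hww
    have hw1 : w ≠ 1 := by
      rw [hw]
      exact pow_ne_one_of_lt_orderOf hk0 (by omega)
    have hwH : w ∈ H := by
      rw [hw]
      exact H.pow_mem hyH k
    refine ⟨w, hwH, hww, ?_, Or.inl ⟨hw1, ?_⟩⟩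
    · have h1 := hF1' k
      rw [← hw, hwinv] at h1
      calc x * w = (x * w * x⁻¹) * x := by group
        _ = w * x := by rw [h1]
    · have h1 := hF2' k
      rw [← hw, hwinv] at h1
      calc w * t = (t * w * t⁻¹) * t := by rw [h1]
        _ = t * w := by group
  · -- odd order
    obtain ⟨A, hA⟩ : ∃ A, A = y ^ k := ⟨_, rfl⟩
    have hAAy : A * A * y = 1 := by
      rw [hA, ← pow_add, ← pow_succ]
      have : k + k + 1 = orderOf y := by omega
      rw [this]
      exact pow_orderOf_eq_one y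
    have hAH : A ∈ H := by
      rw [hA]
      exact H.pow_mem hyH k
    have hxA : x * A * x⁻¹ = A⁻¹ := by
      rw [hA]
      exact hF1' k
    have htA : t * A * t⁻¹ = A⁻¹ := by
      rw [hA]
      exact hF2' k
    have hAA : A * A = y⁻¹ := eq_inv_of_mul_eq_one_left hAAy
    have ht'y : t' = y⁻¹ * t := by
      calc t' = t⁻¹ * (t * t') := by group
        _ = t * y := by rw [htinv, ← hy]
        _ = (t * y * t⁻¹) * t := by group
        _ = y⁻¹ * t := by rw [hF2]
    have htA' : t * A = A⁻¹ * t := by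
      calc t * A = (t * A * t⁻¹) * t := by group
        _ = A⁻¹ * t := by rw [htA]
    have hxA' : x * A = A⁻¹ * x := by
      calc x * A = (x * A * x⁻¹) * x := by group
        _ = A⁻¹ * x := by rw [hxA]
    have hxt' : x * t = t' * x := by
      rw [ht']
      group
    have hkey : A⁻¹ * t' = A * t := by
      rw [ht'y, ← hAA]
      group
    have htAinv : t * A⁻¹ = A * t := by
      have h1 : t * A⁻¹ * t⁻¹ = A := by
        calc t * A⁻¹ * t⁻¹ = (t * A * t⁻¹)⁻¹ := by group
          _ = A := by rw [htA, inv_inv]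
      calc t * A⁻¹ = (t * A⁻¹ * t⁻¹) * t := by group
        _ = A * t := by rw [h1]
    refine ⟨A * t, H.mul_mem hAH ht, ?_, ?_, Or.inr ?_⟩
    · calc A * t * (A * t) = A * (t * A) * t := by group
        _ = A * (A⁻¹ * t) * t := by rw [htA']
        _ = t * t := by group
        _ = 1 := htt
    · calc x * (A * t) = (x * A) * t := by group
        _ = A⁻¹ * x * t := by rw [hxA']
        _ = A⁻¹ * (x * t) := by group
        _ = A⁻¹ * (t' * x) := by rw [hxt']
        _ = (A⁻¹ * t') * x := by group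
        _ = A * t * x := by rw [hkey]
    · calc A * t * t * (A * t)⁻¹ = A * (t * A⁻¹) := by group
        _ = A * (A * t) := by rw [htAinv]
        _ = (A * A) * t := by group
        _ = y⁻¹ * t := by rw [hAA]
        _ = t' := ht'y.symm

/-- The subgroup of elements of order `≤ 2` of `M` commuting with all elements of order `≤ 2`
of `M`. -/
def involutionCenter {G : Type*} [Group G] (M : Subgroup G) : Subgroup G where
  carrier := {e | e ∈ M ∧ e * e = 1 ∧ ∀ t ∈ M, t * t = 1 → e * t = t * e}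
  one_mem' := ⟨M.one_mem, by simp, fun t _ _ => by simp⟩
  mul_mem' := by
    rintro e f ⟨heM, hee, hec⟩ ⟨hfM, hff, hfc⟩
    have hef : e * f = f * e := hec f hfM hff
    refine ⟨M.mul_mem heM hfM, ?_, ?_⟩
    · calc e * f * (e * f) = e * (f * e) * f := by group
        _ = e * (e * f) * f := by rw [hef]
        _ = (e * e) * (f * f) := by group
        _ = 1 := by rw [hee, hff, one_mul]
    · intro t htM htt
      calc e * f * t = e * (f * t) := by group
        _ = e * (t * f) := by rw [hfc t htM htt]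
        _ = (e * t) * f := by group
        _ = (t * e) * f := by rw [hec t htM htt]
        _ = t * (e * f) := by group
  inv_mem' := by
    rintro e ⟨heM, hee, hec⟩
    have heinv : e⁻¹ = e := inv_eq_of_mul_eq_one_left hee
    change e⁻¹ ∈ {e | e ∈ M ∧ e * e = 1 ∧ ∀ t ∈ M, t * t = 1 → e * t = t * e}
    rw [heinv]
    exact ⟨heM, hee, hec⟩

theorem mem_involutionCenter_iff {G : Type*} [Group G] (M : Subgroup G) (e : G) :
    e ∈ involutionCenter M ↔ e ∈ M ∧ e * e = 1 ∧ ∀ t ∈ M, t * t = 1 → e * t = t * e :=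
  Iff.rfl

theorem involutionCenter_normal {G : Type*} [Group G] (M : Subgroup G) [hM : M.Normal] :
    (involutionCenter M).Normal := by
  constructor
  rintro e ⟨heM, hee, hec⟩ g
  refine ⟨hM.conj_mem e heM g, ?_, ?_⟩
  · calc g * e * g⁻¹ * (g * e * g⁻¹) = g * (e * e) * g⁻¹ := by group
      _ = 1 := by rw [hee]; group
  · intro t htM htt
    have h1 : g⁻¹ * t * g ∈ M := by
      have := hM.conj_mem t htM g⁻¹
      simpa using this
    have h2 : g⁻¹ * t * g * (g⁻¹ * t * g) = 1 := by
      calc g⁻¹ * t * g * (g⁻¹ * t * g) = g⁻¹ * (t * t) * g := by group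
        _ = 1 := by rw [htt]; group
    have h3 := hec _ h1 h2
    calc g * e * g⁻¹ * t = g * (e * (g⁻¹ * t * g)) * g⁻¹ := by group
      _ = g * ((g⁻¹ * t * g) * e) * g⁻¹ := by rw [h3]
      _ = t * (g * e * g⁻¹) := by group

theorem involutionCenter_isElementaryAbelian {G : Type*} [Group G] (M : Subgroup G) :
    Cfsg.IsElementaryAbelian 2 (involutionCenter M) := by
  refine ⟨⟨⟨fun a b => ?_⟩⟩, ?_⟩
  · apply Subtype.ext
    exact a.2.2.2 b.1 b.2.1 b.2.2.1
  · rintro e ⟨_, hee, _⟩
    rw [pow_two]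
    exact hee

/-- An `x`-invariant elementary abelian 2-subgroup `E` with `C_E(x) = {1, z}` has order 2 or 4. -/
theorem card_eq_two_or_four_of_fixed {G : Type*} [Group G] [Finite G] (E : Subgroup G)
    (x z : G) (hxx : x * x = 1) (hz : orderOf z = 2) (hzE : z ∈ E)
    (hEx : ∀ e ∈ E, x * e * x⁻¹ ∈ E) (hEc : ∀ a ∈ E, ∀ b ∈ E, a * b = b * a)
    (hEe : ∀ e ∈ E, e * e = 1)
    (hfix : ∀ e ∈ E, x * e = e * x → e = 1 ∨ e = z) :
    Nat.card E = 2 ∨ Nat.card E = 4 := by
  have hxinv : x⁻¹ = x := inv_eq_of_mul_eq_one_left hxx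
  -- the subgroup `{1, z}` of `E`
  obtain ⟨Z, hZ⟩ : ∃ Z : Subgroup ↥E, Z = Subgroup.zpowers (⟨z, hzE⟩ : ↥E) := ⟨_, rfl⟩
  have hoz : orderOf (⟨z, hzE⟩ : ↥E) = 2 := by
    have h1 : orderOf ((⟨z, hzE⟩ : ↥E) : G) = orderOf (⟨z, hzE⟩ : ↥E) := Subgroup.orderOf_coe _
    rw [← h1]
    exact hz
  have hZ2 : Nat.card Z = 2 := by
    rw [hZ, Nat.card_zpowers, hoz]
  have hmemZ : ∀ e : ↥E, x * (e : G) = (e : G) * x → e ∈ Z := by
    intro e he
    rcases hfix e.1 e.2 he with h | h
    · have : e = 1 := Subtype.ext h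
      rw [this]
      exact Z.one_mem
    · have : e = ⟨z, hzE⟩ := Subtype.ext h
      rw [this, hZ]
      exact Subgroup.mem_zpowers _
  -- the homomorphism `e ↦ e * e^x`
  let φ : ↥E →* ↥E := MonoidHom.mk' (fun e => ⟨(e : G) * (x * (e : G) * x⁻¹),
      E.mul_mem e.2 (hEx e.1 e.2)⟩) (by
    intro a b
    apply Subtype.ext
    simp only [Subgroup.coe_mul]
    have h1 := hEc (b : G) b.2 (x * (a : G) * x⁻¹) (hEx a.1 a.2)
    calc (a : G) * (b : G) * (x * ((a : G) * (b : G)) * x⁻¹)
        = (a : G) * ((b : G) * (x * (a : G) * x⁻¹)) * (x * (b : G) * x⁻¹) := by group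
      _ = (a : G) * ((x * (a : G) * x⁻¹) * (b : G)) * (x * (b : G) * x⁻¹) := by rw [h1]
      _ = (a : G) * (x * (a : G) * x⁻¹) * ((b : G) * (x * (b : G) * x⁻¹)) := by group)
  have hφ : ∀ e : ↥E, ((φ e : ↥E) : G) = (e : G) * (x * (e : G) * x⁻¹) := fun e => rfl
  have hker : φ.ker ≤ Z := by
    intro e he
    rw [MonoidHom.mem_ker] at he
    have h1 : (e : G) * (x * (e : G) * x⁻¹) = 1 := by
      rw [← hφ, he]
      rfl
    apply hmemZ
    have hee := hEe e.1 e.2
    -- x e x⁻¹ = e⁻¹ = e
    have h2 : x * (e : G) * x⁻¹ = (e : G) := by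
      calc x * (e : G) * x⁻¹ = ((e : G) * (e : G)) * (x * (e : G) * x⁻¹) := by rw [hee, one_mul]
        _ = (e : G) * ((e : G) * (x * (e : G) * x⁻¹)) := by group
        _ = (e : G) := by rw [h1, mul_one]
    calc x * (e : G) = (x * (e : G) * x⁻¹) * x := by group
      _ = (e : G) * x := by rw [h2]
  have hrange : φ.range ≤ Z := by
    rintro _ ⟨e, rfl⟩
    apply hmemZ
    rw [hφ]
    have h1 := hEc (e : G) e.2 (x * (e : G) * x⁻¹) (hEx e.1 e.2)
    calc x * ((e : G) * (x * (e : G) * x⁻¹))
        = (x * (e : G) * x⁻¹) * ((x * x) * (e : G) * x⁻¹) := by group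
      _ = (x * (e : G) * x⁻¹) * ((e : G) * x⁻¹) := by rw [hxx, one_mul]
      _ = ((x * (e : G) * x⁻¹) * (e : G)) * x⁻¹ := by group
      _ = ((e : G) * (x * (e : G) * x⁻¹)) * x⁻¹ := by rw [h1]
      _ = (e : G) * (x * (e : G) * x⁻¹) * x := by rw [hxinv]
  have h1 : Nat.card φ.ker ∣ 2 := hZ2 ▸ Subgroup.card_dvd_of_le hker
  have h2 : Nat.card φ.range ∣ 2 := hZ2 ▸ Subgroup.card_dvd_of_le hrange
  have h3 : Nat.card φ.ker * Nat.card φ.range = Nat.card ↥E := by
    rw [← Subgroup.index_ker]
    exact Subgroup.card_mul_index _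
  have h4 : 2 ∣ Nat.card ↥E := hZ2 ▸ Subgroup.card_subgroup_dvd_card Z
  have h5 : Nat.card ↥E ∣ 4 := by
    rw [← h3]
    exact mul_dvd_mul h1 h2
  have h6 : Nat.card ↥E ≤ 4 := Nat.le_of_dvd (by norm_num) h5
  have h7 : 0 < Nat.card ↥E := Nat.card_pos
  obtain ⟨n, hn⟩ : ∃ n, n = Nat.card ↥E := ⟨_, rfl⟩
  rw [← hn] at h4 h5 h6 h7 ⊢
  interval_cases n
  · omega
  · left; rfl
  · omega
  · right; rfl

theorem exists_small_normal_elementary_abelian {G : Type*} [Group G] [Finite G] (x : G)
    (hx : orderOf x = 2) (hC4 : Nat.card ↥(Subgroup.centralizer ({x} : Set G)) = 4)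
    (hCe : ∀ c ∈ Subgroup.centralizer ({x} : Set G), c ^ 2 = 1) (P : Sylow 2 G)
    (hVP : Subgroup.centralizer ({x} : Set G) ≤ (P : Subgroup G))
    (h4 : Nat.card (P : Subgroup G) ≠ 4) :
    ∃ E : Subgroup G, E.Normal ∧ Cfsg.IsElementaryAbelian 2 E ∧
      (Nat.card E = 2 ∨ Nat.card E = 4) := by
  have : Fact (Nat.Prime 2) := ⟨Nat.prime_two⟩
  have hxx : x * x = 1 := by
    rw [← pow_two, ← hx]
    exact pow_orderOf_eq_one x
  have hxinv : x⁻¹ = x := inv_eq_of_mul_eq_one_left hxx
  have hx1 : x ≠ 1 := by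
    rintro rfl
    rw [orderOf_one] at hx
    omega
  have hmemV : ∀ c : G, c ∈ Subgroup.centralizer ({x} : Set G) ↔ x * c = c * x := by
    intro c
    rw [Subgroup.mem_centralizer_iff]
    constructor
    · intro h
      exact h x (Set.mem_singleton x)
    · intro h y hy
      rw [Set.mem_singleton_iff] at hy
      rw [hy]
      exact h
  have hxV : x ∈ Subgroup.centralizer ({x} : Set G) := (hmemV x).2 rfl
  have hxP : x ∈ (P : Subgroup G) := hVP hxV
  have hCP : Nat.card ↥((P : Subgroup G) ⊓ Subgroup.centralizer ({x} : Set G)) = 4 := by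
    rw [inf_eq_right.mpr hVP]
    exact hC4
  have hC8 : ¬ 8 ∣ Nat.card ↥(Subgroup.centralizer ({x} : Set G)) := by
    rw [hC4]
    norm_num
  obtain ⟨M, hMn, hMi, hxM⟩ := exists_normal_index_two_of_centralizer_four P x hx hxP hCP h4 hC8
  have hM2 : ∀ a b : G, a * b ∈ M ↔ (a ∈ M ↔ b ∈ M) := fun a b =>
    Subgroup.mul_mem_iff_of_index_two hMi
  -- V is a Klein four-group
  have hsqV : ∀ c ∈ Subgroup.centralizer ({x} : Set G), c * c = 1 := by
    intro c hc
    rw [← pow_two]
    exact hCe c hc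
  have hntV : Nontrivial ↥(Subgroup.centralizer ({x} : Set G)) := by
    rw [← Finite.one_lt_card_iff_nontrivial, hC4]
    norm_num
  have hKV : IsKleinFour ↥(Subgroup.centralizer ({x} : Set G)) := by
    refine ⟨hC4, ?_⟩
    rw [Monoid.exponent_eq_prime_iff Nat.prime_two]
    intro g hg
    apply orderOf_eq_prime
    · apply Subtype.ext
      rw [Subgroup.coe_pow, Subgroup.coe_one]
      exact hCe g.1 g.2
    · exact hg
  have hcommV : ∀ a ∈ Subgroup.centralizer ({x} : Set G),
      ∀ b ∈ Subgroup.centralizer ({x} : Set G), a * b = b * a := by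
    intro a ha b hb
    have := mul_comm_of_exponent_two hKV.exponent_two
      (⟨a, ha⟩ : ↥(Subgroup.centralizer ({x} : Set G))) ⟨b, hb⟩
    exact congrArg Subtype.val this
  -- an element of V outside {1, x}
  obtain ⟨v, hvV, hv1, hvx⟩ : ∃ v ∈ Subgroup.centralizer ({x} : Set G), v ≠ 1 ∧ v ≠ x := by
    by_contra hall
    push Not at hall
    have hle : Subgroup.centralizer ({x} : Set G) ≤ Subgroup.zpowers x := by
      intro v hv
      by_cases h1 : v = 1
      · rw [h1]
        exact Subgroup.one_mem _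
      · rw [hall v hv h1]
        exact Subgroup.mem_zpowers x
    have := Subgroup.card_le_of_le hle
    rw [hC4, Nat.card_zpowers, hx] at this
    omega
  -- the involution z of V ∩ M
  obtain ⟨z, hzV, hzM, hz1⟩ : ∃ z ∈ Subgroup.centralizer ({x} : Set G), z ∈ M ∧ z ≠ 1 := by
    by_cases hvM : v ∈ M
    · exact ⟨v, hvV, hvM, hv1⟩
    · refine ⟨x * v, Subgroup.mul_mem _ hxV hvV, ?_, ?_⟩
      · rw [hM2]
        constructor
        · intro h
          exact absurd h hxM
        · intro h
          exact absurd h hvM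
      · intro h
        apply hvx
        calc v = x⁻¹ * (x * v) := by group
          _ = x := by rw [h, mul_one, hxinv]
  have hzx : z ≠ x := by
    rintro rfl
    exact hxM hzM
  have hzz : z * z = 1 := hsqV z hzV
  have hoz : orderOf z = 2 := orderOf_eq_prime (by rw [pow_two]; exact hzz) hz1
  have hxzM : x * z ∉ M := by
    rw [hM2]
    intro h
    exact hxM (h.2 hzM)
  have hVlist : ∀ v ∈ Subgroup.centralizer ({x} : Set G), v = 1 ∨ v = x ∨ v = z ∨ v = x * z := by
    intro v hv
    by_cases h1 : v = 1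
    · exact Or.inl h1
    by_cases h2 : v = x
    · exact Or.inr (Or.inl h2)
    by_cases h3 : v = z
    · exact Or.inr (Or.inr (Or.inl h3))
    right; right; right
    have := @IsKleinFour.eq_mul_of_ne_all ↥(Subgroup.centralizer ({x} : Set G)) _ hKV
      ⟨x, hxV⟩ ⟨z, hzV⟩ ⟨v, hv⟩
      (fun h => hx1 (congrArg Subtype.val h)) (fun h => hz1 (congrArg Subtype.val h))
      (fun h => hzx (congrArg Subtype.val h).symm) (fun h => h1 (congrArg Subtype.val h))
      (fun h => h2 (congrArg Subtype.val h)) (fun h => h3 (congrArg Subtype.val h))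
    exact congrArg Subtype.val this
  have hVM : ∀ v ∈ Subgroup.centralizer ({x} : Set G), v ∈ M → v = 1 ∨ v = z := by
    intro v hv hvM
    rcases hVlist v hv with h | h | h | h
    · exact Or.inl h
    · rw [h] at hvM
      exact absurd hvM hxM
    · exact Or.inr h
    · rw [h] at hvM
      exact absurd hvM hxzM
  -- an element of P normalizing V but outside V
  have hnil : Group.IsNilpotent ↥(P : Subgroup G) := P.isPGroup'.isNilpotent
  have hNC : NormalizerCondition ↥(P : Subgroup G) := Group.normalizerCondition_of_isNilpotent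
  have hlt : (Subgroup.centralizer ({x} : Set G)).subgroupOf (P : Subgroup G) < ⊤ := by
    rw [lt_top_iff_ne_top]
    intro h
    rw [Subgroup.subgroupOf_eq_top] at h
    apply h4
    rw [le_antisymm h hVP]
    exact hC4
  obtain ⟨s, hsN, hsV⟩ := SetLike.exists_of_lt (hNC _ hlt)
  have hsV' : (s : G) ∉ Subgroup.centralizer ({x} : Set G) := by
    intro h
    apply hsV
    rw [Subgroup.mem_subgroupOf]
    exact h
  have hsfw : ∀ v ∈ Subgroup.centralizer ({x} : Set G),
      (s : G) * v * (s : G)⁻¹ ∈ Subgroup.centralizer ({x} : Set G) := by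
    intro v hv
    have h1 := (Subgroup.mem_normalizer_iff.mp hsN (⟨v, hVP hv⟩ : ↥(P : Subgroup G))).mp
      (by rw [Subgroup.mem_subgroupOf]; exact hv)
    rw [Subgroup.mem_subgroupOf] at h1
    simpa using h1
  have hsx : (s : G) * x * (s : G)⁻¹ = x * z := by
    have h1 := hsfw x hxV
    rcases hVlist _ h1 with h | h | h | h
    · exfalso
      apply hx1
      calc x = (s : G)⁻¹ * ((s : G) * x * (s : G)⁻¹) * (s : G) := by group
        _ = 1 := by rw [h]; group
    · exfalso
      apply hsV'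
      rw [hmemV]
      calc x * (s : G) = ((s : G) * x * (s : G)⁻¹) * (s : G) := by rw [h]
        _ = (s : G) * x := by group
    · exfalso
      apply hxM
      have h2 : (s : G) * x * (s : G)⁻¹ ∈ M := by
        rw [h]
        exact hzM
      have h3 := hMn.conj_mem _ h2 (s : G)⁻¹
      have e : (s : G)⁻¹ * ((s : G) * x * (s : G)⁻¹) * ((s : G)⁻¹)⁻¹ = x := by group
      rwa [e] at h3
    · exact h
  -- the centralizer of `x * z` is `V`
  have hCxz : ∀ t : G, (x * z) * t = t * (x * z) → t ∈ Subgroup.centralizer ({x} : Set G) := by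
    intro t ht
    rw [← hsx] at ht
    have h1 : (s : G)⁻¹ * t * (s : G) ∈ Subgroup.centralizer ({x} : Set G) := by
      rw [hmemV]
      calc x * ((s : G)⁻¹ * t * (s : G))
          = (s : G)⁻¹ * ((s : G) * x * (s : G)⁻¹ * t) * (s : G) := by group
        _ = (s : G)⁻¹ * (t * ((s : G) * x * (s : G)⁻¹)) * (s : G) := by rw [ht]
        _ = (s : G)⁻¹ * t * (s : G) * x := by group
    have h2 := hsfw _ h1
    have e : (s : G) * ((s : G)⁻¹ * t * (s : G)) * (s : G)⁻¹ = t := by group
    rwa [e] at h2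
  -- `z` commutes with every involution of `M`
  have hclaim : ∀ t ∈ M, t * t = 1 → z * t = t * z := by
    intro t htM htt
    have hxtM : x * t * x⁻¹ ∈ M := hMn.conj_mem t htM x
    obtain ⟨w, hwM, hww, hxw, halt⟩ := exists_fixed_of_involution_pair M x t hxx htt htM hxtM
    have hwV : w ∈ Subgroup.centralizer ({x} : Set G) := (hmemV w).2 hxw
    have hw := hVM w hwV hwM
    have hfin : t ∈ Subgroup.centralizer ({x} : Set G) → z * t = t * z :=
      fun htV => hcommV z hzV t htV
    rcases halt with ⟨hw1, hwt⟩ | hconj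
    · rcases hw with h | h
      · exact absurd h hw1
      · rw [← h]
        exact hwt
    · rcases hw with h | h
      · rw [h] at hconj
        apply hfin
        rw [hmemV]
        have h2 : t = x * t * x⁻¹ := by simpa using hconj
        calc x * t = (x * t * x⁻¹) * x := by group
          _ = t * x := by rw [← h2]
      · rw [h] at hconj
        apply hfin
        apply hCxz
        calc x * z * t = x * (z * t * z⁻¹) * z := by group
          _ = x * (x * t * x⁻¹) * z := by rw [hconj]
          _ = (x * x) * t * x⁻¹ * z := by group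
          _ = t * (x * z) := by rw [hxx, hxinv]; group
  -- the normal elementary abelian subgroup
  have hEn : (involutionCenter M).Normal := @involutionCenter_normal _ _ M hMn
  refine ⟨involutionCenter M, hEn, involutionCenter_isElementaryAbelian M, ?_⟩
  have hzE : z ∈ involutionCenter M := ⟨hzM, hzz, hclaim⟩
  apply card_eq_two_or_four_of_fixed (involutionCenter M) x z hxx hoz hzE
  · intro e he
    exact hEn.conj_mem e he x
  · intro a ha b hb
    exact ha.2.2 b hb.1 hb.2.1
  · intro e he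
    exact he.2.1
  · intro e he hxe
    exact hVM e ((hmemV e).2 hxe) he.1

end Cfsg.Agent.Lib.Helper17
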